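import Cfsg.Agent.Helper16.FrattiniComm
import Cfsg.Agent.Helper16.Large2
import Cfsg.Agent.Helper16.PResidual

set_option autoImplicit false

namespace Cfsg.Agent.Helper16

open Cfsg

variable {G : Type*} [Group G] {p : ℕ}

/-- The normalizer of `P` normalizes (the image of) every characteristic subgroup of `P`. -/
theorem normalizer_le_normalizer_map_of_characteristic (P : Subgroup G) (K : Subgroup ↥P)
    [hK : K.Characteristic] :
    Subgroup.normalizer (P : Set G) ≤
      Subgroup.normalizer ((K.map P.subtype : Subgroup G) : Set G) := by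
  apply le_normalizer_of_conj_mem
  rintro n hn _ ⟨k, hk, rfl⟩
  refine ⟨(P.normalizerMonoidHom ⟨n, hn⟩) k, ?_, rfl⟩
  have h1 := hK.fixed (P.normalizerMonoidHom ⟨n, hn⟩)
  have h2 : k ∈ K.comap (P.normalizerMonoidHom ⟨n, hn⟩).toMonoidHom := by rw [h1]; exact hk
  exact h2

theorem normalizer_le_normalizer_commutator_self (P : Subgroup G) :
    Subgroup.normalizer (P : Set G) ≤ Subgroup.normalizer ((⁅P, P⁆ : Subgroup G) : Set G) := by
  have h := normalizer_le_normalizer_map_of_characteristic P (commutator ↥P)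
  rw [Subgroup.map_subtype_commutator] at h
  exact h

/-- The commutator `[x, y]` as an element of `P`, for `y` normalizing `P`. -/
def commElt (P : Subgroup G) (y : G) (hy : y ∈ Subgroup.normalizer (P : Set G)) (x : ↥P) : ↥P :=
  ⟨(x : G) * y * (x : G)⁻¹ * y⁻¹, by
    have h1 : y * (x : G)⁻¹ * y⁻¹ ∈ P :=
      (Subgroup.mem_normalizer_iff.mp hy _).mp (P.inv_mem x.2)
    have e : (x : G) * y * (x : G)⁻¹ * y⁻¹ = (x : G) * (y * (x : G)⁻¹ * y⁻¹) := by group
    rw [e]
    exact P.mul_mem x.2 h1⟩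

theorem commElt_mul (P : Subgroup G) (y : G) (hy : y ∈ Subgroup.normalizer (P : Set G))
    (x₁ x₂ : ↥P) :
    commElt P y hy (x₁ * x₂) = x₁ * commElt P y hy x₂ * x₁⁻¹ * commElt P y hy x₁ := by
  apply Subtype.ext
  show ((x₁ * x₂ : ↥P) : G) * y * ((x₁ * x₂ : ↥P) : G)⁻¹ * y⁻¹ =
    (x₁ : G) * ((x₂ : G) * y * (x₂ : G)⁻¹ * y⁻¹) * (x₁ : G)⁻¹ * ((x₁ : G) * y * (x₁ : G)⁻¹ * y⁻¹)
  rw [Subgroup.coe_mul]
  group

/-- The map `x ↦ [x, y]` modulo `P'`. -/
noncomputable def commAbHom (P : Subgroup G) (y : G)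
    (hy : y ∈ Subgroup.normalizer (P : Set G)) : ↥P →* Abelianization ↥P :=
  MonoidHom.mk' (fun x => Abelianization.of (commElt P y hy x)) (by
    intro x₁ x₂
    show Abelianization.of (commElt P y hy (x₁ * x₂)) = _
    rw [commElt_mul, map_mul, map_mul, map_mul, map_inv,
      mul_comm (Abelianization.of x₁) (Abelianization.of (commElt P y hy x₂)),
      mul_inv_cancel_right, mul_comm])

/-- If all commutators `[x, y]`, `x ∈ P`, have order dividing `p`, then `[Φ(P), y] ≤ P'`. -/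
theorem frattini_comm_mem_commutator [Finite G] [hp : Fact p.Prime] (P : Subgroup G) (y : G)
    (hy : y ∈ Subgroup.normalizer (P : Set G))
    (hpow : ∀ x ∈ P, (x * y * x⁻¹ * y⁻¹) ^ p = 1) :
    ∀ x ∈ (frattini ↥P).map P.subtype, x * y * x⁻¹ * y⁻¹ ∈ ⁅P, P⁆ := by
  have hle : frattini ↥P ≤ (commAbHom P y hy).ker := by
    apply Cfsg.Agent.Helper24.frattini_le_of_elementary_quotient hp.out
    · intro a b
      rw [MonoidHom.mem_ker, map_commutatorElement, commutatorElement_eq_one_iff_commute]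
      exact Commute.all _ _
    · intro a
      rw [MonoidHom.mem_ker, map_pow]
      show (Abelianization.of (commElt P y hy a)) ^ p = 1
      rw [← map_pow]
      have e : (commElt P y hy a) ^ p = 1 := by
        apply Subtype.ext
        rw [Subgroup.coe_pow]
        exact hpow a a.2
      rw [e, map_one]
  rintro _ ⟨x, hx, rfl⟩
  have h1 : commElt P y hy x ∈ (Abelianization.of : ↥P →* Abelianization ↥P).ker := hle hx
  rw [Abelianization.ker_of] at h1
  have h2 : ((commElt P y hy x : ↥P) : G) ∈ (commutator ↥P).map P.subtype :=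
    Subgroup.mem_map_of_mem _ h1
  rw [Subgroup.map_subtype_commutator] at h2
  exact h2

theorem le_normalizer_commStab {U V X : Subgroup G}
    (hU : X ≤ Subgroup.normalizer (U : Set G)) (hV : X ≤ Subgroup.normalizer (V : Set G)) :
    X ≤ Subgroup.normalizer ((commStab U V : Subgroup G) : Set G) := by
  apply le_normalizer_of_conj_mem
  rintro h hh l ⟨hl, hl'⟩
  refine ⟨Subgroup.mul_mem _ (Subgroup.mul_mem _ (hU hh) hl) (Subgroup.inv_mem _ (hU hh)), ?_⟩
  intro v hv
  have hv' : h⁻¹ * v * h⁻¹⁻¹ ∈ V :=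
    (Subgroup.mem_normalizer_iff.mp (Subgroup.inv_mem _ (hV hh)) v).mp hv
  have h1 := hl' _ hv'
  have h2 : h * ((h⁻¹ * v * h⁻¹⁻¹) * l * (h⁻¹ * v * h⁻¹⁻¹)⁻¹ * l⁻¹) * h⁻¹ ∈ U :=
    (Subgroup.mem_normalizer_iff.mp (hU hh) _).mp h1
  have e : v * (h * l * h⁻¹) * v⁻¹ * (h * l * h⁻¹)⁻¹ =
      h * ((h⁻¹ * v * h⁻¹⁻¹) * l * (h⁻¹ * v * h⁻¹⁻¹)⁻¹ * l⁻¹) * h⁻¹ := by group
  rw [e]
  exact h2

theorem map_normalClosure_subgroupOf_le {Y H St : Subgroup G} (hY : Y ≤ St)
    (hH : H ≤ Subgroup.normalizer (St : Set G)) :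
    (Subgroup.normalClosure ((Y.subgroupOf H : Subgroup ↥H) : Set ↥H)).map H.subtype ≤ St := by
  have hn : ((St ⊓ H).subgroupOf H).Normal :=
    (Subgroup.normal_subgroupOf_iff_le_normalizer inf_le_right).mpr
      (le_normalizer_inf' hH Subgroup.le_normalizer)
  have h1 : Subgroup.normalClosure ((Y.subgroupOf H : Subgroup ↥H) : Set ↥H) ≤
      (St ⊓ H).subgroupOf H :=
    Subgroup.normalClosure_le_normal (fun x hx => ⟨hY hx, x.2⟩)
  have h2 := Subgroup.map_mono (f := H.subtype) h1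
  rw [Subgroup.map_subgroupOf_eq_of_le inf_le_right] at h2
  exact h2.trans inf_le_left

/-- `O^p` of the normal closure of `Y` in `H` centralizes `Φ(P)`, when `H` normalizes `P`,
`Y ≤ H` centralizes `P'` and `[P, Y]` has exponent `p`. -/
theorem pResidual_normalClosure_le_centralizer_frattini [Finite G] [Fact p.Prime]
    {P : Subgroup G} (hP : IsPGroup p P) {H : Subgroup G}
    (hH : H ≤ Subgroup.normalizer (P : Set G)) {Y : Subgroup G} (hYH : Y ≤ H)
    (hYc : Y ≤ Subgroup.centralizer ((⁅P, P⁆ : Subgroup G) : Set G))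
    (hel : ∀ a ∈ ⁅P, Y⁆, a ^ p = 1) {NY : Subgroup G}
    (hNY : NY = (Subgroup.normalClosure ((Y.subgroupOf H : Subgroup ↥H) : Set ↥H)).map
      H.subtype) :
    (pResidual p ↥NY).map NY.subtype ≤
      Subgroup.centralizer (((frattini ↥P).map P.subtype : Subgroup G) : Set G) := by
  have hHD : H ≤ Subgroup.normalizer ((⁅P, P⁆ : Subgroup G) : Set G) :=
    hH.trans (normalizer_le_normalizer_commutator_self P)
  have hHF : H ≤ Subgroup.normalizer (((frattini ↥P).map P.subtype : Subgroup G) : Set G) :=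
    hH.trans (normalizer_le_normalizer_map_of_characteristic P (frattini ↥P))
  have hYSt : Y ≤ commStab ⁅P, P⁆ ((frattini ↥P).map P.subtype) ⊓
      Subgroup.centralizer ((⁅P, P⁆ : Subgroup G) : Set G) := by
    intro y hy
    refine ⟨⟨hHD (hYH hy), ?_⟩, hYc hy⟩
    exact frattini_comm_mem_commutator P y (hH (hYH hy))
      (fun x hx => hel _ (comm_mem_commutator hx hy))
  have hHSt : H ≤ Subgroup.normalizer
      ((commStab ⁅P, P⁆ ((frattini ↥P).map P.subtype) ⊓
        Subgroup.centralizer ((⁅P, P⁆ : Subgroup G) : Set G) : Subgroup G) : Set G) :=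
    le_normalizer_inf' (le_normalizer_commStab hHD hHF)
      (hHD.trans (normalizer_le_normalizer_centralizer _))
  have hNYSt : NY ≤ commStab ⁅P, P⁆ ((frattini ↥P).map P.subtype) ⊓
      Subgroup.centralizer ((⁅P, P⁆ : Subgroup G) : Set G) := by
    rw [hNY]
    exact map_normalClosure_subgroupOf_le hYSt hHSt
  rw [map_pResidual_eq, Subgroup.closure_le]
  rintro g ⟨hg, hcop⟩
  obtain ⟨⟨-, hg1⟩, hg2⟩ := hNYSt hg
  show g ∈ Subgroup.centralizer (((frattini ↥P).map P.subtype : Subgroup G) : Set G)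
  rw [Subgroup.mem_centralizer_iff]
  intro x hx
  have hc := hg1 x hx
  have hcomm : Commute (x * g * x⁻¹ * g⁻¹) g := Subgroup.mem_centralizer_iff.mp hg2 _ hc
  have hpow : ∃ k, (x * g * x⁻¹ * g⁻¹) ^ (p ^ k) = 1 := by
    obtain ⟨k, hk⟩ := hP ⟨_, Subgroup.commutator_le_self P hc⟩
    exact ⟨k, congrArg Subtype.val hk⟩
  exact comm_of_coprime_step g x hcop hcomm hpow

end Cfsg.Agent.Helper16
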