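import Cfsg.Agent.Helper16.QdOver
import Cfsg.Agent.Helper16.FrattiniComm2
import Cfsg.Prelude.Def_PLocal

set_option autoImplicit false

namespace Cfsg.Agent.Helper16

open Cfsg Matrix

section QdP

variable {F : Type*} [Field F]

theorem qdOver_ext6 {M N : ↥(Cfsg.qdOver F)} (h00 : M.1.1 0 0 = N.1.1 0 0)
    (h01 : M.1.1 0 1 = N.1.1 0 1) (h02 : M.1.1 0 2 = N.1.1 0 2) (h10 : M.1.1 1 0 = N.1.1 1 0)
    (h11 : M.1.1 1 1 = N.1.1 1 1) (h12 : M.1.1 1 2 = N.1.1 1 2) : M = N := by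
  apply qdOver_ext
  intro i j hi
  fin_cases i
  · fin_cases j
    · exact h00
    · exact h01
    · exact h02
  · fin_cases j
    · exact h10
    · exact h11
    · exact h12
  · exact absurd rfl hi

/-- the unipotent matrix with upper right entry `b` -/
def uni (b : F) : Matrix.SpecialLinearGroup (Fin 2) F :=
  ⟨!![1, b; 0, 1], by rw [Matrix.det_fin_two]; simp⟩

/-- the Heisenberg element with coordinates `b, x, y` -/
def heis (b x y : F) : ↥(Cfsg.qdOver F) := qdLift (uni b) ![x, y]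

@[simp] theorem heis_00 (b x y : F) : (heis b x y).1.1 0 0 = 1 := rfl
@[simp] theorem heis_01 (b x y : F) : (heis b x y).1.1 0 1 = b := rfl
@[simp] theorem heis_02 (b x y : F) : (heis b x y).1.1 0 2 = x := rfl
@[simp] theorem heis_10 (b x y : F) : (heis b x y).1.1 1 0 = 0 := rfl
@[simp] theorem heis_11 (b x y : F) : (heis b x y).1.1 1 1 = 1 := rfl
@[simp] theorem heis_12 (b x y : F) : (heis b x y).1.1 1 2 = y := rfl
@[simp] theorem heis_20 (b x y : F) : (heis b x y).1.1 2 0 = 0 := rfl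
@[simp] theorem heis_21 (b x y : F) : (heis b x y).1.1 2 1 = 0 := rfl
@[simp] theorem heis_22 (b x y : F) : (heis b x y).1.1 2 2 = 1 := rfl

theorem heis_congr {b b' x x' y y' : F} (hb : b = b') (hx : x = x') (hy : y = y') :
    heis b x y = heis b' x' y' := by
  subst hb hx hy
  rfl

/-- the Sylow subgroup of unitriangular matrices in `Qd` -/
def qdS0 (F : Type*) [Field F] : Subgroup ↥(Cfsg.qdOver F) := (upperUni F).comap (qdPi F)

theorem mem_qdS0_iff (M : ↥(Cfsg.qdOver F)) :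
    M ∈ qdS0 F ↔ M.1.1 0 0 = 1 ∧ M.1.1 1 0 = 0 ∧ M.1.1 1 1 = 1 := Iff.rfl

theorem heis_mem (b x y : F) : heis b x y ∈ qdS0 F := ⟨rfl, rfl, rfl⟩

theorem exists_heis {M : ↥(Cfsg.qdOver F)} (hM : M ∈ qdS0 F) :
    ∃ b x y : F, M = heis b x y := by
  obtain ⟨h1, h2, h3⟩ := (mem_qdS0_iff M).mp hM
  refine ⟨M.1.1 0 1, M.1.1 0 2, M.1.1 1 2, ?_⟩
  apply qdOver_ext6
  · exact h1
  · rfl
  · rfl
  · exact h2
  · exact h3
  · rfl

theorem heis_mul (b x y b' x' y' : F) :
    heis b x y * heis b' x' y' = heis (b + b') (x + x' + b * y') (y + y') := by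
  apply qdOver_ext6 <;> rw [qdOver_mul_apply] <;>
    simp only [heis_00, heis_01, heis_02, heis_10, heis_11, heis_12, heis_20, heis_21, heis_22] <;>
    ring

theorem heis_zero : heis (0 : F) 0 0 = 1 := by
  apply qdOver_ext6 <;> simp

theorem heis_inv (b x y : F) : (heis b x y)⁻¹ = heis (-b) (-x + b * y) (-y) := by
  apply inv_eq_of_mul_eq_one_right
  rw [heis_mul, ← heis_zero]
  exact heis_congr (by ring) (by ring) (by ring)

/-- the special automorphism of the Heisenberg group, on matrices -/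
def alphaFun (M : ↥(Cfsg.qdOver F)) : ↥(Cfsg.qdOver F) :=
  heis (M.1.1 1 2) (M.1.1 0 1 * M.1.1 1 2 - M.1.1 0 2) (M.1.1 0 1)

theorem alphaFun_heis (b x y : F) : alphaFun (heis b x y) = heis y (b * y - x) b := rfl

theorem alphaFun_mul_heis (b x y b' x' y' : F) :
    alphaFun (heis b x y * heis b' x' y') = alphaFun (heis b x y) * alphaFun (heis b' x' y') := by
  rw [heis_mul, alphaFun_heis, alphaFun_heis, alphaFun_heis, heis_mul]
  exact heis_congr (by ring) (by ring) (by ring)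

/-- the special automorphism of the Heisenberg group -/
def qdAlpha (F : Type*) [Field F] : ↥(qdS0 F) ≃* ↥(qdS0 F) where
  toFun M := ⟨alphaFun M.1, heis_mem _ _ _⟩
  invFun M := ⟨alphaFun M.1, heis_mem _ _ _⟩
  left_inv M := by
    obtain ⟨M, hM⟩ := M
    obtain ⟨b, x, y, rfl⟩ := exists_heis hM
    apply Subtype.ext
    show alphaFun (alphaFun (heis b x y)) = heis b x y
    rw [alphaFun_heis, alphaFun_heis]
    exact heis_congr rfl (by ring) rfl
  right_inv M := by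
    obtain ⟨M, hM⟩ := M
    obtain ⟨b, x, y, rfl⟩ := exists_heis hM
    apply Subtype.ext
    show alphaFun (alphaFun (heis b x y)) = heis b x y
    rw [alphaFun_heis, alphaFun_heis]
    exact heis_congr rfl (by ring) rfl
  map_mul' M N := by
    obtain ⟨M, hM⟩ := M
    obtain ⟨N, hN⟩ := N
    obtain ⟨b, x, y, rfl⟩ := exists_heis hM
    obtain ⟨b', x', y', rfl⟩ := exists_heis hN
    apply Subtype.ext
    exact alphaFun_mul_heis b x y b' x' y'

theorem qdAlpha_apply (M : ↥(qdS0 F)) : (qdAlpha F M).1 = alphaFun M.1 := rfl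

theorem upperUni_isPGroup {p : ℕ} [CharP F p] : IsPGroup p ↥(upperUni F) := by
  intro g
  refine ⟨1, ?_⟩
  rw [pow_one]
  apply Subtype.ext
  rw [Subgroup.coe_pow, Subgroup.coe_one]
  exact upperUni_pow_char (CharP.cast_eq_zero F p) _ g.2

theorem qdS0_isPGroup {p : ℕ} [CharP F p] : IsPGroup p ↥(qdS0 F) :=
  IsPGroup.comap_of_ker_isPGroup upperUni_isPGroup (qdPi F) qdPi_ker_isPGroup

theorem qdS0_maximal [Fintype F] {p : ℕ} [Fact p.Prime] [CharP F p]
    {P : Subgroup ↥(Cfsg.qdOver F)} (hP : IsPGroup p P) (hle : qdS0 F ≤ P) : P = qdS0 F := by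
  apply le_antisymm _ hle
  have hN : IsPGroup p (P.map (qdPi F)) := hP.map _
  obtain ⟨n, _, hn⟩ := FiniteField.card F p
  letI := vecAct (P.map (qdPi F))
  have hdvd : p ∣ Nat.card (Fin 2 → F) := by
    rw [Nat.card_eq_fintype_card, Fintype.card_fun, hn, Fintype.card_fin]
    exact dvd_pow (dvd_pow_self p n.ne_zero) (by norm_num)
  have h0 : (0 : Fin 2 → F) ∈ MulAction.fixedPoints (P.map (qdPi F)) (Fin 2 → F) := by
    intro g
    show (g : Matrix.SpecialLinearGroup (Fin 2) F).1 *ᵥ (0 : Fin 2 → F) = 0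
    simp
  obtain ⟨w₀, hw₀, hne⟩ :=
    hN.exists_fixed_point_of_prime_dvd_card_of_fixed_point (Fin 2 → F) hdvd h0
  have hfix : ∀ g ∈ P, (qdPi F g).1 *ᵥ w₀ = w₀ :=
    fun g hg => hw₀ ⟨_, Subgroup.mem_map_of_mem _ hg⟩
  have h1 := hfix _ (hle (heis_mem 1 0 0))
  have hw1 : w₀ 1 = 0 := by
    have := congrFun h1 0
    rw [sl2_mulVec_apply, (qdPi_apply _).1, (qdPi_apply _).2.1, heis_00, heis_01] at this
    linear_combination this
  have hw0 : w₀ 0 ≠ 0 := by
    intro h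
    apply hne
    funext i
    fin_cases i
    · exact h.symm
    · exact hw1.symm
  intro g hg
  have h2 := hfix g hg
  have e0 := congrFun h2 0
  have e1 := congrFun h2 1
  rw [sl2_mulVec_apply, hw1, mul_zero, add_zero] at e0 e1
  have a1 : (qdPi F g).1 0 0 = 1 := by
    have : ((qdPi F g).1 0 0 - 1) * w₀ 0 = 0 := by linear_combination e0
    rcases mul_eq_zero.mp this with h | h
    · linear_combination h
    · exact absurd h hw0
  have a2 : (qdPi F g).1 1 0 = 0 := (mul_eq_zero.mp e1).resolve_right hw0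
  have hd := sl2_det_eq (qdPi F g)
  rw [a1, a2, mul_zero, sub_zero, one_mul] at hd
  exact ⟨a1, a2, hd⟩

/-- the unitriangular subgroup as a Sylow subgroup of `Qd` -/
def qdSylow (F : Type*) [Field F] [Fintype F] (p : ℕ) [Fact p.Prime] [CharP F p] :
    Sylow p ↥(Cfsg.qdOver F) :=
  { qdS0 F with
    isPGroup' := qdS0_isPGroup
    is_maximal' := fun hQ hle => qdS0_maximal hQ hle }

theorem sl2_conj_upperUni_10 (A u : Matrix.SpecialLinearGroup (Fin 2) F) (hu : u ∈ upperUni F) :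
    (A * u * A⁻¹).1 1 0 = - u.1 0 1 * (A.1 1 0) ^ 2 := by
  obtain ⟨h1, h2, h3⟩ := hu
  obtain ⟨i1, i2, i3, i4⟩ := sl2_inv_apply A
  rw [sl2_mul_apply, sl2_mul_apply, sl2_mul_apply, i1, i3, h1, h2, h3]
  ring

theorem conj_mem_qdS0_imp (g t : ↥(Cfsg.qdOver F)) (ht : t ∈ qdS0 F)
    (h : g * t * g⁻¹ ∈ qdS0 F) : t.1.1 0 1 * (g.1.1 1 0) ^ 2 = 0 := by
  have h1 : qdPi F (g * t * g⁻¹) ∈ upperUni F := h
  rw [map_mul, map_mul, map_inv] at h1
  have h2 := sl2_conj_upperUni_10 (qdPi F g) (qdPi F t) ht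
  rw [h1.2.1, (qdPi_apply t).2.1, (qdPi_apply g).2.2.1] at h2
  linear_combination h2

theorem mem_normalizer_qdS0_iff (g : ↥(Cfsg.qdOver F)) :
    g ∈ Subgroup.normalizer (qdS0 F : Set ↥(Cfsg.qdOver F)) ↔ g.1.1 1 0 = 0 := by
  constructor
  · intro hg
    have h1 := (Subgroup.mem_normalizer_iff.mp hg (heis 1 0 0)).mp (heis_mem 1 0 0)
    have h2 := conj_mem_qdS0_imp g _ (heis_mem 1 0 0) h1
    rw [heis_01, one_mul] at h2
    exact (pow_eq_zero_iff (two_ne_zero)).mp h2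
  · intro h10
    have key : ∀ g : ↥(Cfsg.qdOver F), g.1.1 1 0 = 0 → ∀ t ∈ qdS0 F, g * t * g⁻¹ ∈ qdS0 F := by
      intro g h10 t ht
      show qdPi F (g * t * g⁻¹) ∈ upperUni F
      rw [map_mul, map_mul, map_inv]
      exact upperUni_conj _ _ ((qdPi_apply g).2.2.1.trans h10) ht
    rw [Subgroup.mem_normalizer_iff]
    intro t
    constructor
    · exact key g h10 t
    · intro h
      have hinv : (g⁻¹).1.1 1 0 = 0 := by
        have h3 := (sl2_inv_apply (qdPi F g)).2.2.1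
        rw [← map_inv] at h3
        rw [← (qdPi_apply g⁻¹).2.2.1, h3, (qdPi_apply g).2.2.1, h10, neg_zero]
      have h4 := key g⁻¹ hinv _ h
      have e : g⁻¹ * (g * t * g⁻¹) * g⁻¹⁻¹ = t := by group
      rwa [e] at h4

theorem qdS0_char_normalizer_le (T : Subgroup ↥(qdS0 F)) (hT : T ≠ ⊥) (hTc : T.Characteristic)
    (g : ↥(Cfsg.qdOver F))
    (hg : g ∈ Subgroup.normalizer
      ((T.map (qdS0 F).subtype : Subgroup ↥(Cfsg.qdOver F)) : Set ↥(Cfsg.qdOver F))) :
    g.1.1 1 0 = 0 := by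
  by_contra hc
  have hnorm : T.Normal := Subgroup.normal_of_characteristic T
  have halpha : ∀ t ∈ T, qdAlpha F t ∈ T := by
    intro t ht
    have h1 := Subgroup.characteristic_iff_comap_eq.mp hTc (qdAlpha F)
    rw [← h1] at ht
    exact ht
  have hconj : ∀ t : ↥(qdS0 F), t ∈ T →
      ∃ ht' : g * t.1 * g⁻¹ ∈ qdS0 F, (⟨_, ht'⟩ : ↥(qdS0 F)) ∈ T := by
    intro t ht
    have h1 := (Subgroup.mem_normalizer_iff.mp hg t.1).mp ⟨t, ht, rfl⟩
    obtain ⟨t', ht', e⟩ := h1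
    have e' : (t' : ↥(Cfsg.qdOver F)) = g * t.1 * g⁻¹ := e
    have hm : g * t.1 * g⁻¹ ∈ qdS0 F := by rw [← e']; exact t'.2
    have h2 : t' = ⟨g * t.1 * g⁻¹, hm⟩ := Subtype.ext e'
    exact ⟨hm, by rw [← h2]; exact ht'⟩
  by_cases hA : ∃ t ∈ T, t.1.1.1 0 1 ≠ 0
  · obtain ⟨t, ht, hb⟩ := hA
    obtain ⟨ht', _⟩ := hconj t ht
    have h1 := conj_mem_qdS0_imp g t.1 t.2 ht'
    rcases mul_eq_zero.mp h1 with h | h
    · exact hb h
    · exact hc ((pow_eq_zero_iff (two_ne_zero)).mp h)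
  · have hA' : ∀ t ∈ T, t.1.1.1 0 1 = 0 := by
      intro t ht
      by_contra h
      exact hA ⟨t, ht, h⟩
    obtain ⟨t, ht, ht1⟩ : ∃ t ∈ T, t ≠ 1 := by
      by_contra hcon
      apply hT
      rw [Subgroup.eq_bot_iff_forall]
      intro u hu
      by_contra h1
      exact hcon ⟨u, hu, h1⟩
    have hb := hA' t ht
    obtain ⟨x₀, hx₀, hz⟩ : ∃ x₀ : F, x₀ ≠ 0 ∧
        (⟨heis 0 x₀ 0, heis_mem _ _ _⟩ : ↥(qdS0 F)) ∈ T := by
      obtain ⟨t, htS⟩ := t
      obtain ⟨b, x, y, rfl⟩ := exists_heis htS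
      have hb0 : b = 0 := hb
      subst hb0
      by_cases hy : y = 0
      · subst hy
        refine ⟨x, ?_, ht⟩
        rintro rfl
        apply ht1
        apply Subtype.ext
        exact heis_zero
      · refine ⟨y, hy, ?_⟩
        have hs : (⟨heis 1 0 0, heis_mem _ _ _⟩ : ↥(qdS0 F)) * ⟨heis 0 x y, htS⟩ *
            (⟨heis 1 0 0, heis_mem _ _ _⟩ : ↥(qdS0 F))⁻¹ ∈ T := hnorm.conj_mem _ ht _
        have h2 := T.mul_mem hs (T.inv_mem ht)
        have e : (⟨heis 1 0 0, heis_mem _ _ _⟩ : ↥(qdS0 F)) * ⟨heis 0 x y, htS⟩ *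
            (⟨heis 1 0 0, heis_mem _ _ _⟩ : ↥(qdS0 F))⁻¹ *
            (⟨heis 0 x y, htS⟩ : ↥(qdS0 F))⁻¹ = ⟨heis 0 y 0, heis_mem _ _ _⟩ := by
          apply Subtype.ext
          show heis 1 0 0 * heis 0 x y * (heis 1 0 0)⁻¹ * (heis 0 x y)⁻¹ = heis 0 y 0
          rw [heis_inv, heis_inv, heis_mul, heis_mul, heis_mul]
          exact heis_congr (by ring) (by ring) (by ring)
        rw [e] at h2
        exact h2
    obtain ⟨hz', hzT⟩ := hconj _ hz
    have hw12 : (g * heis 0 x₀ 0 * g⁻¹).1.1 1 2 = g.1.1 1 0 * x₀ := by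
      have e : (g * heis 0 x₀ 0 * g⁻¹) * g = g * heis 0 x₀ 0 := by group
      have e12 : ((g * heis 0 x₀ 0 * g⁻¹) * g).1.1 1 2 = (g * heis 0 x₀ 0).1.1 1 2 := by rw [e]
      obtain ⟨w1, w2, w3⟩ := (mem_qdS0_iff _).mp hz'
      obtain ⟨r0, r1, r2⟩ := qdOver_row g
      rw [qdOver_mul_apply, qdOver_mul_apply g, w2, w3, r2, heis_02, heis_12, heis_22] at e12
      linear_combination e12
    have h3 := halpha _ hzT
    have h4 := hA' _ h3
    have h5 : (qdAlpha F ⟨_, hz'⟩).1.1.1 0 1 = (g * heis 0 x₀ 0 * g⁻¹).1.1 1 2 := rfl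
    rw [h5, hw12] at h4
    rcases mul_eq_zero.mp h4 with h | h
    · exact hc h
    · exact hx₀ h

theorem qdS0_char_normalizer (T : Subgroup ↥(qdS0 F)) (hT : T ≠ ⊥) (hTc : T.Characteristic) :
    Subgroup.normalizer
      ((T.map (qdS0 F).subtype : Subgroup ↥(Cfsg.qdOver F)) : Set ↥(Cfsg.qdOver F)) =
      Subgroup.normalizer (qdS0 F : Set ↥(Cfsg.qdOver F)) := by
  apply le_antisymm
  · intro g hg
    exact (mem_normalizer_qdS0_iff g).mpr (qdS0_char_normalizer_le T hT hTc g hg)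
  · exact normalizer_le_normalizer_map_of_characteristic (qdS0 F) T

theorem qdS0_normalizer_ne_top :
    Subgroup.normalizer (qdS0 F : Set ↥(Cfsg.qdOver F)) ≠ ⊤ := by
  intro h
  have hw : qdSec F ⟨!![0, -1; 1, 0], by rw [Matrix.det_fin_two]; simp⟩ ∈
      Subgroup.normalizer (qdS0 F : Set ↥(Cfsg.qdOver F)) := by
    rw [h]
    trivial
  have h1 := (mem_normalizer_qdS0_iff _).mp hw
  have e : (qdSec F ⟨!![0, -1; 1, 0], by rw [Matrix.det_fin_two]; simp⟩).1.1 1 0 = 1 := rfl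
  rw [e] at h1
  exact one_ne_zero h1

end QdP

section Transport

theorem char_normalizer_transport {Q : Type*} [Group Q] (S₀ : Subgroup Q) (g : Q)
    (h₀ : ∀ T₀ : Subgroup ↥S₀, T₀ ≠ ⊥ → T₀.Characteristic →
      Subgroup.normalizer ((T₀.map S₀.subtype : Subgroup Q) : Set Q) =
        Subgroup.normalizer (S₀ : Set Q))
    (T : Subgroup ↥(S₀.map (MulAut.conj g).toMonoidHom)) (hT : T ≠ ⊥) (hTc : T.Characteristic) :
    Subgroup.normalizer
      ((T.map (S₀.map (MulAut.conj g).toMonoidHom).subtype : Subgroup Q) : Set Q) =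
      Subgroup.normalizer ((S₀.map (MulAut.conj g).toMonoidHom : Subgroup Q) : Set Q) := by
  let e : ↥S₀ ≃* ↥(S₀.map (MulAut.conj g).toMonoidHom) := (MulAut.conj g).subgroupMap S₀
  have he : ∀ s : ↥S₀, ((e s : ↥(S₀.map (MulAut.conj g).toMonoidHom)) : Q) = g * s * g⁻¹ :=
    fun s => rfl
  have hT₀ : T.comap e.toMonoidHom ≠ ⊥ := by
    intro h
    apply hT
    rw [Subgroup.eq_bot_iff_forall]
    intro t ht
    have h1 : e.symm t ∈ T.comap e.toMonoidHom := by
      show e (e.symm t) ∈ T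
      rw [e.apply_symm_apply]
      exact ht
    rw [h, Subgroup.mem_bot] at h1
    have h2 := congrArg e h1
    rwa [e.apply_symm_apply, map_one] at h2
  have hT₀c : (T.comap e.toMonoidHom).Characteristic := by
    rw [Subgroup.characteristic_iff_comap_eq]
    intro φ
    ext x
    have hψ := Subgroup.characteristic_iff_comap_eq.mp hTc (e.symm.trans (φ.trans e))
    constructor
    · intro hx
      have h1 : e (φ x) ∈ T := hx
      have h2 : e x ∈ T.comap (e.symm.trans (φ.trans e)).toMonoidHom := by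
        show (e.symm.trans (φ.trans e)) (e x) ∈ T
        simp only [MulEquiv.trans_apply, MulEquiv.symm_apply_apply]
        exact h1
      rw [hψ] at h2
      exact h2
    · intro hx
      have h1 : e x ∈ T := hx
      rw [← hψ] at h1
      have h2 : (e.symm.trans (φ.trans e)) (e x) ∈ T := h1
      simp only [MulEquiv.trans_apply, MulEquiv.symm_apply_apply] at h2
      exact h2
  have hmap : (T.map (S₀.map (MulAut.conj g).toMonoidHom).subtype : Subgroup Q) =
      ((T.comap e.toMonoidHom).map S₀.subtype).map (MulAut.conj g).toMonoidHom := by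
    ext x
    constructor
    · rintro ⟨t, ht, rfl⟩
      refine ⟨(e.symm t : Q), ⟨e.symm t, ?_, rfl⟩, ?_⟩
      · show e (e.symm t) ∈ T
        rw [e.apply_symm_apply]
        exact ht
      · have h1 := he (e.symm t)
        rw [e.apply_symm_apply] at h1
        exact h1.symm
    · rintro ⟨_, ⟨t₀, ht₀, rfl⟩, rfl⟩
      exact ⟨e t₀, ht₀, rfl⟩
  rw [hmap, ← Subgroup.map_equiv_normalizer_eq, h₀ _ hT₀ hT₀c, Subgroup.map_equiv_normalizer_eq]

theorem normalizer_map_conj_ne_top {Q : Type*} [Group Q] (S₀ : Subgroup Q) (g : Q)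
    (h : Subgroup.normalizer (S₀ : Set Q) ≠ ⊤) :
    Subgroup.normalizer ((S₀.map (MulAut.conj g).toMonoidHom : Subgroup Q) : Set Q) ≠ ⊤ := by
  intro htop
  apply h
  rw [← Subgroup.map_equiv_normalizer_eq] at htop
  rw [eq_top_iff]
  intro x _
  have h1 : g * x * g⁻¹ ∈ (Subgroup.normalizer (S₀ : Set Q)).map (MulAut.conj g).toMonoidHom := by
    rw [htop]
    trivial
  obtain ⟨y, hy, e⟩ := h1
  have e' : g * y * g⁻¹ = g * x * g⁻¹ := e
  have h2 : y = x := by
    have h3 := congrArg (fun z => g⁻¹ * z * g) e'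
    simpa [mul_assoc] using h3
  rw [← h2]
  exact hy

end Transport

section QdPMain

theorem qdP_main {p : ℕ} [Fact p.Prime] (S : Sylow p ↥(Cfsg.qdOver (ZMod p)))
    (T : Subgroup ↥(S : Subgroup ↥(Cfsg.qdOver (ZMod p)))) (hT : T ≠ ⊥)
    (hTc : T.Characteristic) :
    Subgroup.normalizer ((T.map (S : Subgroup ↥(Cfsg.qdOver (ZMod p))).subtype :
        Subgroup ↥(Cfsg.qdOver (ZMod p))) : Set ↥(Cfsg.qdOver (ZMod p))) =
      Subgroup.normalizer ((S : Subgroup ↥(Cfsg.qdOver (ZMod p))) :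
        Set ↥(Cfsg.qdOver (ZMod p))) ∧
    Subgroup.normalizer ((S : Subgroup ↥(Cfsg.qdOver (ZMod p))) :
        Set ↥(Cfsg.qdOver (ZMod p))) ≠ ⊤ := by
  obtain ⟨g, hg⟩ := MulAction.exists_smul_eq ↥(Cfsg.qdOver (ZMod p)) (qdSylow (ZMod p) p) S
  subst hg
  exact ⟨char_normalizer_transport (qdS0 (ZMod p)) g
    (fun T₀ h1 h2 => qdS0_char_normalizer T₀ h1 h2) T hT hTc,
    normalizer_map_conj_ne_top (qdS0 (ZMod p)) g qdS0_normalizer_ne_top⟩

end QdPMain

end Cfsg.Agent.Helper16
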