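import Cfsg.Agent.Helper4.Dih
import Cfsg.Agent.Helper27.Involves
import Cfsg.Agent.Helper16.Comm

set_option autoImplicit false

namespace Cfsg.Agent.Helper16

universe u v w

theorem involves_of_section {H : Type u} [Group H] {G : Type v} [Group G] {Q : Type w} [Group Q]
    (K : Subgroup G) (φ : K →* Q) (hφ : Function.Surjective φ) (h : Cfsg.Involves H Q) :
    Cfsg.Involves H G := by
  obtain ⟨D, f, hf⟩ := Helper27.involves_exists_surj h
  have h1 : Cfsg.Involves H ↥K :=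
    Helper27.involves_of_surj (D.comap φ) (f.comp (φ.subgroupComap D))
      (hf.comp (φ.subgroupComap_surjective_of_surjective D hφ))
  exact Helper27.involves_of_injective K.subtype K.subtype_injective h1

theorem eq_one_of_sq_of_pow_prime {Q : Type*} [Group Q] {p : ℕ} (hp : p.Prime) (hp2 : p ≠ 2)
    {u : Q} (h2 : u * u = 1) (hpu : u ^ p = 1) : u = 1 := by
  obtain ⟨m, hm⟩ := hp.odd_of_ne_two hp2
  rw [hm, pow_succ, pow_mul, pow_two, h2, one_pow, one_mul] at hpu
  exact hpu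

theorem involves_dihedral_of_inverts {G : Type*} [Group G] {p : ℕ} [Fact p.Prime] (hp : p ≠ 2)
    (x y : G) (hy1 : y ≠ 1) (hyp : y ^ p = 1) (hxy : x * y * x⁻¹ = y⁻¹) :
    Cfsg.Involves (DihedralGroup p) G := by
  have hpp := (Fact.out : p.Prime)
  set K : Subgroup G := Subgroup.centralizer {x * x} with hK
  have hxK : x ∈ K := by
    rw [hK, Subgroup.mem_centralizer_iff]
    intro h hh
    rw [Set.mem_singleton_iff] at hh
    rw [hh, mul_assoc]
  have hyK : y ∈ K := by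
    rw [hK, Subgroup.mem_centralizer_iff]
    intro h hh
    rw [Set.mem_singleton_iff] at hh
    rw [hh]
    have h1 : x * y = y⁻¹ * x := by rw [← hxy]; group
    have h2 : x * y⁻¹ = y * x := by
      have h3 : x * y⁻¹ * x⁻¹ = y := by
        have h5 : x * y⁻¹ * x⁻¹ = (x * y * x⁻¹)⁻¹ := by group
        rw [h5, hxy, inv_inv]
      nth_rewrite 2 [← h3]; group
    calc x * x * y = x * (x * y) := by group
      _ = x * (y⁻¹ * x) := by rw [h1]
      _ = (x * y⁻¹) * x := by group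
      _ = y * x * x := by rw [h2]
      _ = y * (x * x) := by group
  set R : Subgroup G := Subgroup.zpowers (x * x) with hR
  have hRc : ∀ r ∈ R, ∀ g ∈ K, g * r = r * g := by
    intro r hr g hg
    obtain ⟨j, rfl⟩ := Subgroup.mem_zpowers_iff.mp hr
    have h1 : Commute g (x * x) := by
      rw [hK, Subgroup.mem_centralizer_iff] at hg
      exact (hg (x * x) rfl).symm
    exact (h1.zpow_right j)
  haveI hN : (R.subgroupOf K).Normal := by
    constructor
    intro n hn g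
    rw [Subgroup.mem_subgroupOf] at hn ⊢
    have h1 := hRc _ hn g.1 g.2
    have h2 : ((g * n * g⁻¹ : ↥K) : G) = (n : G) := by
      show (g : G) * (n : G) * (g : G)⁻¹ = (n : G)
      rw [h1]; group
    rw [h2]; exact hn
  set xb : ↥K ⧸ R.subgroupOf K := QuotientGroup.mk ⟨x, hxK⟩ with hxb
  set yb : ↥K ⧸ R.subgroupOf K := QuotientGroup.mk ⟨y, hyK⟩ with hyb
  have hx2 : xb * xb = 1 := by
    rw [hxb, ← QuotientGroup.mk_mul, QuotientGroup.eq_one_iff, Subgroup.mem_subgroupOf]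
    exact Subgroup.mem_zpowers (x * x)
  have hybp : yb ^ p = 1 := by
    rw [hyb, ← QuotientGroup.mk_pow, QuotientGroup.eq_one_iff, Subgroup.mem_subgroupOf]
    show y ^ p ∈ R
    rw [hyp]; exact R.one_mem
  have hconj : xb * yb * xb⁻¹ = yb⁻¹ := by
    rw [hxb, hyb, ← QuotientGroup.mk_inv, ← QuotientGroup.mk_mul, ← QuotientGroup.mk_mul,
      ← QuotientGroup.mk_inv]
    congr 1
    exact Subtype.ext hxy
  have hyb1 : yb ≠ 1 := by
    intro h
    rw [hyb, QuotientGroup.eq_one_iff, Subgroup.mem_subgroupOf] at h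
    have h1 : y ∈ R := h
    have h2 : x * y = y * x := by
      obtain ⟨j, hj⟩ := Subgroup.mem_zpowers_iff.mp h1
      rw [← hj]
      have h5 : Commute x (x * x) := (Commute.refl x).mul_right (Commute.refl x)
      exact (h5.zpow_right j)
    have h3 : y = y⁻¹ := by
      rw [← hxy, h2]; group
    apply hy1
    apply eq_one_of_sq_of_pow_prime hpp hp _ hyp
    nth_rewrite 1 [h3]; group
  have hxb1 : xb ≠ 1 := by
    intro h
    rw [h] at hconj
    apply hyb1
    apply eq_one_of_sq_of_pow_prime hpp hp _ hybp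
    have h3 : yb = yb⁻¹ := by simpa using hconj
    nth_rewrite 1 [h3]; group
  have hxbi : xb⁻¹ = xb := inv_eq_of_mul_eq_one_left hx2
  have hz2 : (xb * yb) * (xb * yb) = 1 := by
    have h3 : xb * yb * xb = yb⁻¹ := by rw [← hconj, hxbi]
    calc (xb * yb) * (xb * yb) = (xb * yb * xb) * yb := by group
      _ = 1 := by rw [h3]; group
  have hz1 : xb * yb ≠ 1 := by
    intro h
    apply hyb1
    apply eq_one_of_sq_of_pow_prime hpp hp _ hybp
    have h3 : yb = xb := by rw [eq_inv_of_mul_eq_one_right h, hxbi]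
    rw [h3]; exact hx2
  have hxz : xb ≠ xb * yb := by
    intro h
    apply hyb1
    have h3 := mul_left_cancel (a := xb) (b := 1) (c := yb) (by rw [mul_one]; exact h)
    exact h3.symm
  have hord : orderOf (xb * (xb * yb)) = p := by
    rw [← mul_assoc, hx2, one_mul]
    exact orderOf_eq_prime hybp hyb1
  have key := Helper4.closure_pair_mulEquiv_dihedral xb (xb * yb) hx2 hz2 hxb1 hz1 hxz
  rw [hord] at key
  obtain ⟨e⟩ := key
  have hQ : Cfsg.Involves (DihedralGroup p) (↥K ⧸ R.subgroupOf K) :=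
    Helper27.involves_of_surj _ e.toMonoidHom e.surjective
  exact involves_of_section K (QuotientGroup.mk' (R.subgroupOf K))
    (QuotientGroup.mk'_surjective _) hQ

theorem involves_dihedral_of_inverts' {G : Type*} [Group G] {p : ℕ} [Fact p.Prime] (hp : p ≠ 2)
    (x y : G) (l : ℕ) (hy : orderOf y = p ^ l) (hy1 : y ≠ 1) (hxy : x * y * x⁻¹ = y⁻¹) :
    Cfsg.Involves (DihedralGroup p) G := by
  have hpp := (Fact.out : p.Prime)
  have hl : l ≠ 0 := by
    rintro rfl
    rw [pow_zero, orderOf_eq_one_iff] at hy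
    exact hy1 hy
  obtain ⟨l', rfl⟩ := Nat.exists_eq_succ_of_ne_zero hl
  apply involves_dihedral_of_inverts hp x (y ^ (p ^ l'))
  · intro h
    have h1 := orderOf_dvd_of_pow_eq_one h
    rw [hy] at h1
    exact absurd ((Nat.pow_dvd_pow_iff_le_right hpp.one_lt).mp h1) (by omega)
  · rw [← pow_mul, ← pow_succ, ← hy, pow_orderOf_eq_one]
  · rw [← conj_pow, hxy, inv_pow]

theorem inverts_of_normalizes {G : Type*} [Group G] {p : ℕ} [Fact p.Prime]
    (x : G) (P : Subgroup G) (k : ℕ) (hx : orderOf x = 2 ^ k) (hP : IsPGroup p ↥P)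
    (hxn : x ∈ Subgroup.normalizer (P : Set G)) (hxc : x ∉ Subgroup.centralizer (P : Set G)) :
    ∃ x' y : G, (∃ k : ℕ, orderOf x' = 2 ^ k) ∧ (∃ k : ℕ, orderOf y = p ^ k) ∧ y ≠ 1 ∧
      x' * y * x'⁻¹ = y⁻¹ := by
  classical
  have hex : ∃ j : ℕ, x ^ (2 ^ j) ∈ Subgroup.centralizer (P : Set G) :=
    ⟨k, by rw [← hx, pow_orderOf_eq_one]; exact Subgroup.one_mem _⟩
  have hj0 : Nat.find hex ≠ 0 := by
    intro h
    have h1 := Nat.find_spec hex
    rw [h, pow_zero, pow_one] at h1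
    exact hxc h1
  obtain ⟨j, hj⟩ := Nat.exists_eq_succ_of_ne_zero hj0
  have hmin : x ^ (2 ^ j) ∉ Subgroup.centralizer (P : Set G) := Nat.find_min hex (by omega)
  have hsq : x ^ (2 ^ j) * x ^ (2 ^ j) ∈ Subgroup.centralizer (P : Set G) := by
    have h1 := Nat.find_spec hex
    rw [hj, pow_succ, pow_mul, pow_two] at h1
    exact h1
  set x' := x ^ (2 ^ j) with hx'
  have hx'n : x' ∈ Subgroup.normalizer (P : Set G) := Subgroup.pow_mem _ hxn _
  rw [Subgroup.mem_centralizer_iff] at hmin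
  push_neg at hmin
  obtain ⟨u, hu, hne⟩ := hmin
  have hu' : x' * u * x'⁻¹ ∈ P := (Subgroup.mem_normalizer_iff.mp hx'n u).mp hu
  refine ⟨x', u⁻¹ * (x' * u * x'⁻¹), ?_, ?_, ?_, ?_⟩
  · have h1 : orderOf x' ∣ 2 ^ k := by rw [← hx]; exact orderOf_pow_dvd _
    obtain ⟨i, -, hi⟩ := (Nat.dvd_prime_pow Nat.prime_two).mp h1
    exact ⟨i, hi⟩
  · have hy : u⁻¹ * (x' * u * x'⁻¹) ∈ P := P.mul_mem (P.inv_mem hu) hu'
    obtain ⟨i, hi⟩ := (IsPGroup.iff_orderOf.mp hP) ⟨_, hy⟩
    exact ⟨i, by rw [← hi]; exact (Subgroup.orderOf_mk _ hy).symm⟩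
  · intro h
    apply hne
    have h1 : x' * u * x'⁻¹ = u := by
      have h2 := congrArg (fun t => u * t) h
      simpa using h2
    nth_rewrite 1 [← h1]; group
  · have hc : u * (x' * x') = (x' * x') * u := (Subgroup.mem_centralizer_iff.mp hsq) u hu
    have h4 : x' * u = x'⁻¹ * u * (x' * x') := by rw [mul_assoc, hc]; group
    calc x' * (u⁻¹ * (x' * u * x'⁻¹)) * x'⁻¹ = x' * u⁻¹ * (x' * u) * x'⁻¹ * x'⁻¹ := by group
      _ = x' * u⁻¹ * (x'⁻¹ * u * (x' * x')) * x'⁻¹ * x'⁻¹ := by rw [← h4]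
      _ = (u⁻¹ * (x' * u * x'⁻¹))⁻¹ := by group

/-- the sign homomorphism of a dihedral group -/
def dihSign (n : ℕ) : DihedralGroup n →* ℤˣ where
  toFun x := match x with
    | DihedralGroup.r _ => 1
    | DihedralGroup.sr _ => -1
  map_one' := rfl
  map_mul' := by
    intro a b
    rcases a with i | i <;> rcases b with j | j <;> rfl

theorem dihSign_eq_one_iff (n : ℕ) (x : DihedralGroup n) :
    dihSign n x = 1 ↔ ∃ j, x = DihedralGroup.r j := by
  rcases x with i | i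
  · exact ⟨fun _ => ⟨i, rfl⟩, fun _ => rfl⟩
  · constructor
    · intro h
      exfalso
      have h1 : (-1 : ℤˣ) = 1 := h
      exact absurd h1 (by decide)
    · rintro ⟨j, hj⟩
      exact absurd hj (by simp)

theorem normalizes_of_involves_dihedral {G : Type*} [Group G] [Finite G] {p : ℕ} [Fact p.Prime]
    (hp : p ≠ 2) (h : Cfsg.Involves (DihedralGroup p) G) :
    ∃ (x : G) (P : Subgroup G), (∃ k : ℕ, orderOf x = 2 ^ k) ∧ IsPGroup p ↥P ∧
      x ∈ Subgroup.normalizer (P : Set G) ∧ x ∉ Subgroup.centralizer (P : Set G) := by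
  have hpp := (Fact.out : p.Prime)
  obtain ⟨K, f, hf⟩ := Helper27.involves_exists_surj h
  obtain ⟨a, ha⟩ := hf (DihedralGroup.sr 0)
  obtain ⟨b, hb⟩ := hf (DihedralGroup.r 1)
  obtain ⟨e, m, hm, hbm⟩ : ∃ e m, ¬ p ∣ m ∧ orderOf b = p ^ e * m :=
    Nat.exists_eq_pow_mul_and_not_dvd (orderOf_pos b).ne' p hpp.ne_one
  set b' := b ^ m with hb'
  have hb'ord : b' ^ (p ^ e) = 1 := by
    rw [hb', ← pow_mul, mul_comm, ← hbm, pow_orderOf_eq_one]
  have hfb' : f b' = DihedralGroup.r (m : ZMod p) := by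
    rw [hb', map_pow, hb, DihedralGroup.r_one_pow]
  have hm0 : (m : ZMod p) ≠ 0 := by
    rw [Ne, ZMod.natCast_eq_zero_iff]; exact hm
  have hb'P : IsPGroup p ↥(Subgroup.zpowers b') := by
    rintro ⟨g, hg⟩
    obtain ⟨i, rfl⟩ := Subgroup.mem_zpowers_iff.mp hg
    refine ⟨e, Subtype.ext ?_⟩
    show (b' ^ i) ^ (p ^ e) = 1
    rw [← zpow_natCast, ← zpow_mul, mul_comm, zpow_mul, zpow_natCast, hb'ord, one_zpow]
  obtain ⟨P, hP⟩ := hb'P.exists_le_sylow
  have hb'mem : b' ∈ (P : Subgroup ↥K) := hP (Subgroup.mem_zpowers b')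
  set N : Subgroup ↥K := ((dihSign p).comp f).ker with hN
  have hNmem : ∀ g : ↥K, g ∈ N ↔ ∃ j, f g = DihedralGroup.r j := by
    intro g
    rw [hN, MonoidHom.mem_ker, MonoidHom.comp_apply, dihSign_eq_one_iff]
  have hPN : (P : Subgroup ↥K) ≤ N := by
    intro u hu
    rw [hNmem]
    rcases hfu : f u with j | j
    · exact ⟨j, rfl⟩
    · exfalso
      obtain ⟨i, hi⟩ := P.isPGroup' ⟨u, hu⟩
      have h1 : u ^ (p ^ i) = 1 := by simpa using congrArg Subtype.val hi
      have h2 : (f u) ^ (p ^ i) = 1 := by rw [← map_pow, h1, map_one]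
      rw [hfu] at h2
      have h3 : orderOf (DihedralGroup.sr j : DihedralGroup p) ∣ p ^ i :=
        orderOf_dvd_of_pow_eq_one h2
      rw [DihedralGroup.orderOf_sr] at h3
      have h4 := (Nat.Prime.dvd_of_dvd_pow Nat.prime_two h3)
      exact hp ((Nat.prime_dvd_prime_iff_eq Nat.prime_two hpp).mp h4).symm
  have hfr := Sylow.normalizer_sup_eq_top' P hPN
  have ha' : a ∈ N ⊔ Subgroup.normalizer ((P : Subgroup ↥K) : Set ↥K) := by
    rw [sup_comm]
    have h0 : Subgroup.normalizer ((P : Subgroup ↥K) : Set ↥K) ⊔ N = ⊤ := hfr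
    rw [h0]; exact Subgroup.mem_top a
  rw [← SetLike.mem_coe, Subgroup.normal_mul] at ha'
  obtain ⟨n, hn, t₀, ht₀, hnt⟩ := Set.mem_mul.mp ha'
  obtain ⟨j, hj⟩ := (hNmem n).mp hn
  have hft₀ : f t₀ = DihedralGroup.sr j := by
    have h1 : t₀ = n⁻¹ * a := by rw [← hnt]; group
    rw [h1, map_mul, map_inv, hj, ha, DihedralGroup.inv_r, DihedralGroup.r_mul_sr]; simp
  obtain ⟨e2, m2, hm2, ht₀m⟩ : ∃ e m, ¬ 2 ∣ m ∧ orderOf t₀ = 2 ^ e * m :=
    Nat.exists_eq_pow_mul_and_not_dvd (orderOf_pos t₀).ne' 2 (by norm_num)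
  set t := t₀ ^ m2 with ht
  have hm2pos : m2 ≠ 0 := by
    rintro rfl; exact hm2 (dvd_zero 2)
  have htord : orderOf t = 2 ^ e2 := by
    rw [ht, orderOf_pow_of_dvd hm2pos ⟨2 ^ e2, by rw [ht₀m, mul_comm]⟩, ht₀m,
      Nat.mul_div_cancel _ (Nat.pos_of_ne_zero hm2pos)]
  have hft : f t = DihedralGroup.sr j := by
    rw [ht, map_pow, hft₀]
    obtain ⟨c, hc⟩ : Odd m2 := Nat.odd_iff.mpr (by omega)
    rw [hc, pow_succ, pow_mul, pow_two, DihedralGroup.sr_mul_self, one_pow, one_mul]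
  have htn : t ∈ Subgroup.normalizer ((P : Subgroup ↥K) : Set ↥K) := Subgroup.pow_mem _ ht₀ _
  refine ⟨(t : G), (P : Subgroup ↥K).map K.subtype, ⟨e2, ?_⟩, P.isPGroup'.map _, ?_, ?_⟩
  · rw [← htord]; exact Subgroup.orderOf_coe t
  · exact Subgroup.le_normalizer_map K.subtype ⟨t, htn, rfl⟩
  · intro hc
    rw [Subgroup.mem_centralizer_iff] at hc
    have h1 := hc (b' : G) ⟨b', hb'mem, rfl⟩
    have h2 : b' * t = t * b' := Subtype.ext h1
    have h3 := congrArg f h2
    rw [map_mul, map_mul, hfb', hft, DihedralGroup.r_mul_sr, DihedralGroup.sr_mul_r] at h3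
    have h4 : j - (m : ZMod p) = j + m := by injection h3
    have h5 : (2 : ZMod p) * m = 0 := by linear_combination (-1 : ZMod p) * h4
    rcases mul_eq_zero.mp h5 with h6 | h6
    · have h7 : ((2 : ℕ) : ZMod p) = 0 := by exact_mod_cast h6
      rw [ZMod.natCast_eq_zero_iff] at h7
      exact hp ((Nat.prime_dvd_prime_iff_eq hpp Nat.prime_two).mp h7)
    · exact hm0 h6

end Cfsg.Agent.Helper16
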