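import Mathlib

set_option autoImplicit false

namespace Cfsg.Agent.Helper16

set_option maxRecDepth 100000 in
theorem a4_sol_fact : ∀ c x : ↥(alternatingGroup (Fin 4)), c ^ 3 = 1 → c ≠ 1 →
    ∃ j : Fin 3, (x * c ^ (j : ℕ)) * (x * c ^ (j : ℕ)) = 1 ∧
      (x * c ^ (j : ℕ)) * (c * (x * c ^ (j : ℕ)) * c⁻¹) = c⁻¹ * (x * c ^ (j : ℕ)) * c := by
  decide

theorem a4_exists_order_three : ∃ c : ↥(alternatingGroup (Fin 4)), c ^ 3 = 1 ∧ c ≠ 1 := by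
  decide

theorem a4_card : Nat.card ↥(alternatingGroup (Fin 4)) = 12 := by
  rw [Nat.card_eq_fintype_card]
  decide

theorem f2_mat_fact : ∀ n : Matrix (Fin 2) (Fin 2) (ZMod 2), n * n * n = 1 → n ≠ 1 →
    n 1 0 = 1 ∧ (n 0 0 - 1) * (n 1 1 - 1) - n 0 1 * n 1 0 = 1 := by
  decide

section Ring

variable (k : ℕ)

/-- reduction modulo `2` -/
def par2 (hk : 1 ≤ k) : ZMod (2 ^ k) →+* ZMod 2 :=
  ZMod.castHom (dvd_pow_self 2 (by omega)) (ZMod 2)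

theorem isUnit_of_par2 (hk : 1 ≤ k) (x : ZMod (2 ^ k)) (hx : par2 k hk x = 1) : IsUnit x := by
  haveI : NeZero (2 ^ k) := ⟨pow_ne_zero _ two_ne_zero⟩
  have h1 : ((x.val : ℕ) : ZMod (2 ^ k)) = x := ZMod.natCast_zmod_val x
  rw [← h1] at hx ⊢
  rw [map_natCast, ZMod.natCast_eq_one_iff_odd] at hx
  rw [ZMod.isUnit_iff_coprime]
  exact Nat.Coprime.pow_right k (Nat.coprime_two_right.mpr hx)

theorem exists_three_inv (hk : 1 ≤ k) : ∃ u : ZMod (2 ^ k), 3 * u = 1 := by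
  have h3 : IsUnit (3 : ZMod (2 ^ k)) := by
    apply isUnit_of_par2 k hk
    rw [map_ofNat]
    decide
  obtain ⟨u, hu⟩ := h3
  exact ⟨↑u⁻¹, by rw [← hu]; exact u.mul_inv⟩

theorem two_torsion (hk : 1 ≤ k) (x : ZMod (2 ^ k)) (hx : 2 * x = 0) :
    ∃ ε : Fin 2, x = ((ε : ℕ) : ZMod (2 ^ k)) * 2 ^ (k - 1) := by
  haveI : NeZero (2 ^ k) := ⟨pow_ne_zero _ two_ne_zero⟩
  have h1 : ((x.val : ℕ) : ZMod (2 ^ k)) = x := ZMod.natCast_zmod_val x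
  have h2 : ((2 * x.val : ℕ) : ZMod (2 ^ k)) = 0 := by
    rw [Nat.cast_mul, h1]; exact_mod_cast hx
  rw [ZMod.natCast_eq_zero_iff] at h2
  have hk' : 2 ^ k = 2 * 2 ^ (k - 1) := by
    rw [← pow_succ']; congr 1; omega
  have h2' : 2 * 2 ^ (k - 1) ∣ 2 * x.val := by rw [← hk']; exact h2
  have h3 : 2 ^ (k - 1) ∣ x.val := Nat.dvd_of_mul_dvd_mul_left (by norm_num) h2'
  obtain ⟨t, ht⟩ := h3
  have hlt : x.val < 2 ^ k := ZMod.val_lt x
  have ht2 : t < 2 := by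
    by_contra hcon
    push_neg at hcon
    have h5 : 2 ^ k ≤ x.val := by
      rw [ht]
      calc 2 ^ k = 2 ^ (k - 1) * 2 := by rw [hk']; ring
        _ ≤ 2 ^ (k - 1) * t := Nat.mul_le_mul_left _ hcon
    omega
  refine ⟨⟨t, ht2⟩, ?_⟩
  rw [← h1, ht]
  push_cast
  ring

end Ring

section Mat

variable (k : ℕ)

/-- the companion matrix of `t² + t + 1` -/
def c0Mat : Matrix (Fin 2) (Fin 2) (ZMod (2 ^ k)) := !![0, -1; 1, -1]

/-- its inverse -/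
def c0InvMat : Matrix (Fin 2) (Fin 2) (ZMod (2 ^ k)) := !![-1, 1; -1, 0]

theorem c0Mat_mul_inv : c0Mat k * c0InvMat k = 1 := by
  ext i j
  fin_cases i <;> fin_cases j <;>
    simp [c0Mat, c0InvMat, Matrix.mul_apply, Fin.sum_univ_two]

theorem c0InvMat_mul : c0InvMat k * c0Mat k = 1 := by
  ext i j
  fin_cases i <;> fin_cases j <;>
    simp [c0Mat, c0InvMat, Matrix.mul_apply, Fin.sum_univ_two]

/-- the companion matrix as an element of `GL₂` -/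
def c0 : GL (Fin 2) (ZMod (2 ^ k)) := ⟨c0Mat k, c0InvMat k, c0Mat_mul_inv k, c0InvMat_mul k⟩

theorem c0_val : (c0 k : Matrix (Fin 2) (Fin 2) (ZMod (2 ^ k))) = c0Mat k := rfl

theorem c0_inv_val : (((c0 k)⁻¹ : GL (Fin 2) (ZMod (2 ^ k))) : Matrix (Fin 2) (Fin 2) (ZMod (2 ^ k))) =
    c0InvMat k := rfl

/-- the four candidate involutions -/
def matED (ε δ : Fin 2) : Matrix (Fin 2) (Fin 2) (ZMod (2 ^ k)) :=
  !![1 + ((ε : ℕ) : ZMod (2 ^ k)) * 2 ^ (k - 1),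
     -(((ε : ℕ) : ZMod (2 ^ k)) * 2 ^ (k - 1)) + ((δ : ℕ) : ZMod (2 ^ k)) * 2 ^ (k - 1);
     ((δ : ℕ) : ZMod (2 ^ k)) * 2 ^ (k - 1), 1 - ((ε : ℕ) : ZMod (2 ^ k)) * 2 ^ (k - 1)]

theorem c0_conj_eq (M : Matrix (Fin 2) (Fin 2) (ZMod (2 ^ k))) :
    c0Mat k * M * c0InvMat k =
      !![M 1 0 + M 1 1, -M 1 0; -M 0 0 - M 0 1 + M 1 0 + M 1 1, M 0 0 - M 1 0] := by
  ext i j
  fin_cases i <;> fin_cases j <;>
    simp [c0Mat, c0InvMat, Matrix.mul_apply, Fin.sum_univ_two, Matrix.vecMul, dotProduct] <;> ring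

theorem c0_inv_conj_eq (M : Matrix (Fin 2) (Fin 2) (ZMod (2 ^ k))) :
    c0InvMat k * M * c0Mat k =
      !![M 1 1 - M 0 1, M 0 0 + M 0 1 - M 1 0 - M 1 1; -M 0 1, M 0 0 + M 0 1] := by
  ext i j
  fin_cases i <;> fin_cases j <;>
    simp [c0Mat, c0InvMat, Matrix.mul_apply, Fin.sum_univ_two, Matrix.vecMul, dotProduct] <;> ring

theorem sol_form (hk : 1 ≤ k) (a : GL (Fin 2) (ZMod (2 ^ k))) (h1 : a * a = 1)
    (h2 : a * (c0 k * a * (c0 k)⁻¹) = (c0 k)⁻¹ * a * c0 k) :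
    ∃ ε δ : Fin 2, (a : Matrix (Fin 2) (Fin 2) (ZMod (2 ^ k))) = matED k ε δ := by
  obtain ⟨u, hu⟩ := exists_three_inv k hk
  have hMM : (a : Matrix (Fin 2) (Fin 2) (ZMod (2 ^ k))) *
      (a : Matrix (Fin 2) (Fin 2) (ZMod (2 ^ k))) = 1 := by
    have h := congrArg Units.val h1
    simpa using h
  have hMC : (a : Matrix (Fin 2) (Fin 2) (ZMod (2 ^ k))) *
      (c0Mat k * (a : Matrix (Fin 2) (Fin 2) (ZMod (2 ^ k))) * c0InvMat k) =
      c0InvMat k * (a : Matrix (Fin 2) (Fin 2) (ZMod (2 ^ k))) * c0Mat k := by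
    have h := congrArg Units.val h2
    simp only [Units.val_mul, c0_val, c0_inv_val] at h
    exact h
  generalize (a : Matrix (Fin 2) (Fin 2) (ZMod (2 ^ k))) = M at hMM hMC ⊢
  rw [c0_conj_eq, c0_inv_conj_eq] at hMC
  have e00 := congrFun (congrFun hMM 0) 0
  have e01 := congrFun (congrFun hMM 0) 1
  have e10 := congrFun (congrFun hMM 1) 0
  have e11 := congrFun (congrFun hMM 1) 1
  have f00 := congrFun (congrFun hMC 0) 0
  have f01 := congrFun (congrFun hMC 0) 1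
  have f10 := congrFun (congrFun hMC 1) 0
  have f11 := congrFun (congrFun hMC 1) 1
  simp [Matrix.mul_apply, Fin.sum_univ_two] at e00 e01 e10 e11 f00 f01 f10 f11
  have t1 : M 0 1 = 1 - M 0 0 + M 1 0 := by grind
  have t2 : M 1 1 = 2 - M 0 0 := by grind
  have t3 : 2 * M 1 0 = 0 := by grind
  have t4 : 2 * (M 0 0 - 1) = 0 := by grind
  obtain ⟨ε, hε⟩ := two_torsion k hk _ t4
  obtain ⟨δ, hδ⟩ := two_torsion k hk _ t3
  refine ⟨ε, δ, ?_⟩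
  ext i j
  fin_cases i <;> fin_cases j <;> simp [matED]
  · rw [← hε]; ring
  · rw [← hε, ← hδ, t1]; ring
  · exact hδ
  · rw [← hε, t2]; ring

theorem exists_conj_c0 (hk : 1 ≤ k) (c : GL (Fin 2) (ZMod (2 ^ k))) (hc3 : c ^ 3 = 1)
    (hc1 : c ≠ 1) : ∃ P : GL (Fin 2) (ZMod (2 ^ k)), c * P = P * c0 k := by
  obtain ⟨M, hM⟩ : ∃ M : Matrix (Fin 2) (Fin 2) (ZMod (2 ^ k)),
      (c : Matrix (Fin 2) (Fin 2) (ZMod (2 ^ k))) = M := ⟨_, rfl⟩
  have hM3 : M * M * M = 1 := by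
    have h := congrArg Units.val hc3
    rw [pow_succ, pow_two] at h
    simp only [Units.val_mul, Units.val_one, hM] at h
    exact h
  have hM1 : M ≠ 1 := fun h => hc1 (Units.ext (by rw [hM, h]; rfl))
  have h0 : (M - 1) * (M * M + M + 1) = 0 := by
    have h : (M - 1) * (M * M + M + 1) = M * M * M - 1 := by noncomm_ring
    rw [h, hM3, sub_self]
  obtain ⟨n, hn⟩ : ∃ n : Matrix (Fin 2) (Fin 2) (ZMod 2), n = (par2 k hk).mapMatrix M :=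
    ⟨_, rfl⟩
  have hn3 : n * n * n = 1 := by rw [hn, ← map_mul, ← map_mul, hM3, map_one]
  have hn1 : n ≠ 1 := by
    intro h
    apply hM1
    have hN : IsUnit (M * M + M + 1) := by
      rw [Matrix.isUnit_iff_isUnit_det]
      apply isUnit_of_par2 k hk
      rw [RingHom.map_det, map_add, map_add, map_mul, map_one, ← hn, h]
      decide
    exact sub_eq_zero.mp ((hN.mul_left_eq_zero).mp h0)
  obtain ⟨h10, hdet⟩ := f2_mat_fact n hn3 hn1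
  have hnij : ∀ i j, n i j = par2 k hk (M i j) := by
    intro i j
    rw [hn]; rfl
  have hu10 : IsUnit (M 1 0) := isUnit_of_par2 k hk _ (by rw [← hnij]; exact h10)
  have huM1 : IsUnit (M - 1) := by
    rw [Matrix.isUnit_iff_isUnit_det]
    apply isUnit_of_par2 k hk
    rw [Matrix.det_fin_two]
    simp only [map_sub, map_mul, Matrix.sub_apply, ← hnij]
    simp only [Matrix.one_apply_eq, Matrix.one_apply_ne (show (0 : Fin 2) ≠ 1 by decide),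
      Matrix.one_apply_ne (show (1 : Fin 2) ≠ 0 by decide), map_one, map_zero, sub_zero]
    exact hdet
  have hquad : M * M + M + 1 = 0 := (huM1.mul_right_eq_zero).mp h0
  have hPdet : IsUnit (!![1, M 0 0; 0, M 1 0] : Matrix (Fin 2) (Fin 2) (ZMod (2 ^ k))).det := by
    rw [Matrix.det_fin_two]
    simpa using hu10
  obtain ⟨P, hP⟩ := (Matrix.isUnit_iff_isUnit_det _).mpr hPdet
  refine ⟨P, ?_⟩
  apply Units.ext
  rw [Units.val_mul, Units.val_mul, hP, c0_val, hM]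
  have q00 := congrFun (congrFun hquad 0) 0
  have q10 := congrFun (congrFun hquad 1) 0
  simp [Matrix.mul_apply, Fin.sum_univ_two] at q00 q10
  ext i j
  fin_cases i <;> fin_cases j <;> simp [c0Mat, Matrix.mul_apply, Fin.sum_univ_two]
  · linear_combination q00
  · linear_combination q10

end Mat

section Main

variable (k : ℕ)

/-- the normal form predicate -/
def qPred (y : GL (Fin 2) (ZMod (2 ^ k))) : Prop :=
  ∃ (j : Fin 3) (ε δ : Fin 2),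
    (y : Matrix (Fin 2) (Fin 2) (ZMod (2 ^ k))) * c0Mat k ^ (j : ℕ) = matED k ε δ

theorem val_mul_c0_pow (y : GL (Fin 2) (ZMod (2 ^ k))) (j : ℕ) :
    ((y * c0 k ^ j : GL (Fin 2) (ZMod (2 ^ k))) : Matrix (Fin 2) (Fin 2) (ZMod (2 ^ k))) =
      (y : Matrix (Fin 2) (Fin 2) (ZMod (2 ^ k))) * c0Mat k ^ j := by
  rw [Units.val_mul, Units.val_pow_eq_pow_val, c0_val]

theorem a4_normal_form (hk : 1 ≤ k) (H : Subgroup (GL (Fin 2) (ZMod (2 ^ k))))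
    (f : ↥H ≃* ↥(alternatingGroup (Fin 4))) :
    ∃ P : GL (Fin 2) (ZMod (2 ^ k)), ∀ h : GL (Fin 2) (ZMod (2 ^ k)),
      h ∈ H ↔ qPred k (P⁻¹ * h * P) := by
  obtain ⟨c₀, hc₀3, hc₀1⟩ := a4_exists_order_three
  obtain ⟨cH, hcH⟩ : ∃ cH : ↥H, cH = f.symm c₀ := ⟨_, rfl⟩
  have hfc : f cH = c₀ := by rw [hcH, f.apply_symm_apply]
  have hcH3 : cH ^ 3 = 1 := by
    apply f.injective
    rw [map_pow, hfc, hc₀3, map_one]
  have hcH1 : cH ≠ 1 := by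
    intro h
    apply hc₀1
    rw [← hfc, h, map_one]
  have hc3 : (cH : GL (Fin 2) (ZMod (2 ^ k))) ^ 3 = 1 := by
    have h := congrArg Subtype.val hcH3
    simpa using h
  have hc1 : (cH : GL (Fin 2) (ZMod (2 ^ k))) ≠ 1 := fun h => hcH1 (Subtype.ext h)
  obtain ⟨P, hP⟩ := exists_conj_c0 k hk (cH : GL (Fin 2) (ZMod (2 ^ k))) hc3 hc1
  have hPc : P⁻¹ * (cH : GL (Fin 2) (ZMod (2 ^ k))) * P = c0 k := by
    rw [mul_assoc, hP, ← mul_assoc, inv_mul_cancel, one_mul]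
  have hPcj : ∀ j : ℕ, P⁻¹ * (cH : GL (Fin 2) (ZMod (2 ^ k))) ^ j * P = c0 k ^ j := by
    intro j
    induction j with
    | zero => simp
    | succ j ih =>
      rw [pow_succ, pow_succ, ← ih, ← hPc]
      group
  have hfwd : ∀ x : ↥H, qPred k (P⁻¹ * (x : GL (Fin 2) (ZMod (2 ^ k))) * P) := by
    intro x
    have hfc3 : (f cH) ^ 3 = 1 := by rw [hfc]; exact hc₀3
    have hfc1 : f cH ≠ 1 := by rw [hfc]; exact hc₀1
    obtain ⟨j, hj1, hj2⟩ := a4_sol_fact (f cH) (f x) hfc3 hfc1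
    have hw1 : (x * cH ^ (j : ℕ)) * (x * cH ^ (j : ℕ)) = 1 := by
      apply f.injective
      simp only [map_mul, map_pow, map_one]
      exact hj1
    have hw2 : (x * cH ^ (j : ℕ)) * (cH * (x * cH ^ (j : ℕ)) * cH⁻¹) =
        cH⁻¹ * (x * cH ^ (j : ℕ)) * cH := by
      apply f.injective
      simp only [map_mul, map_pow, map_inv]
      exact hj2
    have hv1 := congrArg Subtype.val hw1
    have hv2 := congrArg Subtype.val hw2
    simp only [Subgroup.coe_mul, Subgroup.coe_pow, Subgroup.coe_inv, Subgroup.coe_one] at hv1 hv2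
    have hconj : P⁻¹ * ((x : GL (Fin 2) (ZMod (2 ^ k))) *
        (cH : GL (Fin 2) (ZMod (2 ^ k))) ^ (j : ℕ)) * P =
        (P⁻¹ * (x : GL (Fin 2) (ZMod (2 ^ k))) * P) * c0 k ^ (j : ℕ) := by
      rw [← hPcj]; group
    generalize (x : GL (Fin 2) (ZMod (2 ^ k))) * (cH : GL (Fin 2) (ZMod (2 ^ k))) ^ (j : ℕ) = w
      at hv1 hv2 hconj
    have ha1 : (P⁻¹ * w * P) * (P⁻¹ * w * P) = 1 := by
      calc (P⁻¹ * w * P) * (P⁻¹ * w * P) = P⁻¹ * (w * w) * P := by group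
        _ = 1 := by rw [hv1]; group
    have ha2 : (P⁻¹ * w * P) * (c0 k * (P⁻¹ * w * P) * (c0 k)⁻¹) =
        (c0 k)⁻¹ * (P⁻¹ * w * P) * c0 k := by
      rw [← hPc]
      calc (P⁻¹ * w * P) * (P⁻¹ * (cH : GL (Fin 2) (ZMod (2 ^ k))) * P * (P⁻¹ * w * P) *
            (P⁻¹ * (cH : GL (Fin 2) (ZMod (2 ^ k))) * P)⁻¹)
          = P⁻¹ * (w * ((cH : GL (Fin 2) (ZMod (2 ^ k))) * w *
              (cH : GL (Fin 2) (ZMod (2 ^ k)))⁻¹)) * P := by group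
        _ = P⁻¹ * ((cH : GL (Fin 2) (ZMod (2 ^ k)))⁻¹ * w *
              (cH : GL (Fin 2) (ZMod (2 ^ k)))) * P := by rw [hv2]
        _ = (P⁻¹ * (cH : GL (Fin 2) (ZMod (2 ^ k))) * P)⁻¹ * (P⁻¹ * w * P) *
              (P⁻¹ * (cH : GL (Fin 2) (ZMod (2 ^ k))) * P) := by group
    obtain ⟨ε, δ, hεδ⟩ := sol_form k hk (P⁻¹ * w * P) ha1 ha2
    refine ⟨j, ε, δ, ?_⟩
    rw [← hεδ, hconj, val_mul_c0_pow]
  choose Fj Fε Fδ hF using hfwd
  have hinj : Function.Injective (fun x : ↥H => (Fj x, Fε x, Fδ x)) := by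
    intro x x' hxx
    simp only [Prod.mk.injEq] at hxx
    obtain ⟨h1, h2, h3⟩ := hxx
    have e1 := hF x
    have e2 := hF x'
    rw [h1, h2, h3] at e1
    have e3 : (P⁻¹ * (x : GL (Fin 2) (ZMod (2 ^ k))) * P) * c0 k ^ (Fj x' : ℕ) =
        (P⁻¹ * (x' : GL (Fin 2) (ZMod (2 ^ k))) * P) * c0 k ^ (Fj x' : ℕ) := by
      apply Units.ext
      rw [val_mul_c0_pow, val_mul_c0_pow, e1, e2]
    apply Subtype.ext
    exact mul_left_cancel (mul_right_cancel (mul_right_cancel e3))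
  haveI : Finite ↥H := Finite.of_equiv _ f.symm.toEquiv
  have hbij : Function.Bijective (fun x : ↥H => (Fj x, Fε x, Fδ x)) := by
    rw [Nat.bijective_iff_injective_and_card]
    refine ⟨hinj, ?_⟩
    rw [Nat.card_congr f.toEquiv, a4_card]
    simp [Nat.card_eq_fintype_card]
  refine ⟨P, fun h => ⟨fun hh => ⟨_, _, _, hF ⟨h, hh⟩⟩, ?_⟩⟩
  rintro ⟨j, ε, δ, hjed⟩
  obtain ⟨x, hx⟩ := hbij.2 (j, ε, δ)
  simp only [Prod.mk.injEq] at hx
  obtain ⟨h1, h2, h3⟩ := hx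
  have e1 := hF x
  rw [h1, h2, h3] at e1
  have e3 : (P⁻¹ * (x : GL (Fin 2) (ZMod (2 ^ k))) * P) * c0 k ^ (j : ℕ) =
      (P⁻¹ * h * P) * c0 k ^ (j : ℕ) := by
    apply Units.ext
    rw [val_mul_c0_pow, val_mul_c0_pow, e1, hjed]
  have e5 : (x : GL (Fin 2) (ZMod (2 ^ k))) = h :=
    mul_left_cancel (mul_right_cancel (mul_right_cancel e3))
  rw [← e5]
  exact x.2

theorem a4_subgroups_conj (hk : 2 ≤ k) (H₁ H₂ : Subgroup (GL (Fin 2) (ZMod (2 ^ k))))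
    (h₁ : Nonempty (↥H₁ ≃* ↥(alternatingGroup (Fin 4))))
    (h₂ : Nonempty (↥H₂ ≃* ↥(alternatingGroup (Fin 4)))) :
    ∃ g : GL (Fin 2) (ZMod (2 ^ k)), H₂ = H₁.map (MulAut.conj g).toMonoidHom := by
  obtain ⟨f₁⟩ := h₁
  obtain ⟨f₂⟩ := h₂
  obtain ⟨P₁, hP₁⟩ := a4_normal_form k (by omega) H₁ f₁
  obtain ⟨P₂, hP₂⟩ := a4_normal_form k (by omega) H₂ f₂
  refine ⟨P₂ * P₁⁻¹, ?_⟩
  ext h
  rw [Subgroup.mem_map, hP₂]
  constructor
  · intro hq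
    refine ⟨P₁ * (P₂⁻¹ * h * P₂) * P₁⁻¹, ?_, ?_⟩
    · rw [hP₁]
      have e : P₁⁻¹ * (P₁ * (P₂⁻¹ * h * P₂) * P₁⁻¹) * P₁ = P₂⁻¹ * h * P₂ := by group
      rw [e]; exact hq
    · show P₂ * P₁⁻¹ * (P₁ * (P₂⁻¹ * h * P₂) * P₁⁻¹) * (P₂ * P₁⁻¹)⁻¹ = h
      group
  · rintro ⟨x, hx, rfl⟩
    rw [hP₁] at hx
    have e : P₂⁻¹ * (MulAut.conj (P₂ * P₁⁻¹)).toMonoidHom x * P₂ = P₁⁻¹ * x * P₁ := by
      show P₂⁻¹ * (P₂ * P₁⁻¹ * x * (P₂ * P₁⁻¹)⁻¹) * P₂ = P₁⁻¹ * x * P₁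
      group
    rw [e]; exact hx

end Main

end Cfsg.Agent.Helper16
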