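import Cfsg.Agent.Helper16.PReducedSubnormal
import Cfsg.Agent.Helper16.FStarAction
import Cfsg.Agent.Helper16.Comm
import Cfsg.Agent.Helper20.MinAction
import Cfsg.Agent.Helper17.AxB
import Cfsg.Agent.Helper9.Layer
import Cfsg.Agent.Helper9.Layer3
import Cfsg.Agent.Helper9.ABLemma

set_option autoImplicit false

namespace Cfsg.Agent.Helper16

open Cfsg

variable {G : Type*} [Group G] {p : ℕ}

theorem isPGroup_of_pReduced {V : Subgroup G} (hV : IsPReducedNormal p V) : IsPGroup p ↥V :=
  fun g => ⟨1, by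
    apply Subtype.ext
    rw [pow_one, Subgroup.coe_pow]
    exact hV.2.1.2 g g.2⟩

theorem exists_pow_coprime [hp : Fact p.Prime] [Finite G] (x : G) :
    ∃ e : ℕ, (orderOf (x ^ (p ^ e))).Coprime p := by
  obtain ⟨e, m, hm, he⟩ :=
    Nat.exists_eq_pow_mul_and_not_dvd (orderOf_pos x).ne' p hp.out.ne_one
  refine ⟨e, ?_⟩
  have h1 : orderOf (x ^ (p ^ e)) = m := by
    rw [orderOf_pow_of_dvd (pow_pos hp.out.pos e).ne' (he ▸ dvd_mul_right _ _), he,
      Nat.mul_div_cancel_left _ (pow_pos hp.out.pos e)]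
  rw [h1]
  exact ((Nat.Prime.coprime_iff_not_dvd hp.out).mpr hm).symm

/-- a `p`-reduced normal subgroup lies in `Ω₁(Z(O_p))` (no hypothesis on the group) -/
theorem pReduced_le_omegaCenter' {V : Subgroup G} (hV : IsPReducedNormal p V) :
    V ≤ omegaCenter p (pCore p G) := by
  intro a ha
  exact ⟨⟨le_pCore hV.1 (isPGroup_of_pReduced hV) ha,
    Subgroup.le_centralizer_iff.mp (pCore_le_centralizer_of_pReduced hV) ha⟩, hV.2.1.2 a ha⟩

/-- the join of all `p`-reduced normal subgroups is `p`-reduced -/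
theorem sSup_isPReducedNormal' :
    IsPReducedNormal p (sSup {V : Subgroup G | IsPReducedNormal p V}) := by
  rw [isPReducedNormal_iff]
  refine ⟨Subgroup.sSup_normal _ (fun _ hH => hH.1),
    isElementaryAbelian_of_le_omegaCenter (sSup_le (fun _ hV => pReduced_le_omegaCenter' hV)), ?_⟩
  intro D hD hx
  rw [Subgroup.le_centralizer_iff]
  refine sSup_le ?_
  intro V hV
  rw [← Subgroup.le_centralizer_iff]
  obtain ⟨-, -, h⟩ := (isPReducedNormal_iff V).mp hV
  refine h D hD ?_
  intro x hxD
  obtain ⟨k, hk⟩ := hx x hxD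
  exact ⟨k, Subgroup.centralizer_le (le_sSup (a := V) hV) hk⟩

theorem largestPReducedOf_isPReduced' (L : Subgroup G) :
    IsPReducedNormal p ((largestPReducedOf p L).subgroupOf L) := by
  rw [largestPReducedOf_subgroupOf]
  exact sSup_isPReducedNormal'

/-- automorphisms preserve `p`-reduced normal subgroups -/
theorem isPReducedNormal_map_equiv {V : Subgroup G} (hV : IsPReducedNormal p V) (φ : G ≃* G) :
    IsPReducedNormal p (V.map φ.toMonoidHom) := by
  obtain ⟨hVn, hVe, hVD⟩ := (isPReducedNormal_iff V).mp hV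
  obtain ⟨hc, he⟩ := isElementaryAbelian_iff.mp hVe
  rw [isPReducedNormal_iff]
  refine ⟨hVn.map φ.toMonoidHom φ.surjective, ?_, ?_⟩
  · rw [isElementaryAbelian_iff]
    constructor
    · rintro _ ⟨a, ha, rfl⟩ _ ⟨b, hb, rfl⟩
      rw [← map_mul, ← map_mul, hc a ha b hb]
    · rintro _ ⟨a, ha, rfl⟩
      rw [← map_pow, he a ha, map_one]
  · intro D hDn hDx
    have h1 : D.comap φ.toMonoidHom ≤ Subgroup.centralizer (V : Set G) := by
      apply hVD _ (hDn.comap _)
      intro y hy
      obtain ⟨k, hk⟩ := hDx _ hy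
      refine ⟨k, ?_⟩
      rw [Subgroup.mem_centralizer_iff]
      intro v hv
      have h2 := Subgroup.mem_centralizer_iff.mp hk (φ.toMonoidHom v) (Subgroup.mem_map_of_mem _ hv)
      apply φ.injective
      rw [map_mul, map_mul, map_pow]
      exact h2
    intro x hxD
    obtain ⟨y, rfl⟩ := φ.surjective x
    have hy : y ∈ Subgroup.centralizer (V : Set G) := h1 hxD
    rw [Subgroup.mem_centralizer_iff]
    rintro _ ⟨v, hv, rfl⟩
    have h3 := Subgroup.mem_centralizer_iff.mp hy v hv
    show φ v * φ y = φ y * φ v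
    rw [← map_mul, ← map_mul, h3]

theorem largestPReduced_characteristic (p : ℕ) (X : Type*) [Group X] :
    (largestPReduced p X).Characteristic := by
  rw [Subgroup.characteristic_iff_map_le]
  intro φ
  rw [Subgroup.map_le_iff_le_comap]
  unfold largestPReduced
  apply sSup_le
  intro V hV
  rw [← Subgroup.map_le_iff_le_comap]
  exact le_sSup (isPReducedNormal_map_equiv hV φ)

theorem normalizer_le_normalizer_largestPReducedOf (p : ℕ) (L : Subgroup G) :
    Subgroup.normalizer (L : Set G) ≤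
      Subgroup.normalizer ((largestPReducedOf p L : Subgroup G) : Set G) := by
  haveI := largestPReduced_characteristic p ↥L
  exact Helper9.char_map_normalizer L (largestPReduced p ↥L)

theorem largestPReducedOf_top_le :
    largestPReducedOf p (⊤ : Subgroup G) ≤ largestPReduced p G := by
  obtain ⟨h1, h2, h3⟩ :=
    (isPReducedNormal_subgroupOf_iff (le_top : largestPReducedOf p (⊤ : Subgroup G) ≤ ⊤)).mp
      (largestPReducedOf_isPReduced' ⊤)
  apply le_sSup
  show IsPReducedNormal p (largestPReducedOf p (⊤ : Subgroup G))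
  rw [isPReducedNormal_iff]
  refine ⟨Subgroup.normalizer_eq_top_iff.mp (top_le_iff.mp h1), h2, ?_⟩
  intro D hDn hDx
  exact h3 D le_top (Subgroup.normalizer_eq_top_iff.mpr hDn).ge hDx

/-- a `p'`-element of a subnormal subgroup `L` centralizing `V ∩ L` centralizes the normal
`p`-subgroup `V` -/
theorem coprime_centralizes_of_inf [Fact p.Prime] [Finite G] {V : Subgroup G} (hVn : V.Normal)
    (hVp : IsPGroup p V) {L : Subgroup G} (hL : L.IsSubnormal) {x : G} (hxL : x ∈ L)
    (hcop : (orderOf x).Coprime p)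
    (hx : x ∈ Subgroup.centralizer ((V ⊓ L : Subgroup G) : Set G)) :
    x ∈ Subgroup.centralizer (V : Set G) := by
  rw [Subgroup.mem_centralizer_iff]
  intro v hv
  have hcV : v * x * v⁻¹ * x⁻¹ ∈ V := by
    have e : v * x * v⁻¹ * x⁻¹ = v * (x * v⁻¹ * x⁻¹) := by group
    rw [e]; exact V.mul_mem hv (hVn.conj_mem _ (V.inv_mem hv) x)
  have hconj : v * x * v⁻¹ ∈ L := by
    apply coprime_mem_of_mem_sup_of_isSubnormal hVn hVp hL
    · exact Subgroup.mul_mem _ (Subgroup.mul_mem _ (Subgroup.mem_sup_left hv)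
        (Subgroup.mem_sup_right hxL)) (Subgroup.inv_mem _ (Subgroup.mem_sup_left hv))
    · rw [orderOf_conj']; exact hcop
  have hcL : v * x * v⁻¹ * x⁻¹ ∈ L := L.mul_mem hconj (L.inv_mem hxL)
  have hcomm : Commute (v * x * v⁻¹ * x⁻¹) x :=
    Subgroup.mem_centralizer_iff.mp hx _ (Subgroup.mem_inf.mpr ⟨hcV, hcL⟩)
  have hpow : ∃ k, (v * x * v⁻¹ * x⁻¹) ^ (p ^ k) = 1 := by
    obtain ⟨k, hk⟩ := hVp ⟨_, hcV⟩
    exact ⟨k, congrArg Subtype.val hk⟩
  exact comm_of_coprime_step x v hcop hcomm hpow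

/-- a subnormal subgroup `D ≤ L` whose `p'`-elements centralize `V ∩ L` centralizes the
`p`-reduced normal subgroup `V` -/
theorem isSubnormal_le_centralizer_of_inf [Fact p.Prime] [Finite G] {V : Subgroup G}
    (hV : IsPReducedNormal p V) {L : Subgroup G} (hL : L.IsSubnormal) {D : Subgroup G}
    (hD : D.IsSubnormal) (hDL : D ≤ L)
    (hx : ∀ x ∈ D, (orderOf x).Coprime p →
      x ∈ Subgroup.centralizer ((V ⊓ L : Subgroup G) : Set G)) :
    D ≤ Subgroup.centralizer (V : Set G) := by
  apply isSubnormal_le_centralizer_of_pReduced hV hD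
  intro x hxD
  obtain ⟨e, he⟩ := exists_pow_coprime (p := p) x
  exact ⟨e, coprime_centralizes_of_inf hV.1 (isPGroup_of_pReduced hV) hL
    (hDL (D.pow_mem hxD _)) he (hx _ (D.pow_mem hxD _) he)⟩

/-- Thompson `A × B` for a `p'`-element commuting with `D` only modulo `C(A)` -/
theorem axb_mod [Fact p.Prime] [Finite G] {A D : Subgroup G}
    (hAc : ∀ a ∈ A, ∀ b ∈ A, a * b = b * a) (hAe : ∀ a ∈ A, a ^ p = 1)
    (hDA : D ≤ Subgroup.normalizer (A : Set G))
    (hDp : ∀ d ∈ D, ∃ k : ℕ, d ^ (p ^ k) ∈ Subgroup.centralizer (A : Set G))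
    {x : G} (hxA : x ∈ Subgroup.normalizer (A : Set G)) (hcop : (orderOf x).Coprime p)
    (hDx : ∀ d ∈ D, d * x * d⁻¹ * x⁻¹ ∈ Subgroup.centralizer (A : Set G))
    (hfix : x ∈ Subgroup.centralizer
      ((A ⊓ Subgroup.centralizer (D : Set G) : Subgroup G) : Set G)) :
    x ∈ Subgroup.centralizer (A : Set G) := by
  have hAp : IsPGroup p ↥A := fun g => ⟨1, by
    apply Subtype.ext
    rw [pow_one, Subgroup.coe_pow]
    exact hAe g g.2⟩
  have hXA : Subgroup.zpowers x ≤ Subgroup.normalizer (A : Set G) := by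
    rw [Subgroup.zpowers_le]; exact hxA
  have hcardX : Nat.card ↥(Subgroup.zpowers x) = orderOf x := Nat.card_zpowers x
  obtain ⟨n, hn⟩ := IsPGroup.iff_card.mp hAp
  have hcopXA : (Nat.card ↥(Subgroup.zpowers x)).Coprime (Nat.card ↥A) := by
    rw [hcardX, hn]; exact Nat.Coprime.pow_right n hcop
  have hsolvA : Group.IsSolvable ↥A :=
    isSolvable_of_comm (fun a b => Subtype.ext (hAc a a.2 b b.2))
  have hBA : ⁅A, Subgroup.zpowers x⁆ ≤ A := commutator_le_of_le_normalizer hXA
  have hdec := coprime_le_commutator_sup_centralizer A (Subgroup.zpowers x) hXA hcopXA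
    (Or.inr hsolvA)
  have hBB := comm_eq_comm_comm_of_dec hdec
  have hXB : Subgroup.zpowers x ≤
      Subgroup.normalizer ((⁅A, Subgroup.zpowers x⁆ : Subgroup G) : Set G) :=
    le_normalizer_commutator_right A (Subgroup.zpowers x)
  have hcopXB : (Nat.card ↥(Subgroup.zpowers x)).Coprime
      (Nat.card ↥(⁅A, Subgroup.zpowers x⁆ : Subgroup G)) :=
    Nat.Coprime.coprime_dvd_right (Subgroup.card_dvd_of_le hBA) hcopXA
  have hfixB := Helper20.fixed_le_commutator ⁅A, Subgroup.zpowers x⁆ (Subgroup.zpowers x) hXB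
    hcopXB hBB.symm
  have hBBbot : ⁅⁅A, Subgroup.zpowers x⁆, ⁅A, Subgroup.zpowers x⁆⁆ = ⊥ := by
    rw [Subgroup.commutator_eq_bot_iff_le_centralizer]
    intro a ha
    rw [Subgroup.mem_centralizer_iff]
    intro b hb
    exact hAc b (hBA hb) a (hBA ha)
  rw [hBBbot] at hfixB
  -- `D` normalizes `[A, x]`
  have hCN : Subgroup.centralizer (A : Set G) ≤
      Subgroup.normalizer ((⁅A, Subgroup.zpowers x⁆ : Subgroup G) : Set G) :=
    (Subgroup.centralizer_le hBA).trans (Subgroup.centralizer_le_normalizer _)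
  have hAC : ⁅A, Subgroup.centralizer (A : Set G)⁆ ≤ ⁅A, Subgroup.zpowers x⁆ := by
    have h0 : ⁅A, Subgroup.centralizer (A : Set G)⁆ = ⊥ := by
      rw [Subgroup.commutator_eq_bot_iff_le_centralizer]
      exact Subgroup.le_centralizer_iff.mp le_rfl
    rw [h0]; exact bot_le
  have hsup : ⁅A, Subgroup.zpowers x ⊔ Subgroup.centralizer (A : Set G)⁆ ≤
      ⁅A, Subgroup.zpowers x⁆ :=
    commutator_sup_le hXB hCN le_rfl hAC
  have hDB : D ≤ Subgroup.normalizer ((⁅A, Subgroup.zpowers x⁆ : Subgroup G) : Set G) := by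
    apply le_normalizer_of_conj_mem
    intro d hd u hu
    have h1 : (⁅A, Subgroup.zpowers x⁆ : Subgroup G).map (MulAut.conj d).toMonoidHom ≤
        ⁅A, Subgroup.zpowers x⁆ := by
      rw [Subgroup.map_commutator, Helper9.map_conj_eq_of_mem_normalizer (hDA hd),
        MonoidHom.map_zpowers]
      refine (Subgroup.commutator_mono le_rfl ?_).trans hsup
      rw [Subgroup.zpowers_le]
      have e : (MulAut.conj d).toMonoidHom x = (d * x * d⁻¹ * x⁻¹) * x := by
        show d * x * d⁻¹ = _
        group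
      rw [e]
      exact Subgroup.mul_mem _ (Subgroup.mem_sup_right (hDx d hd))
        (Subgroup.mem_sup_left (Subgroup.mem_zpowers x))
    exact h1 (Subgroup.mem_map.mpr ⟨u, hu, rfl⟩)
  -- conclude
  by_contra hxc
  have hB1 : (⁅A, Subgroup.zpowers x⁆ : Subgroup G) ≠ ⊥ := by
    intro h
    apply hxc
    have h2 := Subgroup.commutator_eq_bot_iff_le_centralizer.mp h
    have h3 := Subgroup.le_centralizer_iff.mp h2
    exact h3 (Subgroup.mem_zpowers x)
  obtain ⟨P⟩ : Nonempty (Sylow p ↥D) := inferInstance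
  have hDC : D ⊓ Subgroup.centralizer (A : Set G) ≤ D := inf_le_left
  haveI hNn : ((D ⊓ Subgroup.centralizer (A : Set G)).subgroupOf D).Normal :=
    (Subgroup.normal_subgroupOf_iff_le_normalizer hDC).mpr
      (le_normalizer_inf' Subgroup.le_normalizer
        (hDA.trans (normalizer_le_normalizer_centralizer A)))
  have hpow : ∀ y : ↥D, ∃ k : ℕ,
      y ^ (p ^ k) ∈ (D ⊓ Subgroup.centralizer (A : Set G)).subgroupOf D := by
    intro y
    obtain ⟨k, hk⟩ := hDp y y.2
    refine ⟨k, ?_⟩
    rw [Subgroup.mem_subgroupOf, Subgroup.coe_pow]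
    exact Subgroup.mem_inf.mpr ⟨D.pow_mem y.2 _, hk⟩
  have hSp : IsPGroup p ↥((P : Subgroup ↥D).map D.subtype) := P.2.map _
  have hSD : (P : Subgroup ↥D).map D.subtype ≤ D := Subgroup.map_subtype_le _
  have hBp : IsPGroup p ↥(⁅A, Subgroup.zpowers x⁆ : Subgroup G) := hAp.to_le hBA
  have hSB : (P : Subgroup ↥D).map D.subtype ≤
      Subgroup.normalizer ((⁅A, Subgroup.zpowers x⁆ : Subgroup G) : Set G) := hSD.trans hDB
  have hTp : IsPGroup p ↥((P : Subgroup ↥D).map D.subtype ⊔ ⁅A, Subgroup.zpowers x⁆) :=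
    IsPGroup.to_sup_of_normal_right' hSp hBp hSB
  obtain ⟨z, hzB, hzo, hzT⟩ := Helper17.exists_central_mem_of_normal _ _ hTp le_sup_right
    (sup_le hSB Subgroup.le_normalizer) hB1
  have hzA : z ∈ A := hBA hzB
  have hzD : z ∈ Subgroup.centralizer (D : Set G) := by
    rw [Subgroup.mem_centralizer_iff]
    intro d hd
    obtain ⟨s, hs, c, hc, he⟩ := exists_mul_of_pow_mem P _ hpow ⟨d, hd⟩
    have he' : d = (s : G) * (c : G) := congrArg Subtype.val he
    have hsz : (s : G) * z = z * (s : G) :=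
      hzT _ (Subgroup.mem_sup_left (Subgroup.mem_map.mpr ⟨s, hs, rfl⟩))
    have hcz : (c : G) * z = z * (c : G) :=
      (Subgroup.mem_centralizer_iff.mp
        (Subgroup.mem_inf.mp (Subgroup.mem_subgroupOf.mp hc)).2 z hzA).symm
    rw [he', mul_assoc, hcz, ← mul_assoc, hsz, mul_assoc]
  have hzx : z * x = x * z :=
    Subgroup.mem_centralizer_iff.mp hfix z (Subgroup.mem_inf.mpr ⟨hzA, hzD⟩)
  have hzX : z ∈ Subgroup.centralizer ((Subgroup.zpowers x : Subgroup G) : Set G) := by
    rw [Subgroup.mem_centralizer_iff]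
    intro h hh
    obtain ⟨i, rfl⟩ := Subgroup.mem_zpowers_iff.mp hh
    exact (Commute.zpow_left (show Commute x z from hzx.symm) i).eq
  have hz1 : z = 1 := Subgroup.mem_bot.mp (hfixB (Subgroup.mem_inf.mpr ⟨hzB, hzX⟩))
  rw [hz1, orderOf_one] at hzo
  exact (Fact.out : p.Prime).one_lt.ne hzo

/-- descending induction: a `p`-reduced normal subgroup `A` of `L ⊴ K`, normal in `K`, contains
a `p`-reduced normal subgroup `A'` of `K` which detects the `p'`-elements of `L` centralizing
`A` -/
theorem pReduced_descend [Fact p.Prime] [Finite G] {K L : Subgroup G} (hLK : L ≤ K)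
    (hKL : K ≤ Subgroup.normalizer (L : Set G)) (n : ℕ) :
    ∀ A : Subgroup G, Nat.card ↥A = n → A ≤ L → K ≤ Subgroup.normalizer (A : Set G) →
      IsPReducedNormal p (A.subgroupOf L) →
      ∃ A' : Subgroup G, A' ≤ A ∧ IsPReducedNormal p (A'.subgroupOf K) ∧
        ∀ y ∈ L, (orderOf y).Coprime p → y ∈ Subgroup.centralizer (A' : Set G) →
          y ∈ Subgroup.centralizer (A : Set G) := by
  induction n using Nat.strong_induction_on with
  | _ n ih =>
    intro A hcard hAL hKA hA
    have hAK : A ≤ K := hAL.trans hLK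
    obtain ⟨hLA, hAe, hAD⟩ := (isPReducedNormal_subgroupOf_iff hAL).mp hA
    obtain ⟨hAc, hAp⟩ := isElementaryAbelian_iff.mp hAe
    by_cases hred : IsPReducedNormal p (A.subgroupOf K)
    · exact ⟨A, le_rfl, hred, fun y _ _ hy => hy⟩
    · have hex : ∃ D : Subgroup G, D ≤ K ∧ K ≤ Subgroup.normalizer (D : Set G) ∧
          (∀ x ∈ D, ∃ k : ℕ, x ^ (p ^ k) ∈ Subgroup.centralizer (A : Set G)) ∧
          ¬ D ≤ Subgroup.centralizer (A : Set G) := by
        by_contra hno
        apply hred
        rw [isPReducedNormal_subgroupOf_iff hAK]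
        refine ⟨hKA, hAe, ?_⟩
        intro D h1 h2 h3
        by_contra h4
        exact hno ⟨D, h1, h2, h3, h4⟩
      obtain ⟨D, hDK, hKD, hDp, hDA⟩ := hex
      have hDLA : D ⊓ L ≤ Subgroup.centralizer (A : Set G) := by
        apply hAD (D ⊓ L) inf_le_right
          (le_normalizer_inf' (hLK.trans hKD) Subgroup.le_normalizer)
        intro x hx
        exact hDp x hx.1
      have hcomm : ∀ d ∈ D, ∀ y ∈ L,
          d * y * d⁻¹ * y⁻¹ ∈ Subgroup.centralizer (A : Set G) := by
        intro d hd y hy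
        apply hDLA
        refine Subgroup.mem_inf.mpr ⟨?_, ?_⟩
        · have h1 : y * d⁻¹ * y⁻¹ ∈ D :=
            (Subgroup.mem_normalizer_iff.mp (hKD (hLK hy)) d⁻¹).mp (D.inv_mem hd)
          have e : d * y * d⁻¹ * y⁻¹ = d * (y * d⁻¹ * y⁻¹) := by group
          rw [e]; exact D.mul_mem hd h1
        · have h1 : d * y * d⁻¹ ∈ L :=
            (Subgroup.mem_normalizer_iff.mp (hKL (hDK hd)) y).mp hy
          exact L.mul_mem h1 (L.inv_mem hy)
      have haxb : ∀ y ∈ L, (orderOf y).Coprime p →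
          y ∈ Subgroup.centralizer
            ((A ⊓ Subgroup.centralizer (D : Set G) : Subgroup G) : Set G) →
          y ∈ Subgroup.centralizer (A : Set G) := fun y hy hcop hfix =>
        axb_mod hAc hAp (hDK.trans hKA) hDp (hKA (hLK hy)) hcop
          (fun d hd => hcomm d hd y hy) hfix
      have hA₁L : A ⊓ Subgroup.centralizer (D : Set G) ≤ L := inf_le_left.trans hAL
      have hKA₁ : K ≤ Subgroup.normalizer
          ((A ⊓ Subgroup.centralizer (D : Set G) : Subgroup G) : Set G) :=
        le_normalizer_inf' hKA (hKD.trans (normalizer_le_normalizer_centralizer D))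
      have hA₁ : IsPReducedNormal p ((A ⊓ Subgroup.centralizer (D : Set G)).subgroupOf L) := by
        rw [isPReducedNormal_subgroupOf_iff hA₁L]
        refine ⟨hLK.trans hKA₁, ?_, ?_⟩
        · rw [isElementaryAbelian_iff]
          exact ⟨fun a ha b hb => hAc a ha.1 b hb.1, fun a ha => hAp a ha.1⟩
        · intro D₁ hD₁L hLD₁ hD₁x
          refine (hAD D₁ hD₁L hLD₁ ?_).trans (Subgroup.centralizer_le inf_le_left)
          intro y hy
          obtain ⟨e, he⟩ := exists_pow_coprime (p := p) y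
          refine ⟨e, haxb _ (hD₁L (D₁.pow_mem hy _)) he ?_⟩
          obtain ⟨k, hk⟩ := hD₁x y hy
          apply mem_of_pow_mem_of_coprime_order (Nat.Coprime.pow_left k he.symm) (n := p ^ k)
          have e2 : (y ^ p ^ e) ^ p ^ k = (y ^ p ^ k) ^ p ^ e := by
            rw [← pow_mul, ← pow_mul, mul_comm]
          rw [e2]
          exact Subgroup.pow_mem _ hk _
      have hlt : A ⊓ Subgroup.centralizer (D : Set G) < A := by
        refine lt_of_le_of_ne inf_le_left ?_
        intro h
        apply hDA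
        rw [Subgroup.le_centralizer_iff]
        exact (le_of_eq h.symm).trans inf_le_right
      obtain ⟨A', hA'le, hA'red, hA'c⟩ := ih _
        (by rw [← hcard]; exact Helper9.card_lt_of_lt hlt)
        (A ⊓ Subgroup.centralizer (D : Set G)) rfl hA₁L hKA₁ hA₁
      exact ⟨A', hA'le.trans inf_le_left, hA'red,
        fun y hy hcop hyc => haxb y hy hcop (hA'c y hy hcop hyc)⟩

/-- normal case: a `p'`-element of `L ⊴ K` centralizing `Y_K` centralizes `Y_L` -/
theorem coprime_centralizes_of_normal [Fact p.Prime] [Finite G] {K L : Subgroup G} (hLK : L ≤ K)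
    (hKL : K ≤ Subgroup.normalizer (L : Set G)) {x : G} (hxL : x ∈ L)
    (hcop : (orderOf x).Coprime p)
    (hx : x ∈ Subgroup.centralizer ((largestPReducedOf p K : Subgroup G) : Set G)) :
    x ∈ Subgroup.centralizer ((largestPReducedOf p L : Subgroup G) : Set G) := by
  obtain ⟨A', hA'le, hA'red, hA'c⟩ := pReduced_descend hLK hKL _ (largestPReducedOf p L) rfl
    (largestPReducedOf_le p L) (hKL.trans (normalizer_le_normalizer_largestPReducedOf p L))
    (largestPReducedOf_isPReduced' L)
  have hA'K : A' ≤ K := hA'le.trans ((largestPReducedOf_le p L).trans hLK)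
  exact hA'c x hxL hcop (Subgroup.centralizer_le (le_largestPReducedOf hA'K hA'red) hx)

/-- a `p'`-element of a subnormal subgroup `L` centralizing `Y_G` centralizes `Y_L` -/
theorem coprime_centralizes_of_isSubnormal [Fact p.Prime] [Finite G] {L : Subgroup G}
    (hL : L.IsSubnormal) :
    ∀ x ∈ L, (orderOf x).Coprime p → x ∈ Subgroup.centralizer (largestPReduced p G : Set G) →
      x ∈ Subgroup.centralizer ((largestPReducedOf p L : Subgroup G) : Set G) := by
  induction hL with
  | top =>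
    intro x _ _ hx
    exact Subgroup.centralizer_le largestPReducedOf_top_le hx
  | step H K hle hK hN ih =>
    intro x hxH hcop hx
    have hKH : K ≤ Subgroup.normalizer (H : Set G) :=
      (Subgroup.normal_subgroupOf_iff_le_normalizer hle).mp hN
    exact coprime_centralizes_of_normal hle hKH hxH hcop (ih x (hle hxH) hcop hx)

/-- `Y_H` and `Y_L` for a subnormal subgroup `L` -/
theorem largestPReduced_subnormal [Fact p.Prime] [Finite G] (L : Subgroup G)
    (hL : L.IsSubnormal) :
    largestPReduced p G ⊓ L = largestPReduced p G ⊓ largestPReducedOf p L ∧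
    IsPReducedNormal p ((largestPReduced p G ⊓ L).subgroupOf L) ∧
    L ⊓ Subgroup.centralizer ((largestPReducedOf p L : Subgroup G) : Set G) =
      L ⊓ Subgroup.centralizer (largestPReduced p G : Set G) ∧
    L ⊓ Subgroup.centralizer (largestPReduced p G : Set G) =
      L ⊓ Subgroup.centralizer ((largestPReduced p G ⊓ L : Subgroup G) : Set G) ∧
    (pResidual p G ≤ L →
      (⁅largestPReducedOf p L, L⁆ = ⊥ ↔ ⁅largestPReduced p G, (⊤ : Subgroup G)⁆ = ⊥)) := by
  have hY : IsPReducedNormal p (largestPReduced p G) := sSup_isPReducedNormal'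
  have hYLL := largestPReducedOf_le p L
  obtain ⟨hLYL, hYLe, hYLD⟩ :=
    (isPReducedNormal_subgroupOf_iff hYLL).mp (largestPReducedOf_isPReduced' L)
  have hsub := coprime_centralizes_of_isSubnormal (p := p) hL
  have hle : ∀ V : Subgroup G, V ≤ L → IsPReducedNormal p (V.subgroupOf L) →
      V ≤ largestPReducedOf p L := fun V hVL hV => le_largestPReducedOf hVL hV
  generalize largestPReduced p G = Y at hY hsub ⊢
  generalize largestPReducedOf p L = YL at hYLL hLYL hYLe hYLD hsub hle ⊢
  have hYn : Y.Normal := hY.1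
  have hYN : ∀ K : Subgroup G, K ≤ Subgroup.normalizer (Y : Set G) := fun K => by
    rw [Subgroup.normalizer_eq_top_iff.mpr hYn]; exact le_top
  have hsnL : ∀ D : Subgroup G, D ≤ L → L ≤ Subgroup.normalizer (D : Set G) → D.IsSubnormal :=
    fun D hDL hLD => Subgroup.IsSubnormal.trans hDL
      ((Subgroup.normal_subgroupOf_iff_le_normalizer hDL).mpr hLD).isSubnormal hL
  have h2 : IsPReducedNormal p ((Y ⊓ L).subgroupOf L) := by
    rw [isPReducedNormal_subgroupOf_iff inf_le_right]
    refine ⟨le_normalizer_inf' (hYN L) Subgroup.le_normalizer, ?_, ?_⟩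
    · rw [isElementaryAbelian_iff]
      obtain ⟨hc, he⟩ := isElementaryAbelian_iff.mp hY.2.1
      exact ⟨fun a ha b hb => hc a ha.1 b hb.1, fun a ha => he a ha.1⟩
    · intro D hDL hLD hDx
      refine (isSubnormal_le_centralizer_of_inf hY hL (hsnL D hDL hLD) hDL ?_).trans
        (Subgroup.centralizer_le inf_le_left)
      intro x hxD hcop
      obtain ⟨k, hk⟩ := hDx x hxD
      exact mem_of_pow_mem_of_coprime_order (Nat.Coprime.pow_left k hcop.symm) hk
  have h1le : Y ⊓ L ≤ YL := hle _ inf_le_right h2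
  have h1 : Y ⊓ L = Y ⊓ YL := le_antisymm (le_inf inf_le_left h1le) (inf_le_inf le_rfl hYLL)
  have h4 : L ⊓ Subgroup.centralizer (Y : Set G) =
      L ⊓ Subgroup.centralizer ((Y ⊓ L : Subgroup G) : Set G) := by
    apply le_antisymm (inf_le_inf le_rfl (Subgroup.centralizer_le inf_le_left))
    apply le_inf inf_le_left
    have hLN : L ≤ Subgroup.normalizer
        ((L ⊓ Subgroup.centralizer ((Y ⊓ L : Subgroup G) : Set G) : Subgroup G) : Set G) :=
      le_normalizer_inf' Subgroup.le_normalizer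
        ((le_normalizer_inf' (hYN L) Subgroup.le_normalizer).trans
          (normalizer_le_normalizer_centralizer _))
    exact isSubnormal_le_centralizer_of_inf hY hL (hsnL _ inf_le_left hLN) inf_le_left
      (fun x hx _ => hx.2)
  have h3b : L ⊓ Subgroup.centralizer (YL : Set G) ≤ Subgroup.centralizer (Y : Set G) := by
    have hLN : L ≤ Subgroup.normalizer
        ((L ⊓ Subgroup.centralizer (YL : Set G) : Subgroup G) : Set G) :=
      le_normalizer_inf' Subgroup.le_normalizer
        (hLYL.trans (normalizer_le_normalizer_centralizer _))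
    exact isSubnormal_le_centralizer_of_inf hY hL (hsnL _ inf_le_left hLN) inf_le_left
      (fun x hx _ => Subgroup.centralizer_le h1le hx.2)
  have h3a : L ⊓ Subgroup.centralizer (Y : Set G) ≤ Subgroup.centralizer (YL : Set G) := by
    have hLN : L ≤ Subgroup.normalizer
        ((L ⊓ Subgroup.centralizer (Y : Set G) : Subgroup G) : Set G) :=
      le_normalizer_inf' Subgroup.le_normalizer
        ((hYN L).trans (normalizer_le_normalizer_centralizer _))
    apply hYLD _ inf_le_left hLN
    intro x hx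
    obtain ⟨e, he⟩ := exists_pow_coprime (p := p) x
    exact ⟨e, hsub _ (L.pow_mem hx.1 _) he (Subgroup.pow_mem _ hx.2 _)⟩
  have h3 : L ⊓ Subgroup.centralizer (YL : Set G) = L ⊓ Subgroup.centralizer (Y : Set G) :=
    le_antisymm (le_inf inf_le_left h3b) (le_inf inf_le_left h3a)
  refine ⟨h1, h2, h3, h4, ?_⟩
  intro hres
  constructor
  · intro h
    have hLC : L ≤ Subgroup.centralizer (YL : Set G) :=
      Subgroup.le_centralizer_iff.mp (Subgroup.commutator_eq_bot_iff_le_centralizer.mp h)
    have hLY : L ≤ Subgroup.centralizer (Y : Set G) :=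
      fun x hx => h3b (Subgroup.mem_inf.mpr ⟨hx, hLC hx⟩)
    obtain ⟨-, -, hYD⟩ := (isPReducedNormal_iff Y).mp hY
    have htop : (⊤ : Subgroup G) ≤ Subgroup.centralizer (Y : Set G) := by
      apply hYD ⊤ inferInstance
      intro x _
      obtain ⟨k, hk⟩ := exists_pow_mem_pResidual (p := p) x
      exact ⟨k, hLY (hres hk)⟩
    rw [Subgroup.commutator_eq_bot_iff_le_centralizer, Subgroup.le_centralizer_iff]
    exact htop
  · intro h
    have htop : (⊤ : Subgroup G) ≤ Subgroup.centralizer (Y : Set G) :=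
      Subgroup.le_centralizer_iff.mp (Subgroup.commutator_eq_bot_iff_le_centralizer.mp h)
    rw [Subgroup.commutator_eq_bot_iff_le_centralizer, Subgroup.le_centralizer_iff]
    intro x hx
    exact h3a (Subgroup.mem_inf.mpr ⟨hx, htop (Subgroup.mem_top x)⟩)

end Cfsg.Agent.Helper16
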