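import Cfsg.Agent.Helper16.BasicProperty
import Cfsg.Agent.Helper16.WeaklyClosed
import Cfsg.Agent.Helper16.PReducedSub
import Cfsg.Agent.Helper16.ParabolicChar

set_option autoImplicit false

namespace Cfsg.Agent.Helper16

open Cfsg
open Cfsg.Agent.Helper17 (mem_map_conj map_conj_map_conj map_conj_one
  map_conj_eq_of_mem_normalizer sylow_smul_coe exists_normalizer_mem_not_mem
  exists_conj_le_sylow conj_mem_map_conj)

variable {G : Type*} [Group G] {p : ℕ}

/-- Asymmetry principle for two conjugates: if they normalize each other, they commute. -/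
theorem asym_conj_centralize {Y : Subgroup G} (hasym : ¬ IsSymmetricIn Y) (x z : G)
    (h1 : Y.map (MulAut.conj x).toMonoidHom ≤
      Subgroup.normalizer ((Y.map (MulAut.conj z).toMonoidHom : Subgroup G) : Set G))
    (h2 : Y.map (MulAut.conj z).toMonoidHom ≤
      Subgroup.normalizer ((Y.map (MulAut.conj x).toMonoidHom : Subgroup G) : Set G)) :
    Y.map (MulAut.conj x).toMonoidHom ≤
      Subgroup.centralizer ((Y.map (MulAut.conj z).toMonoidHom : Subgroup G) : Set G) := by
  have hc : ⁅Y, Y.map (MulAut.conj (z⁻¹ * x)).toMonoidHom⁆ = ⊥ := by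
    apply asym_commute hasym
    · intro a ha
      rw [mem_map_conj] at ha
      have h3 : z * a * z⁻¹ ∈ Y.map (MulAut.conj x).toMonoidHom := by
        rw [mem_map_conj]
        have e : x⁻¹ * (z * a * z⁻¹) * x = (z⁻¹ * x)⁻¹ * a * (z⁻¹ * x) := by group
        rw [e]; exact ha
      have h4 := h1 h3
      rw [mem_normalizer_map_conj] at h4
      have e : z⁻¹ * (z * a * z⁻¹) * z = a := by group
      rwa [e] at h4
    · intro a ha
      rw [mem_map_conj] at ha
      have h3 : x * a * x⁻¹ ∈ Y.map (MulAut.conj z).toMonoidHom := by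
        rw [mem_map_conj]
        have e : z⁻¹ * (x * a * x⁻¹) * z = ((z⁻¹ * x)⁻¹)⁻¹ * a * (z⁻¹ * x)⁻¹ := by group
        rw [e]; exact ha
      have h4 := h2 h3
      rw [mem_normalizer_map_conj] at h4
      have e : x⁻¹ * (x * a * x⁻¹) * x = a := by group
      rwa [e] at h4
  intro a ha
  rw [Subgroup.mem_centralizer_iff]
  intro b hb
  rw [SetLike.mem_coe, mem_map_conj] at hb
  rw [mem_map_conj] at ha
  have h5 : z⁻¹ * a * z ∈ Y.map (MulAut.conj (z⁻¹ * x)).toMonoidHom := by
    rw [mem_map_conj]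
    have e : (z⁻¹ * x)⁻¹ * (z⁻¹ * a * z) * (z⁻¹ * x) = x⁻¹ * a * x := by group
    rw [e]; exact ha
  have h6 : z⁻¹ * b * z * (z⁻¹ * a * z) * (z⁻¹ * b * z)⁻¹ * (z⁻¹ * a * z)⁻¹ ∈
      ⁅Y, Y.map (MulAut.conj (z⁻¹ * x)).toMonoidHom⁆ :=
    comm_mem_commutator hb h5
  rw [hc, Subgroup.mem_bot] at h6
  have h7 : z⁻¹ * b * z * (z⁻¹ * a * z) = z⁻¹ * a * z * (z⁻¹ * b * z) := by
    calc z⁻¹ * b * z * (z⁻¹ * a * z)
        = (z⁻¹ * b * z * (z⁻¹ * a * z) * (z⁻¹ * b * z)⁻¹ * (z⁻¹ * a * z)⁻¹) *
            (z⁻¹ * a * z) * (z⁻¹ * b * z) := by group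
      _ = z⁻¹ * a * z * (z⁻¹ * b * z) := by rw [h6, one_mul]
  have e1 : b * a = z * (z⁻¹ * b * z * (z⁻¹ * a * z)) * z⁻¹ := by group
  rw [e1, h7]; group

/-- The word induction behind the asymmetric weak closure argument. -/
theorem asym_word {Y T : Subgroup G} (hasym : ¬ IsSymmetricIn Y)
    (Mi Ri : Bool → Subgroup G) (gi : Bool → G)
    (hMR : ∀ b, Mi b ≤ Subgroup.normalizer (Ri b : Set G))
    (hRT : ∀ b, Ri b ≤ T)
    (hTN : ∀ b, T ≤ Subgroup.normalizer
      ((Y.map (MulAut.conj (gi b)).toMonoidHom : Subgroup G) : Set G))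
    (hTC : ∀ b, T ⊓ Subgroup.centralizer
      ((Y.map (MulAut.conj (gi b)).toMonoidHom : Subgroup G) : Set G) ≤ Ri b)
    (hYR : ∀ b, Y.map (MulAut.conj (gi b)).toMonoidHom ≤ Ri b) :
    ∀ (K : ℕ) (l : List G), (∀ a ∈ l, ∃ b, a ∈ Mi b) → l.length ≤ K →
      ∀ b b', Y.map (MulAut.conj (l.prod * gi b)).toMonoidHom ≤ Ri b' := by
  have h0 : ∀ b b', Y.map (MulAut.conj (gi b)).toMonoidHom ≤ Ri b' := by
    intro b b'
    have h1 : Y.map (MulAut.conj (gi b)).toMonoidHom ≤ T := (hYR b).trans (hRT b)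
    have h2 : Y.map (MulAut.conj (gi b')).toMonoidHom ≤ T := (hYR b').trans (hRT b')
    have h3 := asym_conj_centralize hasym (gi b) (gi b') (h1.trans (hTN b')) (h2.trans (hTN b))
    exact (le_inf h1 h3).trans (hTC b')
  have hconj : ∀ (b : Bool) (s : G), s ∈ Mi b → ∀ w : G,
      Y.map (MulAut.conj w).toMonoidHom ≤ Ri b →
      Y.map (MulAut.conj (s * w)).toMonoidHom ≤ Ri b := by
    intro b s hs w hw
    rw [← map_conj_map_conj]
    calc (Y.map (MulAut.conj w).toMonoidHom).map (MulAut.conj s).toMonoidHom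
        ≤ (Ri b).map (MulAut.conj s).toMonoidHom := Subgroup.map_mono hw
      _ = Ri b := map_conj_eq_of_mem_normalizer _ (hMR b hs)
  intro K
  induction K with
  | zero =>
    intro l hl hlen b b'
    have hnil : l = [] := List.length_eq_zero_iff.mp (Nat.le_zero.mp hlen)
    subst hnil
    simpa using h0 b b'
  | succ K ih =>
    intro l hl hlen b b'
    rcases l with _ | ⟨s, l'⟩
    · simpa using h0 b b'
    · have hl' : ∀ a ∈ l', ∃ b, a ∈ Mi b := fun a ha => hl a (List.mem_cons_of_mem _ ha)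
      have hlen' : l'.length ≤ K := by simpa using hlen
      obtain ⟨b₀, hs⟩ := hl s List.mem_cons_self
      have hw := ih l' hl' hlen' b
      have e : (s :: l').prod * gi b = s * (l'.prod * gi b) := by
        rw [List.prod_cons, mul_assoc]
      rw [e]
      have h1 : Y.map (MulAut.conj (s * (l'.prod * gi b))).toMonoidHom ≤ Ri b₀ :=
        hconj b₀ s hs _ (hw b₀)
      have h1T := h1.trans (hRT b₀)
      have hkey : Y.map (MulAut.conj (gi b')).toMonoidHom ≤ Subgroup.normalizer
          ((Y.map (MulAut.conj (s * (l'.prod * gi b))).toMonoidHom : Subgroup G) : Set G) := by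
        have hT : Y.map (MulAut.conj (l'.prod⁻¹ * s⁻¹ * gi b')).toMonoidHom ≤ T := by
          rcases List.eq_nil_or_concat l' with hnil | ⟨l'', t, hcat⟩
          · subst hnil
            have h2 : Y.map (MulAut.conj (s⁻¹ * gi b')).toMonoidHom ≤ Ri b₀ :=
              hconj b₀ s⁻¹ (inv_mem hs) _ (h0 b' b₀)
            simpa using h2.trans (hRT b₀)
          · rw [List.concat_eq_append] at hcat
            subst hcat
            obtain ⟨b₁, ht⟩ := hl' t (by simp)
            have hlist := ih ((l''.map (·⁻¹)).reverse ++ [s⁻¹]) (by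
              intro a ha
              simp only [List.mem_append, List.mem_reverse, List.mem_map,
                List.mem_singleton] at ha
              rcases ha with ⟨c, hc, rfl⟩ | rfl
              · obtain ⟨b₂, hb₂⟩ := hl' c (by simp [hc])
                exact ⟨b₂, inv_mem hb₂⟩
              · exact ⟨b₀, inv_mem hs⟩) (by
              simp at hlen' ⊢
              omega) b' b₁
            have e2 : (l'' ++ [t]).prod⁻¹ * s⁻¹ * gi b' =
                t⁻¹ * (((l''.map (·⁻¹)).reverse ++ [s⁻¹]).prod * gi b') := by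
              rw [List.prod_append, List.prod_append, List.prod_singleton,
                List.prod_singleton, ← List.prod_inv_reverse]
              group
            rw [e2]
            exact (hconj b₁ t⁻¹ (inv_mem ht) _ hlist).trans (hRT b₁)
        intro a ha
        rw [mem_normalizer_map_conj]
        have h2 : gi b * ((s * (l'.prod * gi b))⁻¹ * a * (s * (l'.prod * gi b))) * (gi b)⁻¹ ∈
            Y.map (MulAut.conj (l'.prod⁻¹ * s⁻¹ * gi b')).toMonoidHom := by
          rw [mem_map_conj] at ha ⊢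
          have e3 : (l'.prod⁻¹ * s⁻¹ * gi b')⁻¹ *
              (gi b * ((s * (l'.prod * gi b))⁻¹ * a * (s * (l'.prod * gi b))) * (gi b)⁻¹) *
              (l'.prod⁻¹ * s⁻¹ * gi b') = (gi b')⁻¹ * a * gi b' := by group
          rw [e3]; exact ha
        have h3 := hTN b (hT h2)
        rw [mem_normalizer_map_conj] at h3
        have e4 : (gi b)⁻¹ *
            (gi b * ((s * (l'.prod * gi b))⁻¹ * a * (s * (l'.prod * gi b))) * (gi b)⁻¹) * gi b =
            (s * (l'.prod * gi b))⁻¹ * a * (s * (l'.prod * gi b)) := by group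
        rwa [e4] at h3
      have h3 := asym_conj_centralize hasym _ (gi b') (h1T.trans (hTN b')) hkey
      exact (le_inf h1T h3).trans (hTC b')

theorem asym_core [Finite G] {Y T : Subgroup G} (hasym : ¬ IsSymmetricIn Y)
    (Mi Ri : Bool → Subgroup G) (gi : Bool → G)
    (hMR : ∀ b, Mi b ≤ Subgroup.normalizer (Ri b : Set G))
    (hRT : ∀ b, Ri b ≤ T)
    (hTN : ∀ b, T ≤ Subgroup.normalizer
      ((Y.map (MulAut.conj (gi b)).toMonoidHom : Subgroup G) : Set G))
    (hTC : ∀ b, T ⊓ Subgroup.centralizer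
      ((Y.map (MulAut.conj (gi b)).toMonoidHom : Subgroup G) : Set G) ≤ Ri b)
    (hYR : ∀ b, Y.map (MulAut.conj (gi b)).toMonoidHom ≤ Ri b) :
    ∃ A : Subgroup G, (∀ b, Y.map (MulAut.conj (gi b)).toMonoidHom ≤ A) ∧ (∀ b, A ≤ Ri b) ∧
      ∀ b, Mi b ≤ Subgroup.normalizer (A : Set G) := by
  have hw := asym_word hasym Mi Ri gi hMR hRT hTN hTC hYR
  refine ⟨⨆ (l : {l : List G // ∀ a ∈ l, ∃ b, a ∈ Mi b}) (b : Bool),
    Y.map (MulAut.conj ((l : List G).prod * gi b)).toMonoidHom, ?_, ?_, ?_⟩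
  · intro b
    have h1 := le_iSup₂ (f := fun (l : {l : List G // ∀ a ∈ l, ∃ b, a ∈ Mi b}) (b : Bool) =>
      Y.map (MulAut.conj ((l : List G).prod * gi b)).toMonoidHom) ⟨[], by simp⟩ b
    simpa using h1
  · intro b'
    apply iSup₂_le
    intro l b
    exact hw _ l.1 l.2 le_rfl b b'
  · intro b s hs
    apply mem_normalizer_of_map_conj_eq
    apply map_conj_eq_of_le
    rw [Subgroup.map_iSup]
    apply iSup_le
    intro l
    rw [Subgroup.map_iSup]
    apply iSup_le
    intro b₁
    rw [map_conj_map_conj]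
    have h1 := le_iSup₂ (f := fun (l : {l : List G // ∀ a ∈ l, ∃ b, a ∈ Mi b}) (b : Bool) =>
      Y.map (MulAut.conj ((l : List G).prod * gi b)).toMonoidHom)
      ⟨s :: l.1, by
        intro a ha
        rcases List.mem_cons.mp ha with rfl | h
        · exact ⟨b, hs⟩
        · exact l.2 a h⟩ b₁
    simpa [mul_assoc] using h1

end Cfsg.Agent.Helper16
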