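import Cfsg.Agent.Helper16.AsymMain

set_option autoImplicit false

namespace Cfsg.Agent.Helper16

open Cfsg
open Cfsg.Agent.Helper17 (mem_map_conj map_conj_map_conj map_conj_one
  map_conj_eq_of_mem_normalizer sylow_smul_coe exists_normalizer_mem_not_mem
  exists_conj_le_sylow conj_mem_map_conj)

variable {G : Type*} [Group G] {p : ℕ}

theorem frakM_asym_main [Fact p.Prime] [Finite G] (S : Sylow p G) {Q : Subgroup G}
    (hQp : IsPGroup p Q) (hQ1 : Q ≠ ⊥) (hQS : Q ≤ (S : Subgroup G)) (hQ : IsLarge Q)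
    {M : Subgroup G} (hSM : (S : Subgroup G) ≤ M) (hM : IsInFrakM p M)
    (hasym : ¬ IsSymmetricIn (largestPReducedOf p M)) :
    (∀ L : Subgroup G, IsPGroup p ↥L → pCoreOf p M ≤ L →
      Subgroup.normalizer ((L : Subgroup G) : Set G) ≤
        Subgroup.normalizer ((pCoreOf p M : Subgroup G) : Set G) ∧
      Subgroup.normalizer ((pCoreOf p M : Subgroup G) : Set G) ≤
        M ⊔ Subgroup.centralizer ((largestPReducedOf p M : Subgroup G) : Set G)) ∧
    IsWeaklyClosedSubgroup p (pCoreOf p M) ∧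
    (∀ L : Subgroup G, pCoreOf p M ≤ L →
      IsParabolic p ((L ⊓ (M ⊔ Subgroup.centralizer
        ((largestPReducedOf p M : Subgroup G) : Set G))).subgroupOf L)) ∧
    (∀ x ∈ largestPReducedOf p M, ∀ g : G, g * x * g⁻¹ ∈ largestPReducedOf p M →
      ∃ m ∈ M, m * x * m⁻¹ = g * x * g⁻¹) := by
  have hcp := charP_of_mem_charPSubgroups hM.1
  have hRC := pCoreOf_le_centralizer_largestPReducedOf hcp
  have hMdN := frakM_le_normalizer hM
  have hNR := frakM_normalizer_pCoreOf_le S hQp hQ1 hQ hSM hM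
  have hi : ∀ L : Subgroup G, IsPGroup p ↥L → pCoreOf p M ≤ L →
      Subgroup.normalizer ((L : Subgroup G) : Set G) ≤
        Subgroup.normalizer ((pCoreOf p M : Subgroup G) : Set G) := fun L hL hRL =>
    frakM_asym_normalizer_le S hQp hQ1 hQS hQ hSM hM hasym hL hRL
      (frakM_asym_le_normalizer S hQp hQ1 hQS hQ hSM hM hasym hL hRL)
  have hwc : IsWeaklyClosedSubgroup p (pCoreOf p M) :=
    wc_of_normalizer_le (isPGroup_pCoreOf p M) hi
  refine ⟨fun L hL hRL => ⟨hi L hL hRL, hNR⟩, hwc, ?_, ?_⟩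
  · intro L hRL
    obtain ⟨P, hP⟩ := ((isPGroup_pCoreOf p M).comap_subtype (K := L)).exists_le_sylow
    refine ⟨P, ?_⟩
    have hP' : IsPGroup p ((P : Subgroup ↥L).map L.subtype) := P.2.map _
    have h1 : pCoreOf p M ≤ (P : Subgroup ↥L).map L.subtype := by
      intro r hr
      exact ⟨⟨r, hRL hr⟩, hP (Subgroup.mem_subgroupOf.mpr hr), rfl⟩
    have h2 := (frakM_asym_le_normalizer S hQp hQ1 hQS hQ hSM hM hasym hP' h1).trans hNR
    intro x hx
    rw [Subgroup.mem_subgroupOf]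
    exact ⟨x.2, h2 ⟨x, hx, rfl⟩⟩
  · intro x hx g hgx
    obtain ⟨K, hK⟩ : ∃ K : Subgroup G, K = Subgroup.centralizer ({g * x * g⁻¹} : Set G) :=
      ⟨_, rfl⟩
    have hRK : pCoreOf p M ≤ K := by
      rw [hK]; intro r hr
      rw [Subgroup.mem_centralizer_iff]
      intro h hh
      rw [Set.mem_singleton_iff] at hh; subst hh
      exact (Subgroup.mem_centralizer_iff.mp (hRC hr)) _ hgx
    have hgRK : (pCoreOf p M).map (MulAut.conj g).toMonoidHom ≤ K := by
      rw [hK]; intro r hr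
      rw [mem_map_conj] at hr
      rw [Subgroup.mem_centralizer_iff]
      intro h hh
      rw [Set.mem_singleton_iff] at hh; subst hh
      have h1 := (Subgroup.mem_centralizer_iff.mp (hRC hr)) x hx
      calc g * x * g⁻¹ * r = g * (x * (g⁻¹ * r * g)) * g⁻¹ := by group
        _ = g * ((g⁻¹ * r * g) * x) * g⁻¹ := by rw [h1]
        _ = r * (g * x * g⁻¹) := by group
    obtain ⟨P₁, hP₁⟩ := ((isPGroup_pCoreOf p M).comap_subtype (K := K)).exists_le_sylow
    obtain ⟨P₂, hP₂⟩ := (((isPGroup_pCoreOf p M).map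
      (MulAut.conj g).toMonoidHom).comap_subtype (K := K)).exists_le_sylow
    obtain ⟨c, hc⟩ := MulAction.exists_smul_eq ↥K P₂ P₁
    have hP' : IsPGroup p ((P₁ : Subgroup ↥K).map K.subtype) := P₁.2.map _
    have h1 : pCoreOf p M ≤ (P₁ : Subgroup ↥K).map K.subtype := by
      intro r hr
      exact ⟨⟨r, hRK hr⟩, hP₁ (Subgroup.mem_subgroupOf.mpr hr), rfl⟩
    have h2 : (pCoreOf p M).map (MulAut.conj ((c : G) * g)).toMonoidHom ≤
        (P₁ : Subgroup ↥K).map K.subtype := by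
      intro r hr
      rw [mem_map_conj] at hr
      have hr' : (c : G)⁻¹ * r * c ∈ (pCoreOf p M).map (MulAut.conj g).toMonoidHom := by
        rw [mem_map_conj]
        have e : g⁻¹ * ((c : G)⁻¹ * r * c) * g = ((c : G) * g)⁻¹ * r * ((c : G) * g) := by group
        rw [e]; exact hr
      have h3 : (⟨(c : G)⁻¹ * r * c, hgRK hr'⟩ : ↥K) ∈ (P₂ : Subgroup ↥K) :=
        hP₂ (Subgroup.mem_subgroupOf.mpr hr')
      have h4 : c * (⟨(c : G)⁻¹ * r * c, hgRK hr'⟩ : ↥K) * c⁻¹ ∈
          ((c • P₂ : Sylow p ↥K) : Subgroup ↥K) := by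
        rw [sylow_smul_coe]
        exact conj_mem_map_conj _ c h3
      rw [hc] at h4
      refine ⟨_, h4, ?_⟩
      simp only [Subgroup.subtype_apply, Subgroup.coe_mul, InvMemClass.coe_inv]
      group
    have h3 := wc_conj_eq hwc hP' h1 h2
    have hcg : (c : G) * g ∈ Subgroup.normalizer ((pCoreOf p M : Subgroup G) : Set G) :=
      mem_normalizer_of_map_conj_eq h3
    have hMnC : M ≤ Subgroup.normalizer ((Subgroup.centralizer
        ((largestPReducedOf p M : Subgroup G) : Set G) : Subgroup G) : Set G) :=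
      (le_sup_left.trans hMdN).trans (normalizer_le_normalizer_centralizer _)
    obtain ⟨m, hm, c', hc', hmc⟩ := mem_sup_of_le_normalizer hMnC (hNR hcg)
    refine ⟨m, hm, ?_⟩
    have hc'x : x * c' = c' * x := (Subgroup.mem_centralizer_iff.mp hc') x hx
    have hcK : (g * x * g⁻¹) * (c : G) = (c : G) * (g * x * g⁻¹) := by
      have h5 := hK.le c.2
      exact (Subgroup.mem_centralizer_iff.mp h5) _ rfl
    have hm_eq : m = (c : G) * g * c'⁻¹ := by rw [hmc]; group
    rw [hm_eq]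
    calc (c : G) * g * c'⁻¹ * x * ((c : G) * g * c'⁻¹)⁻¹
        = (c : G) * g * (c'⁻¹ * (x * c')) * g⁻¹ * (c : G)⁻¹ := by group
      _ = (c : G) * g * (c'⁻¹ * (c' * x)) * g⁻¹ * (c : G)⁻¹ := by rw [hc'x]
      _ = ((c : G) * (g * x * g⁻¹)) * (c : G)⁻¹ := by group
      _ = g * x * g⁻¹ := by rw [← hcK]; group

end Cfsg.Agent.Helper16
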