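import Cfsg.Agent.Helper16.AsymCore

set_option autoImplicit false

namespace Cfsg.Agent.Helper16

open Cfsg
open Cfsg.Agent.Helper17 (mem_map_conj map_conj_map_conj map_conj_one
  map_conj_eq_of_mem_normalizer sylow_smul_coe exists_normalizer_mem_not_mem
  exists_conj_le_sylow conj_mem_map_conj)

variable {G : Type*} [Group G] {p : ℕ}

/-- Every overgroup of `M` with nontrivial `O_p` lies in `M†`. -/
theorem frakM_overgroup_le [Fact p.Prime] [Finite G] (S : Sylow p G) {Q : Subgroup G}
    (hQp : IsPGroup p Q) (hQ1 : Q ≠ ⊥) (hQ : IsLarge Q)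
    {M : Subgroup G} (hSM : (S : Subgroup G) ≤ M) (hM : IsInFrakM p M) {N : Subgroup G}
    (hMN : M ≤ N) (hN1 : pCoreOf p N ≠ ⊥) :
    N ≤ M ⊔ Subgroup.centralizer ((largestPReducedOf p M : Subgroup G) : Set G) := by
  have hcen := large_parabolic_centralizer_le hQp hQ1 hQ ⟨S, hSM.trans hMN⟩ hN1
  have hmem : N ∈ charPSubgroups p G := ⟨pCore_ne_bot_of_pCoreOf hN1, hcen⟩
  obtain ⟨X, hNX, hXmem, hmax⟩ :=
    Set.Finite.exists_le_maximal (Set.toFinite (charPSubgroups p G)) hmem
  have hXmax : X ∈ maxCharPSubgroups p G :=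
    ⟨hXmem, fun L hL hXL => le_antisymm (hmax hL hXL) hXL⟩
  rw [← hM.2.2.1 X hXmax (hMN.trans hNX)]
  exact hNX

/-- `C_T(Y_M) ≤ O_p(M)` for every `p`-subgroup `T` containing `O_p(M)`. -/
theorem frakM_inf_centralizer_le [Fact p.Prime] [Finite G] (S : Sylow p G) {M : Subgroup G}
    (hSM : (S : Subgroup G) ≤ M) (hM : IsInFrakM p M)
    {T : Subgroup G} (hT : IsPGroup p T) (hRT : pCoreOf p M ≤ T) :
    T ⊓ Subgroup.centralizer ((largestPReducedOf p M : Subgroup G) : Set G) ≤ pCoreOf p M := by
  have hcp := charP_of_mem_charPSubgroups hM.1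
  obtain ⟨P, hP⟩ := sylow_centralizer_largestPReducedOf S hSM hcp
  have hR0 := frakM_pCoreOf_eq S hSM hM
  have hRC := pCoreOf_le_centralizer_largestPReducedOf hcp
  have hpT : IsPGroup p ((T ⊓ Subgroup.centralizer
      ((largestPReducedOf p M : Subgroup G) : Set G)).subgroupOf
      (Subgroup.centralizer ((largestPReducedOf p M : Subgroup G) : Set G))) :=
    (hT.to_le inf_le_left).comap_subtype
  have hle : (P : Subgroup ↥(Subgroup.centralizer
      ((largestPReducedOf p M : Subgroup G) : Set G))) ≤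
      (T ⊓ Subgroup.centralizer ((largestPReducedOf p M : Subgroup G) : Set G)).subgroupOf
      (Subgroup.centralizer ((largestPReducedOf p M : Subgroup G) : Set G)) := by
    rw [hP, ← hR0]
    intro x hx
    rw [Subgroup.mem_subgroupOf] at hx ⊢
    exact ⟨hRT hx, hRC hx⟩
  have heq := P.is_maximal' hpT hle
  intro x hx
  have h1 : (⟨x, hx.2⟩ : ↥(Subgroup.centralizer
      ((largestPReducedOf p M : Subgroup G) : Set G))) ∈
      (T ⊓ Subgroup.centralizer ((largestPReducedOf p M : Subgroup G) : Set G)).subgroupOf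
      (Subgroup.centralizer ((largestPReducedOf p M : Subgroup G) : Set G)) :=
    Subgroup.mem_subgroupOf.mpr hx
  rw [heq] at h1
  have h2 : (⟨x, hx.2⟩ : ↥(Subgroup.centralizer
      ((largestPReducedOf p M : Subgroup G) : Set G))) ∈
      (P : Subgroup ↥(Subgroup.centralizer
      ((largestPReducedOf p M : Subgroup G) : Set G))) := h1
  rw [hP, ← hR0] at h2
  exact Subgroup.mem_subgroupOf.mp h2

/-- `N_G(O_p(M)) ≤ M†`. -/
theorem frakM_normalizer_pCoreOf_le [Fact p.Prime] [Finite G] (S : Sylow p G) {Q : Subgroup G}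
    (hQp : IsPGroup p Q) (hQ1 : Q ≠ ⊥) (hQ : IsLarge Q)
    {M : Subgroup G} (hSM : (S : Subgroup G) ≤ M) (hM : IsInFrakM p M) :
    Subgroup.normalizer ((pCoreOf p M : Subgroup G) : Set G) ≤
      M ⊔ Subgroup.centralizer ((largestPReducedOf p M : Subgroup G) : Set G) := by
  have hR1 : pCoreOf p M ≠ ⊥ := pCoreOf_ne_bot hM.1.1
  apply frakM_overgroup_le S hQp hQ1 hQ hSM hM (le_normalizer_pCoreOf p M)
  intro hb
  apply hR1
  have h1 : pCoreOf p M ≤ pCoreOf p (Subgroup.normalizer ((pCoreOf p M : Subgroup G) : Set G)) :=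
    le_pCoreOf Subgroup.le_normalizer le_rfl (isPGroup_pCoreOf p M)
  rw [hb] at h1
  exact le_bot_iff.mp h1

/-- Main claim: for a `p`-group `T` with `O_p(M) ⊴ T`, `N_G(T) ≤ N_G(O_p(M))`. -/
theorem frakM_asym_normalizer_le [Fact p.Prime] [Finite G] (S : Sylow p G) {Q : Subgroup G}
    (hQp : IsPGroup p Q) (hQ1 : Q ≠ ⊥) (hQS : Q ≤ (S : Subgroup G)) (hQ : IsLarge Q)
    {M : Subgroup G} (hSM : (S : Subgroup G) ≤ M) (hM : IsInFrakM p M)
    (hasym : ¬ IsSymmetricIn (largestPReducedOf p M))
    {T : Subgroup G} (hT : IsPGroup p T) (hRT : pCoreOf p M ≤ T)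
    (hTN : T ≤ Subgroup.normalizer ((pCoreOf p M : Subgroup G) : Set G)) :
    Subgroup.normalizer (T : Set G) ≤
      Subgroup.normalizer ((pCoreOf p M : Subgroup G) : Set G) := by
  intro g hg
  have hcp := charP_of_mem_charPSubgroups hM.1
  have hYR := largestPReducedOf_le_pCoreOf hcp
  have hRC := pCoreOf_le_centralizer_largestPReducedOf hcp
  have hMdN := frakM_le_normalizer hM
  have hNR := frakM_normalizer_pCoreOf_le S hQp hQ1 hQ hSM hM
  have hS1 : (S : Subgroup G) ≠ ⊥ := by
    intro h; apply hQ1; rw [h] at hQS; exact le_bot_iff.mp hQS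
  have hY1 : largestPReducedOf p M ≠ ⊥ := largestPReducedOf_ne_bot S hS1 hSM hcp
  have hTNY : T ≤ Subgroup.normalizer ((largestPReducedOf p M : Subgroup G) : Set G) :=
    hTN.trans (hNR.trans hMdN)
  have hTC := frakM_inf_centralizer_le S hSM hM hT hRT
  have hgT : ∀ x, x ∈ T → g⁻¹ * x * g ∈ T := by
    intro x hx
    have h1 := (Subgroup.mem_normalizer_iff.mp (inv_mem hg) x).mp hx
    simpa using h1
  have hgT' : ∀ x, x ∈ T → g * x * g⁻¹ ∈ T :=
    fun x hx => (Subgroup.mem_normalizer_iff.mp hg x).mp hx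
  obtain ⟨A, hA1, hA2, hA3⟩ := asym_core hasym (T := T)
    (fun b => cond b M (M.map (MulAut.conj g).toMonoidHom))
    (fun b => cond b (pCoreOf p M) ((pCoreOf p M).map (MulAut.conj g).toMonoidHom))
    (fun b => cond b 1 g)
    (by
      rintro (_ | _)
      · show M.map (MulAut.conj g).toMonoidHom ≤ Subgroup.normalizer
          (((pCoreOf p M).map (MulAut.conj g).toMonoidHom : Subgroup G) : Set G)
        rw [normalizer_map_conj]
        exact Subgroup.map_mono (le_normalizer_pCoreOf p M)
      · exact le_normalizer_pCoreOf p M)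
    (by
      rintro (_ | _)
      · show (pCoreOf p M).map (MulAut.conj g).toMonoidHom ≤ T
        intro x hx
        rw [mem_map_conj] at hx
        have h1 := hgT' _ (hRT hx)
        have e : g * (g⁻¹ * x * g) * g⁻¹ = x := by group
        rwa [e] at h1
      · exact hRT)
    (by
      rintro (_ | _)
      · show T ≤ Subgroup.normalizer
          (((largestPReducedOf p M).map (MulAut.conj g).toMonoidHom : Subgroup G) : Set G)
        intro x hx
        rw [mem_normalizer_map_conj]
        exact hTNY (hgT x hx)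
      · show T ≤ Subgroup.normalizer
          (((largestPReducedOf p M).map (MulAut.conj 1).toMonoidHom : Subgroup G) : Set G)
        rw [map_conj_one]; exact hTNY)
    (by
      rintro (_ | _)
      · show T ⊓ Subgroup.centralizer
          (((largestPReducedOf p M).map (MulAut.conj g).toMonoidHom : Subgroup G) : Set G) ≤
          (pCoreOf p M).map (MulAut.conj g).toMonoidHom
        intro x hx
        rw [mem_map_conj]
        exact hTC ⟨hgT x hx.1, mem_centralizer_map_conj.mp hx.2⟩
      · show T ⊓ Subgroup.centralizer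
          (((largestPReducedOf p M).map (MulAut.conj 1).toMonoidHom : Subgroup G) : Set G) ≤
          pCoreOf p M
        rw [map_conj_one]; exact hTC)
    (by
      rintro (_ | _)
      · exact Subgroup.map_mono hYR
      · show (largestPReducedOf p M).map (MulAut.conj 1).toMonoidHom ≤ pCoreOf p M
        rw [map_conj_one]; exact hYR)
  have hYA : largestPReducedOf p M ≤ A := by
    have h1 : (largestPReducedOf p M).map (MulAut.conj 1).toMonoidHom ≤ A := hA1 true
    rwa [map_conj_one] at h1
  have hAR : A ≤ pCoreOf p M := hA2 true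
  have hMA : M ≤ Subgroup.normalizer (A : Set G) := hA3 true
  have hgMA : M.map (MulAut.conj g).toMonoidHom ≤ Subgroup.normalizer (A : Set G) := hA3 false
  have hA1' : A ≠ ⊥ := by
    intro h; apply hY1; rw [h] at hYA; exact le_bot_iff.mp hYA
  have hAp : IsPGroup p A := (isPGroup_pCoreOf p M).to_le hAR
  have hNA : Subgroup.normalizer (A : Set G) ≤
      M ⊔ Subgroup.centralizer ((largestPReducedOf p M : Subgroup G) : Set G) := by
    apply frakM_overgroup_le S hQp hQ1 hQ hSM hM hMA
    intro hb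
    apply hA1'
    have h1 : A ≤ pCoreOf p (Subgroup.normalizer (A : Set G)) :=
      le_pCoreOf Subgroup.le_normalizer le_rfl hAp
    rw [hb] at h1
    exact le_bot_iff.mp h1
  have hMg : M ≤ (M ⊔ Subgroup.centralizer
      ((largestPReducedOf p M : Subgroup G) : Set G)).map (MulAut.conj g⁻¹).toMonoidHom :=
    map_conj_le_iff.mp (hgMA.trans hNA)
  have hMd1 : pCoreOf p (M ⊔ Subgroup.centralizer
      ((largestPReducedOf p M : Subgroup G) : Set G)) ≠ ⊥ := pCoreOf_ne_bot hM.2.1.1.1
  have hcore : pCoreOf p ((M ⊔ Subgroup.centralizer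
      ((largestPReducedOf p M : Subgroup G) : Set G)).map (MulAut.conj g⁻¹).toMonoidHom) ≠ ⊥ := by
    intro hb
    have h1 : (pCoreOf p (M ⊔ Subgroup.centralizer
        ((largestPReducedOf p M : Subgroup G) : Set G))).map (MulAut.conj g⁻¹).toMonoidHom ≤
        pCoreOf p ((M ⊔ Subgroup.centralizer
          ((largestPReducedOf p M : Subgroup G) : Set G)).map (MulAut.conj g⁻¹).toMonoidHom) := by
      apply le_pCoreOf (Subgroup.map_mono (pCoreOf_le p _))
      · rw [normalizer_map_conj]; exact Subgroup.map_mono (le_normalizer_pCoreOf p _)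
      · exact (isPGroup_pCoreOf p _).map _
    rw [hb] at h1
    exact map_conj_ne_bot hMd1 g⁻¹ (le_bot_iff.mp h1)
  have hle := frakM_overgroup_le S hQp hQ1 hQ hSM hM hMg hcore
  have heq := map_conj_eq_of_le hle
  have hginv : g⁻¹ ∈ Subgroup.normalizer ((M ⊔ Subgroup.centralizer
      ((largestPReducedOf p M : Subgroup G) : Set G) : Subgroup G) : Set G) :=
    mem_normalizer_of_map_conj_eq heq
  have hgMd : g ∈ Subgroup.normalizer ((M ⊔ Subgroup.centralizer
      ((largestPReducedOf p M : Subgroup G) : Set G) : Subgroup G) : Set G) := by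
    simpa using inv_mem hginv
  have hgY : g ∈ Subgroup.normalizer ((largestPReducedOf p M : Subgroup G) : Set G) := by
    have h1 := normalizer_le_normalizer_largestPReducedOf p (M ⊔ Subgroup.centralizer
      ((largestPReducedOf p M : Subgroup G) : Set G)) hgMd
    rwa [← hM.2.2.2.1] at h1
  apply mem_normalizer_of_map_conj_eq
  apply map_conj_eq_of_le
  intro x hx
  rw [mem_map_conj] at hx
  apply hTC
  refine ⟨?_, ?_⟩
  · have h1 := hgT' _ (hRT hx)
    have e : g * (g⁻¹ * x * g) * g⁻¹ = x := by group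
    rwa [e] at h1
  · have h1 := hRC hx
    have h2 : x ∈ Subgroup.centralizer
        (((largestPReducedOf p M).map (MulAut.conj g).toMonoidHom : Subgroup G) : Set G) :=
      mem_centralizer_map_conj.mpr h1
    rwa [map_conj_eq_of_mem_normalizer _ hgY] at h2

/-- `O_p(M)` is normal in every `p`-subgroup containing it. -/
theorem frakM_asym_le_normalizer [Fact p.Prime] [Finite G] (S : Sylow p G) {Q : Subgroup G}
    (hQp : IsPGroup p Q) (hQ1 : Q ≠ ⊥) (hQS : Q ≤ (S : Subgroup G)) (hQ : IsLarge Q)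
    {M : Subgroup G} (hSM : (S : Subgroup G) ≤ M) (hM : IsInFrakM p M)
    (hasym : ¬ IsSymmetricIn (largestPReducedOf p M))
    {L : Subgroup G} (hL : IsPGroup p L) (hRL : pCoreOf p M ≤ L) :
    L ≤ Subgroup.normalizer ((pCoreOf p M : Subgroup G) : Set G) := by
  by_contra hne
  have hL1 : L ⊓ Subgroup.normalizer ((pCoreOf p M : Subgroup G) : Set G) ≠ L := by
    intro h
    apply hne
    rw [← h]
    exact inf_le_right
  obtain ⟨x, hxL, hxn, hxN⟩ := exists_normalizer_mem_not_mem
    (L ⊓ Subgroup.normalizer ((pCoreOf p M : Subgroup G) : Set G)) L hL inf_le_left hL1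
  apply hxn
  refine ⟨hxL, ?_⟩
  exact frakM_asym_normalizer_le S hQp hQ1 hQS hQ hSM hM hasym (hL.to_le inf_le_left)
    (le_inf hRL Subgroup.le_normalizer) inf_le_right hxN

end Cfsg.Agent.Helper16
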