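import Mathlib
import Cfsg.Agent.Helper24.NormalCenter
import Cfsg.Agent.Helper16.PReducedOf

set_option autoImplicit false

namespace Cfsg.Agent.Helper16

variable {G : Type*} [Group G] {p : ℕ}

open scoped Classical IsMulCommutative in
/-- Equivariant averaging step: if `m ∈ V` is fixed by `T₀` and all `[t, m]`, `t ∈ T`, are fixed
by `C`, then `m` is fixed by `C`, provided every `T`-fixed element of `V` is `C`-fixed. -/
theorem avg_star [Finite G] (V : Subgroup G) [hV : V.Normal]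
    (hVc : ∀ a ∈ V, ∀ b ∈ V, a * b = b * a) (hVp : ∀ a ∈ V, a ^ p = 1)
    (C T₀ T : Subgroup G) (hidx : (T₀.relIndex C).Coprime p)
    (hTC : T ≤ Subgroup.normalizer (C : Set G))
    (hTT₀ : T ≤ Subgroup.normalizer (T₀ : Set G))
    (hyp : ∀ m ∈ V, (∀ t ∈ T, t * m = m * t) → ∀ x ∈ C, x * m = m * x)
    {m : G} (hm : m ∈ V) (hmT₀ : ∀ t ∈ T₀, t * m = m * t)
    (hmT : ∀ t ∈ T, ∀ x ∈ C, x * (t * m * t⁻¹ * m⁻¹) = (t * m * t⁻¹ * m⁻¹) * x) :
    ∀ x ∈ C, x * m = m * x := by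
  haveI : IsMulCommutative ↥V := ⟨⟨fun a b => Subtype.ext (hVc a a.2 b b.2)⟩⟩
  letI : Fintype (↥C ⧸ T₀.subgroupOf C) := Fintype.ofFinite _
  let f : ↥V → ↥C ⧸ T₀.subgroupOf C → ↥V :=
    fun v q => MulAut.conjNormal ((q.out : ↥C) : G) v
  have hfcoe : ∀ (v : ↥V) (q : ↥C ⧸ T₀.subgroupOf C),
      ((f v q : ↥V) : G) = ((q.out : ↥C) : G) * (v : G) * ((q.out : ↥C) : G)⁻¹ :=
    fun v q => MulAut.conjNormal_apply _ _
  have hcoset : ∀ v : ↥V, (∀ t ∈ T₀, t * (v : G) = (v : G) * t) → ∀ y₁ y₂ : ↥C,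
      y₁⁻¹ * y₂ ∈ T₀.subgroupOf C →
      (y₂ : G) * (v : G) * (y₂ : G)⁻¹ = (y₁ : G) * (v : G) * (y₁ : G)⁻¹ := by
    intro v hv y₁ y₂ h
    have h3 : ((y₁⁻¹ * y₂ : ↥C) : G) * (v : G) = (v : G) * ((y₁⁻¹ * y₂ : ↥C) : G) := hv _ h
    have h4 : (y₂ : G) = (y₁ : G) * ((y₁⁻¹ * y₂ : ↥C) : G) := by
      simp only [Subgroup.coe_mul, Subgroup.coe_inv]
      group
    rw [h4]
    generalize ((y₁⁻¹ * y₂ : ↥C) : G) = t at h3
    calc (y₁ : G) * t * (v : G) * ((y₁ : G) * t)⁻¹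
        = (y₁ : G) * (t * (v : G)) * t⁻¹ * (y₁ : G)⁻¹ := by group
      _ = (y₁ : G) * ((v : G) * t) * t⁻¹ * (y₁ : G)⁻¹ := by rw [h3]
      _ = (y₁ : G) * (v : G) * (y₁ : G)⁻¹ := by group
  have hinv : ∀ v : ↥V, (∀ t ∈ T₀, t * (v : G) = (v : G) * t) → ∀ x : ↥C,
      (x : G) * ((∏ q, f v q : ↥V) : G) * (x : G)⁻¹ = ((∏ q, f v q : ↥V) : G) := by
    intro v hv x
    have h1 : (MulAut.conjNormal (x : G) : MulAut ↥V) (∏ q, f v q) = ∏ q, f v (x • q) := by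
      rw [map_prod]
      apply Finset.prod_congr rfl
      intro q _
      apply Subtype.ext
      rw [MulAut.conjNormal_apply, hfcoe, hfcoe]
      have h2 : (x * q.out)⁻¹ * (x • q).out ∈ T₀.subgroupOf C := by
        rw [← QuotientGroup.eq, QuotientGroup.out_eq']
        conv_rhs => rw [← QuotientGroup.out_eq' q]
        rfl
      rw [hcoset v hv (x * q.out) ((x • q).out) h2, Subgroup.coe_mul]
      group
    have h5 : ∏ q, f v (x • q) = ∏ q, f v q := Equiv.prod_comp (MulAction.toPerm x) (f v)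
    have h6 := congrArg (Subtype.val : ↥V → G) (h1.trans h5)
    rw [MulAut.conjNormal_apply] at h6
    exact h6
  have hcard : Fintype.card (↥C ⧸ T₀.subgroupOf C) = T₀.relIndex C := by
    rw [← Nat.card_eq_fintype_card]
    rfl
  -- multiplication by a `C`-central element
  have hA : ∀ (v s : ↥V), (∀ x ∈ C, x * (s : G) = (s : G) * x) →
      (∏ q, f (v * s) q) = (∏ q, f v q) * s ^ (T₀.relIndex C) := by
    intro v s hs
    have h1 : (∏ q, f (v * s) q) = ∏ q, f v q * s := by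
      apply Finset.prod_congr rfl
      intro q _
      apply Subtype.ext
      rw [Subgroup.coe_mul, hfcoe, hfcoe, Subgroup.coe_mul]
      have h2 := hs _ (q.out : ↥C).2
      generalize ((q.out : ↥C) : G) = y at h2 ⊢
      have h2' : (s : G) * y⁻¹ = y⁻¹ * (s : G) := by
        calc (s : G) * y⁻¹ = y⁻¹ * (y * (s : G)) * y⁻¹ := by group
          _ = y⁻¹ * ((s : G) * y) * y⁻¹ := by rw [h2]
          _ = y⁻¹ * (s : G) := by group
      calc y * ((v : G) * (s : G)) * y⁻¹ = y * (v : G) * ((s : G) * y⁻¹) := by group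
        _ = y * (v : G) * (y⁻¹ * (s : G)) := by rw [h2']
        _ = y * (v : G) * y⁻¹ * (s : G) := by group
    rw [h1, Finset.prod_mul_distrib, Finset.prod_const, Finset.card_univ, hcard]
  -- equivariance under `T`
  have hB : ∀ (v : ↥V), (∀ t ∈ T₀, t * (v : G) = (v : G) * t) → ∀ t ∈ T,
      (MulAut.conjNormal t : MulAut ↥V) (∏ q, f v q) =
        ∏ q, f ((MulAut.conjNormal t : MulAut ↥V) v) q := by
    intro v hv t ht
    have htC : ∀ y : ↥C, t * (y : G) * t⁻¹ ∈ C := fun y =>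
      (Subgroup.mem_normalizer_iff.mp (hTC ht) _).mp y.2
    let ψ : ↥C ⧸ T₀.subgroupOf C → ↥C ⧸ T₀.subgroupOf C :=
      fun q => QuotientGroup.mk (⟨t * ((q.out : ↥C) : G) * t⁻¹, htC _⟩ : ↥C)
    have hv' : ∀ t₀ ∈ T₀, t₀ * (((MulAut.conjNormal t : MulAut ↥V) v : ↥V) : G) =
        (((MulAut.conjNormal t : MulAut ↥V) v : ↥V) : G) * t₀ := by
      intro t₀ ht₀
      rw [MulAut.conjNormal_apply]
      have h1 : t⁻¹ * t₀ * t⁻¹⁻¹ ∈ T₀ :=
        (Subgroup.mem_normalizer_iff.mp (Subgroup.inv_mem _ (hTT₀ ht)) _).mp ht₀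
      have h2 := hv _ h1
      calc t₀ * (t * (v : G) * t⁻¹) = t * ((t⁻¹ * t₀ * t⁻¹⁻¹) * (v : G)) * t⁻¹ := by group
        _ = t * ((v : G) * (t⁻¹ * t₀ * t⁻¹⁻¹)) * t⁻¹ := by rw [h2]
        _ = t * (v : G) * t⁻¹ * t₀ := by group
    have hψ : Function.Injective ψ := by
      intro q₁ q₂ h
      have h1 : (⟨t * ((q₁.out : ↥C) : G) * t⁻¹, htC _⟩ : ↥C)⁻¹ *
          (⟨t * ((q₂.out : ↥C) : G) * t⁻¹, htC _⟩ : ↥C) ∈ T₀.subgroupOf C :=
        QuotientGroup.eq.mp h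
      have h2 : (t * ((q₁.out : ↥C) : G) * t⁻¹)⁻¹ * (t * ((q₂.out : ↥C) : G) * t⁻¹) ∈ T₀ := h1
      have h3 : t⁻¹ * ((t * ((q₁.out : ↥C) : G) * t⁻¹)⁻¹ * (t * ((q₂.out : ↥C) : G) * t⁻¹)) *
          t⁻¹⁻¹ ∈ T₀ :=
        (Subgroup.mem_normalizer_iff.mp (Subgroup.inv_mem _ (hTT₀ ht)) _).mp h2
      have h4 : (q₁.out)⁻¹ * q₂.out ∈ T₀.subgroupOf C := by
        rw [Subgroup.mem_subgroupOf, Subgroup.coe_mul, Subgroup.coe_inv]
        have e : ((q₁.out : ↥C) : G)⁻¹ * ((q₂.out : ↥C) : G) =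
            t⁻¹ * ((t * ((q₁.out : ↥C) : G) * t⁻¹)⁻¹ * (t * ((q₂.out : ↥C) : G) * t⁻¹)) *
              t⁻¹⁻¹ := by group
        rw [e]
        exact h3
      have h5 : (QuotientGroup.mk (q₁.out) : ↥C ⧸ T₀.subgroupOf C) = QuotientGroup.mk (q₂.out) :=
        QuotientGroup.eq.mpr h4
      rwa [QuotientGroup.out_eq', QuotientGroup.out_eq'] at h5
    have hψb : Function.Bijective ψ := Finite.injective_iff_bijective.mp hψ
    rw [map_prod]
    rw [← Function.Bijective.prod_comp hψb (f ((MulAut.conjNormal t : MulAut ↥V) v))]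
    apply Finset.prod_congr rfl
    intro q _
    apply Subtype.ext
    rw [MulAut.conjNormal_apply, hfcoe, hfcoe]
    have h2 : (⟨t * ((q.out : ↥C) : G) * t⁻¹, htC _⟩ : ↥C)⁻¹ * (ψ q).out ∈ T₀.subgroupOf C := by
      rw [← QuotientGroup.eq, QuotientGroup.out_eq']
    rw [hcoset _ hv' _ _ h2, MulAut.conjNormal_apply]
    show t * (((q.out : ↥C) : G) * (v : G) * ((q.out : ↥C) : G)⁻¹) * t⁻¹ =
      (t * ((q.out : ↥C) : G) * t⁻¹) * (t * (v : G) * t⁻¹) * (t * ((q.out : ↥C) : G) * t⁻¹)⁻¹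
    group
  -- main computation
  let m' : ↥V := ⟨m, hm⟩
  have hm'T₀ : ∀ t ∈ T₀, t * (m' : G) = (m' : G) * t := hmT₀
  have hρ : ∀ t ∈ T, t * ((m' ^ (T₀.relIndex C) * (∏ q, f m' q)⁻¹ : ↥V) : G) =
      ((m' ^ (T₀.relIndex C) * (∏ q, f m' q)⁻¹ : ↥V) : G) * t := by
    intro t ht
    let s : ↥V := ⟨t * m * t⁻¹ * m⁻¹, V.mul_mem (hV.conj_mem m hm t) (V.inv_mem hm)⟩
    have hs : ∀ x ∈ C, x * (s : G) = (s : G) * x := hmT t ht
    have h1 : (MulAut.conjNormal t : MulAut ↥V) m' = m' * s := by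
      apply Subtype.ext
      rw [MulAut.conjNormal_apply, Subgroup.coe_mul]
      show t * m * t⁻¹ = m * (t * m * t⁻¹ * m⁻¹)
      have h2 : m * (t * m * t⁻¹ * m⁻¹) = (t * m * t⁻¹ * m⁻¹) * m :=
        hVc _ hm _ s.2
      rw [h2]
      group
    have h2 : (MulAut.conjNormal t : MulAut ↥V) (∏ q, f m' q) =
        (∏ q, f m' q) * s ^ (T₀.relIndex C) := by
      rw [hB m' hm'T₀ t ht, h1, hA m' s hs]
    have h3 : (MulAut.conjNormal t : MulAut ↥V) (m' ^ (T₀.relIndex C) * (∏ q, f m' q)⁻¹) =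
        m' ^ (T₀.relIndex C) * (∏ q, f m' q)⁻¹ := by
      rw [map_mul, map_pow, map_inv, h1, h2, mul_pow, mul_inv]
      rw [mul_mul_mul_comm, mul_inv_cancel, mul_one]
    have h4 := congrArg (Subtype.val : ↥V → G) h3
    rw [MulAut.conjNormal_apply] at h4
    calc t * ((m' ^ (T₀.relIndex C) * (∏ q, f m' q)⁻¹ : ↥V) : G)
        = t * ((m' ^ (T₀.relIndex C) * (∏ q, f m' q)⁻¹ : ↥V) : G) * t⁻¹ * t := by group
      _ = ((m' ^ (T₀.relIndex C) * (∏ q, f m' q)⁻¹ : ↥V) : G) * t := by rw [h4]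
  have hρC := hyp _ (Subtype.property _) hρ
  have hm'p : m' ^ p = 1 := Subtype.ext (by rw [Subgroup.coe_pow]; exact hVp m hm)
  have hcop : (T₀.relIndex C).Coprime (orderOf m') :=
    Nat.Coprime.coprime_dvd_right (orderOf_dvd_of_pow_eq_one hm'p) hidx
  obtain ⟨k, hk⟩ := exists_pow_eq_self_of_coprime hcop
  intro x hx
  have h1 : x * ((m' ^ (T₀.relIndex C) : ↥V) : G) * x⁻¹ = ((m' ^ (T₀.relIndex C) : ↥V) : G) := by
    have e : m' ^ (T₀.relIndex C) =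
        (m' ^ (T₀.relIndex C) * (∏ q, f m' q)⁻¹) * (∏ q, f m' q) := by
      rw [inv_mul_cancel_right]
    have h2 := hρC x hx
    have h3 := hinv m' hm'T₀ ⟨x, hx⟩
    rw [e, Subgroup.coe_mul]
    calc x * (((m' ^ (T₀.relIndex C) * (∏ q, f m' q)⁻¹ : ↥V) : G) * ((∏ q, f m' q : ↥V) : G)) * x⁻¹
        = (x * ((m' ^ (T₀.relIndex C) * (∏ q, f m' q)⁻¹ : ↥V) : G)) * x⁻¹ *
            (x * ((∏ q, f m' q : ↥V) : G) * x⁻¹) := by group
      _ = (((m' ^ (T₀.relIndex C) * (∏ q, f m' q)⁻¹ : ↥V) : G) * x) * x⁻¹ *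
            ((∏ q, f m' q : ↥V) : G) := by rw [h2]; exact congrArg _ h3
      _ = ((m' ^ (T₀.relIndex C) * (∏ q, f m' q)⁻¹ : ↥V) : G) * ((∏ q, f m' q : ↥V) : G) := by
          group
  have h2 : x * m * x⁻¹ = m := by
    have e : m = (((m' ^ (T₀.relIndex C)) ^ k : ↥V) : G) := by rw [hk]
    rw [e, Subgroup.coe_pow, ← conj_pow, h1]
  calc x * m = x * m * x⁻¹ * x := by group
    _ = m * x := by rw [h2]

end Cfsg.Agent.Helper16
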