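import Cfsg.Agent.Helper16.Averaging2
import Cfsg.Agent.Helper16.Comm

set_option autoImplicit false

namespace Cfsg.Agent.Helper16

variable {G : Type*} [Group G] {p : ℕ}

open scoped commutatorElement

/-- Let `V` be a normal abelian subgroup of exponent `p`, `T₀ ≤ C` of index prime to `p`, and `T`
a `p`-subgroup normalizing `C` and `T₀`. If every `T`-fixed element of `V` is `C`-fixed, then
every `T₀`-fixed element of `V` is `C`-fixed. -/
theorem fixed_of_sylow_fixed [Finite G] [hp : Fact p.Prime] (V : Subgroup G) [hV : V.Normal]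
    (hVc : ∀ a ∈ V, ∀ b ∈ V, a * b = b * a) (hVp : ∀ a ∈ V, a ^ p = 1)
    (C T₀ T : Subgroup G) (hidx : (T₀.relIndex C).Coprime p) (hT₀C : T₀ ≤ C)
    (hT : IsPGroup p T) (hTC : T ≤ Subgroup.normalizer (C : Set G))
    (hTT₀ : T ≤ Subgroup.normalizer (T₀ : Set G))
    (hyp : ∀ m ∈ V, (∀ t ∈ T, t * m = m * t) → ∀ x ∈ C, x * m = m * x) :
    V ⊓ Subgroup.centralizer (T₀ : Set G) ≤ Subgroup.centralizer (C : Set G) := by
  by_contra hne
  have hS₀S : V ⊓ Subgroup.centralizer (C : Set G) ≤ V ⊓ Subgroup.centralizer (T₀ : Set G) :=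
    inf_le_inf_left V (Subgroup.centralizer_le hT₀C)
  have hVN : Subgroup.normalizer (V : Set G) = ⊤ := Subgroup.normalizer_eq_top_iff.mpr hV
  have hTS : T ≤ Subgroup.normalizer
      ((V ⊓ Subgroup.centralizer (T₀ : Set G) : Subgroup G) : Set G) :=
    le_normalizer_inf' (by rw [hVN]; exact le_top)
      (hTT₀.trans (normalizer_le_normalizer_centralizer T₀))
  have hTS₀ : T ≤ Subgroup.normalizer
      ((V ⊓ Subgroup.centralizer (C : Set G) : Subgroup G) : Set G) :=
    le_normalizer_inf' (by rw [hVN]; exact le_top)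
      (hTC.trans (normalizer_le_normalizer_centralizer C))
  have hVpg : IsPGroup p V := fun g => ⟨1, Subtype.ext (by
    rw [pow_one, Subgroup.coe_pow]; exact hVp g g.2)⟩
  have hSp : IsPGroup p (V ⊓ Subgroup.centralizer (T₀ : Set G) : Subgroup G) :=
    hVpg.to_le inf_le_left
  have hPp : IsPGroup p (T ⊔ (V ⊓ Subgroup.centralizer (T₀ : Set G)) : Subgroup G) :=
    IsPGroup.to_sup_of_normal_right' hT hSp hTS
  have hSS₀ : V ⊓ Subgroup.centralizer (T₀ : Set G) ≤ Subgroup.normalizer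
      ((V ⊓ Subgroup.centralizer (C : Set G) : Subgroup G) : Set G) := by
    apply le_normalizer_of_conj_mem
    intro x hx u hu
    have e : x * u * x⁻¹ = u := by
      rw [hVc x hx.1 u hu.1]; group
    rw [e]; exact hu
  generalize hS : V ⊓ Subgroup.centralizer (T₀ : Set G) = S at hne hS₀S hTS hSp hPp hSS₀
  generalize hS₀ : V ⊓ Subgroup.centralizer (C : Set G) = S₀ at hS₀S hTS₀ hSS₀
  have hnS : (S.subgroupOf (T ⊔ S)).Normal :=
    (Subgroup.normal_subgroupOf_iff_le_normalizer le_sup_right).mpr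
      (sup_le hTS Subgroup.le_normalizer)
  have hnS₀ : (S₀.subgroupOf (T ⊔ S)).Normal :=
    (Subgroup.normal_subgroupOf_iff_le_normalizer (hS₀S.trans le_sup_right)).mpr
      (sup_le hTS₀ hSS₀)
  haveI : Group.IsNilpotent ↥(T ⊔ S : Subgroup G) := hPp.isNilpotent
  have hnot : ¬ S.subgroupOf (T ⊔ S) ≤ S₀.subgroupOf (T ⊔ S) := by
    intro h
    apply hne
    intro x hx
    have h1 : (⟨x, Subgroup.mem_sup_right hx⟩ : ↥(T ⊔ S : Subgroup G)) ∈
        S₀.subgroupOf (T ⊔ S) := h hx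
    have h2 : x ∈ S₀ := h1
    rw [← hS₀] at h2
    exact h2.2
  obtain ⟨x, hxN, hxM, hxc⟩ :=
    Cfsg.Agent.Helper24.exists_mem_not_mem_commutator_mem _ _ hnot
  apply hxM
  have hxS : (x : G) ∈ V ⊓ Subgroup.centralizer (T₀ : Set G) := by
    rw [hS]; exact hxN
  have hgoal : (x : G) ∈ V ⊓ Subgroup.centralizer (C : Set G) := by
    refine ⟨hxS.1, Subgroup.mem_centralizer_iff.mpr ?_⟩
    intro c hc
    refine (avg_star V hVc hVp C T₀ T hidx hTC hTT₀ hyp hxS.1
      (fun t ht => Subgroup.mem_centralizer_iff.mp hxS.2 t ht) ?_ c hc)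
    intro t ht y hy
    have h1 : ((⁅x, (⟨t, Subgroup.mem_sup_left ht⟩ : ↥(T ⊔ S : Subgroup G))⁆ :
        ↥(T ⊔ S : Subgroup G)) : G) ∈ V ⊓ Subgroup.centralizer (C : Set G) := by
      rw [hS₀]; exact hxc ⟨t, Subgroup.mem_sup_left ht⟩
    have h2 : t * (x : G) * t⁻¹ * (x : G)⁻¹ ∈ V ⊓ Subgroup.centralizer (C : Set G) := by
      have e : t * (x : G) * t⁻¹ * (x : G)⁻¹ =
          (((⁅x, (⟨t, Subgroup.mem_sup_left ht⟩ : ↥(T ⊔ S : Subgroup G))⁆ :
            ↥(T ⊔ S : Subgroup G)) : G))⁻¹ := by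
        rw [commutatorElement_def]
        simp only [Subgroup.coe_mul, Subgroup.coe_inv]
        group
      rw [e]
      exact Subgroup.inv_mem _ h1
    exact Subgroup.mem_centralizer_iff.mp h2.2 y hy
  have hx₀ : (x : G) ∈ S₀ := by
    rw [← hS₀]; exact hgoal
  exact hx₀

end Cfsg.Agent.Helper16
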