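import Mathlib
import Cfsg.Prelude.Def_CaseTheorems

set_option autoImplicit false

/-!
# Common structure of dihedral and quasi-dihedral 2-groups

`DQData T X z` records what the arguments need about a 2-group `T` with a cyclic subgroup `X` of
index two and central involution `z`; `dq_of_dihedral` and `dq_of_quasi` produce it.
-/

namespace Cfsg.Agent.Helper16

open Subgroup

/-- common structure of dihedral and quasi-dihedral 2-groups `T` with cyclic maximal subgroup `X`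
and central involution `z` -/
structure DQData {G : Type*} [Group G] (T X : Subgroup G) (z : G) : Prop where
  le : X ≤ T
  cyc : IsCyclic ↥X
  zX : z ∈ X
  z1 : z ≠ 1
  zz : z * z = 1
  idx : ∀ s ∈ T, ∀ t ∈ T, s ∉ X → t ∉ X → s * t⁻¹ ∈ X
  invol : ∀ w ∈ X, w * w = 1 → w = 1 ∨ w = z
  cen : ∀ t ∈ T, (∀ s ∈ T, s * t = t * s) → t ∈ X
  zc : ∀ t ∈ T, t * z = z * t
  sq : ∀ t ∈ T, t ∉ X → t * t = 1 ∨ t * t = z
  inv4 : ∀ t ∈ T, t ∉ X → ∀ a ∈ X, a * a = z → t * a * t⁻¹ = a⁻¹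

theorem dq_of_gens {G : Type*} [Group G] (T : Subgroup G) [Finite ↥T] (x y : G)
    (hx : x ∈ T) (hy : y ∈ T) (m s : ℕ) (hm : orderOf x = m) (h4 : 4 ∣ m)
    (hcard : Nat.card ↥T = 2 * m) (hyx : y * x * y⁻¹ = x ^ s) (hs4 : 4 ∣ s + 1)
    (hg : Nat.gcd (s - 1) m = 2) :
    DQData T (zpowers x) (x ^ (m / 2)) := by
  classical
  have hm0 : 0 < m := by
    have := Nat.card_pos (α := ↥T)
    omega
  have hXT : zpowers x ≤ T := (zpowers_le).mpr hx
  have hcX : Nat.card ↥(zpowers x) = m := by rw [Nat.card_zpowers, hm]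
  have hidx : ((zpowers x).subgroupOf T).index = 2 := by
    have h1 : Nat.card ↥((zpowers x).subgroupOf T) = m := by
      rw [Nat.card_congr (Subgroup.subgroupOfEquivOfLe hXT).toEquiv, hcX]
    have h2 := ((zpowers x).subgroupOf T).card_mul_index
    rw [h1, hcard] at h2
    exact Nat.eq_of_mul_eq_mul_left hm0 (by linarith)
  have idx' : ∀ s ∈ T, ∀ t ∈ T, s ∉ zpowers x → t ∉ zpowers x → s * t⁻¹ ∈ zpowers x := by
    intro s hs t ht hsX htX
    have key := (Subgroup.mul_mem_iff_of_index_two hidx (a := (⟨s, hs⟩ : ↥T))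
      (b := (⟨t, ht⟩ : ↥T)⁻¹))
    have ha : (⟨s, hs⟩ : ↥T) ∉ (zpowers x).subgroupOf T := by
      rw [Subgroup.mem_subgroupOf]; exact hsX
    have hb : (⟨t, ht⟩ : ↥T)⁻¹ ∉ (zpowers x).subgroupOf T := by
      rw [Subgroup.inv_mem_iff, Subgroup.mem_subgroupOf]; exact htX
    have h3 := key.mpr (iff_of_false ha hb)
    rw [Subgroup.mem_subgroupOf] at h3
    simpa using h3
  have hs1 : 1 ≤ s := by omega
  have hpow_pred : ∀ w : G, w ^ s = w → w ^ (s - 1) = 1 := by
    intro w h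
    have h1 : w ^ (s - 1) * w = 1 * w := by
      rw [← pow_succ, Nat.sub_add_cancel hs1, one_mul]; exact h
    exact mul_right_cancel h1
  have hxs : x ^ s ≠ x := by
    intro h
    have h2 : m ∣ s - 1 := hm ▸ orderOf_dvd_of_pow_eq_one (hpow_pred x h)
    have h3 : Nat.gcd (s - 1) m = m := Nat.gcd_eq_right h2
    omega
  have hcomm : ∀ w ∈ zpowers x, w * x = x * w := by
    intro w hw
    obtain ⟨k, rfl⟩ := Subgroup.mem_zpowers_iff.mp hw
    exact ((Commute.refl x).zpow_left k).eq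
  have hyX : y ∉ zpowers x := by
    intro h
    apply hxs
    rw [← hyx, hcomm y h, mul_inv_cancel_right]
  have hB : ∀ t ∈ T, t ∉ zpowers x → t * x * t⁻¹ = x ^ s := by
    intro t ht htX
    have hw := idx' t ht y hy htX hyX
    have hc : Commute (t * y⁻¹) x := hcomm _ hw
    have hc' : (t * y⁻¹) * x ^ s = x ^ s * (t * y⁻¹) := (hc.pow_right s).eq
    calc t * x * t⁻¹ = (t * y⁻¹) * (y * x * y⁻¹) * (t * y⁻¹)⁻¹ := by group
      _ = (t * y⁻¹) * x ^ s * (t * y⁻¹)⁻¹ := by rw [hyx]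
      _ = x ^ s := by rw [hc', mul_inv_cancel_right]
  have hB' : ∀ t ∈ T, t ∉ zpowers x → ∀ a ∈ zpowers x, t * a * t⁻¹ = a ^ s := by
    intro t ht htX a ha
    obtain ⟨k, rfl⟩ := Subgroup.mem_zpowers_iff.mp ha
    rw [← conj_zpow, hB t ht htX, ← zpow_natCast x s, ← zpow_mul, ← zpow_natCast (x ^ k) s,
      ← zpow_mul, mul_comm]
  obtain ⟨j, hj⟩ := h4
  have hzX : x ^ (m / 2) ∈ zpowers x := Subgroup.pow_mem _ (Subgroup.mem_zpowers x) _
  have hz1 : x ^ (m / 2) ≠ 1 :=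
    pow_ne_one_of_lt_orderOf (by omega) (by rw [hm]; omega)
  have hzz : x ^ (m / 2) * x ^ (m / 2) = 1 := by
    rw [← pow_add, show m / 2 + m / 2 = m by omega, ← hm, pow_orderOf_eq_one]
  have hfin : IsOfFinOrder x := orderOf_pos_iff.mp (hm ▸ hm0)
  have invol : ∀ w ∈ zpowers x, w * w = 1 → w = 1 ∨ w = x ^ (m / 2) := by
    intro w hw hww
    have h0 := (hfin.mem_zpowers_iff_mem_range_orderOf).mp hw
    obtain ⟨k, hk, rfl⟩ := Finset.mem_image.mp h0
    rw [Finset.mem_range, hm] at hk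
    have h1 : orderOf x ∣ k + k := orderOf_dvd_of_pow_eq_one (by rw [pow_add]; exact hww)
    rw [hm] at h1
    obtain ⟨i, hi⟩ := h1
    have hi2 : i < 2 := by
      by_contra h
      push Not at h
      have := Nat.mul_le_mul_left m h
      linarith
    interval_cases i
    · left
      have : k = 0 := by omega
      simp [this]
    · right
      have : k = m / 2 := by omega
      simp [this]
  refine ⟨hXT, inferInstance, hzX, hz1, hzz, idx', invol, ?_, ?_, ?_, ?_⟩
  · intro t ht hc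
    by_contra htX
    apply hxs
    rw [← hB t ht htX, ← hc x hx, mul_inv_cancel_right]
  · intro t ht
    by_cases htX : t ∈ zpowers x
    · obtain ⟨k, rfl⟩ := Subgroup.mem_zpowers_iff.mp htX
      exact (((Commute.refl x).zpow_left k).pow_right (m / 2)).eq
    · have h1 := hB' t ht htX _ hzX
      have h2 : (x ^ (m / 2)) ^ s = x ^ (m / 2) := by
        obtain ⟨i, hi⟩ := hs4
        have : s = 2 * (2 * i - 1) + 1 := by omega
        rw [this, pow_succ, pow_mul, pow_two, hzz, one_pow, one_mul]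
      rw [h2] at h1
      calc t * x ^ (m / 2) = (t * x ^ (m / 2) * t⁻¹) * t := by group
        _ = x ^ (m / 2) * t := by rw [h1]
  · intro t ht htX
    have htt : t * t ∈ zpowers x := by
      have := idx' t ht t⁻¹ (inv_mem ht) htX (by rwa [inv_mem_iff])
      simpa using this
    have h1 := hB' t ht htX (t * t) htt
    have h2 : (t * t) ^ s = t * t := by rw [← h1]; group
    have h3 := hpow_pred _ h2
    have h4' : orderOf (t * t) ∣ 2 := by
      rw [← hg]
      exact Nat.dvd_gcd (orderOf_dvd_of_pow_eq_one h3) (hm ▸ orderOf_dvd_of_mem_zpowers htt)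
    have h5 : (t * t) * (t * t) = 1 := by
      rw [← pow_two]; exact orderOf_dvd_iff_pow_eq_one.mp h4'
    exact invol (t * t) htt h5
  · intro t ht htX a ha haa
    rw [hB' t ht htX a ha]
    obtain ⟨i, hi⟩ := hs4
    have ha4 : a ^ 4 = 1 := by
      have : a ^ 4 = (a * a) * (a * a) := by
        rw [show (4 : ℕ) = 2 + 2 from rfl, pow_add, pow_two]
      rw [this, haa, hzz]
    apply eq_inv_of_mul_eq_one_left
    rw [← pow_succ, hi, pow_mul, ha4, one_pow]

theorem dq_of_dihedral {G : Type*} [Group G] [Finite G] (T : Sylow 2 G) (n : ℕ) (hn : 4 ≤ n)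
    (e : ↥(T : Subgroup G) ≃* DihedralGroup n) :
    ∃ (X : Subgroup G) (z : G), DQData (T : Subgroup G) X z := by
  have hcard : Nat.card ↥(T : Subgroup G) = 2 * n := by
    rw [Nat.card_congr e.toEquiv, DihedralGroup.nat_card]
  obtain ⟨k, hk⟩ := IsPGroup.iff_card.mp T.2
  have h4 : 4 ∣ n := by
    have h1 : n ∣ 2 ^ k := ⟨2, by rw [← hk, hcard]; ring⟩
    obtain ⟨j, hj, rfl⟩ := (Nat.dvd_prime_pow Nat.prime_two).mp h1
    have h2 : 2 ≤ j := by
      by_contra h
      push Not at h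
      interval_cases j <;> simp at hn
    exact (by norm_num : (4 : ℕ) = 2 ^ 2) ▸ pow_dvd_pow 2 h2
  have hox : orderOf ((e.symm (DihedralGroup.r 1) : ↥(T : Subgroup G)) : G) = n := by
    rw [Subgroup.orderOf_coe, MulEquiv.orderOf_eq, DihedralGroup.orderOf_r_one]
  have hyx : ((e.symm (DihedralGroup.sr 0) : ↥(T : Subgroup G)) : G) *
      ((e.symm (DihedralGroup.r 1) : ↥(T : Subgroup G)) : G) *
      ((e.symm (DihedralGroup.sr 0) : ↥(T : Subgroup G)) : G)⁻¹ =
      ((e.symm (DihedralGroup.r 1) : ↥(T : Subgroup G)) : G) ^ (n - 1) := by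
    have h1 : e.symm (DihedralGroup.sr 0) * e.symm (DihedralGroup.r 1) *
        (e.symm (DihedralGroup.sr 0))⁻¹ = (e.symm (DihedralGroup.r 1)) ^ (n - 1) := by
      apply e.injective
      simp only [map_mul, map_inv, map_pow, MulEquiv.apply_symm_apply]
      rw [DihedralGroup.r_one_pow]
      simp [Nat.cast_sub (by omega : 1 ≤ n)]
    exact_mod_cast congrArg Subtype.val h1
  refine ⟨zpowers ((e.symm (DihedralGroup.r 1) : ↥(T : Subgroup G)) : G), _,
    dq_of_gens (T : Subgroup G) _ _ (e.symm (DihedralGroup.r 1)).2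
      (e.symm (DihedralGroup.sr 0)).2 n (n - 1) hox h4 hcard hyx ?_ ?_⟩
  · rw [Nat.sub_add_cancel (by omega)]; exact h4
  · obtain ⟨j, rfl⟩ := h4
    obtain ⟨q, hq⟩ : ∃ q, 2 * j = q + 1 := ⟨2 * j - 1, by omega⟩
    have e1 : 4 * j - 1 - 1 = 2 * q := by omega
    have e2 : 4 * j = 2 * (q + 1) := by omega
    rw [e1, e2, Nat.gcd_mul_left]
    have : Nat.gcd q (q + 1) = 1 := by simp
    rw [this]

theorem dq_of_quasi {G : Type*} [Group G] [Finite G] (T : Subgroup G)
    (h : Cfsg.IsQuasiDihedral ↥T) : ∃ (X : Subgroup G) (z : G), DQData T X z := by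
  obtain ⟨n, hn, hcard, x, y, hx, hy, hyx⟩ := h
  obtain ⟨k, rfl⟩ : ∃ k, n = k + 3 := ⟨n - 3, by omega⟩
  have hox : orderOf (x : G) = 2 ^ (k + 3) := by rw [Subgroup.orderOf_coe, hx]
  have hyx' : (y : G) * x * (y : G)⁻¹ = (x : G) ^ (2 ^ (k + 3 - 1) - 1) := by
    exact_mod_cast congrArg Subtype.val hyx
  have hp1 : 1 ≤ 2 ^ (k + 1) := Nat.one_le_two_pow
  have hp2 : 2 ^ (k + 3 - 1) = 2 * 2 ^ (k + 1) := by
    rw [show k + 3 - 1 = (k + 1) + 1 by omega, pow_succ]; ring
  refine ⟨zpowers (x : G), _, dq_of_gens T x y x.2 y.2 (2 ^ (k + 3)) (2 ^ (k + 3 - 1) - 1)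
    hox ⟨2 ^ (k + 1), by ring⟩ (by rw [hcard]; ring) hyx' ?_ ?_⟩
  · rw [hp2]
    exact ⟨2 ^ k, by rw [pow_succ]; omega⟩
  · have e1 : 2 ^ (k + 3 - 1) - 1 - 1 = 2 * (2 ^ (k + 1) - 1) := by omega
    rw [e1, show 2 ^ (k + 3) = 2 * 2 ^ (k + 2) by ring, Nat.gcd_mul_left]
    have hodd : Odd (2 ^ (k + 1) - 1) :=
      Nat.Even.sub_odd hp1 (by rw [pow_succ]; exact even_two.mul_left _) odd_one
    have hc : Nat.Coprime (2 ^ (k + 1) - 1) (2 ^ (k + 2)) :=
      Nat.Coprime.pow_right _ (Nat.coprime_two_right.mpr hodd)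
    rw [hc]

end Cfsg.Agent.Helper16
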