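import Mathlib
import Cfsg.Agent.Helper18.SL23Rec
import Cfsg.Agent.Helper16.PCore

set_option autoImplicit false

/-!
# A normal `SL(2,3)` from a quaternion `O_2` and an element of order three

`dq_sl23_of_q8`: if `Q` is a normal self-centralizing 2-subgroup which is the union of `⟨a⟩` and
`⟨a⟩ b` with `a² = b² = z` central, `b = c a c⁻¹`, `b a b⁻¹ = a⁻¹`, `c b c⁻¹ = a b` and `c` of odd
order, then `⟨a, c⟩` is a normal subgroup isomorphic to `SL(2,3)`.
-/

namespace Cfsg.Agent.Helper16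

open Subgroup
open Cfsg.Agent.Helper18.SL23Rec (mA mC Rel)

local notation "S23" => Matrix.SpecialLinearGroup (Fin 2) (ZMod 3)

attribute [local instance] Cfsg.Agent.Helper18.SL23Rec.fact3

/-- the conjugate of `mA` by `mC` -/
def dqB : S23 := mC * mA * mC⁻¹

theorem dq_hom {G : Type*} [Group G] (a c : G) (h : Rel a c) :
    ∃ F : S23 →* G, F mA = a ∧ F mC = c := by
  obtain ⟨φ, h1, h2⟩ := Cfsg.Agent.Helper18.SL23Rec.exists_hom a c h
  obtain ⟨ψ, h3, h4⟩ := Cfsg.Agent.Helper18.SL23Rec.exists_hom mA mC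
    Cfsg.Agent.Helper18.SL23Rec.rel_S23
  have hs : Function.Surjective ψ := by
    rw [← MonoidHom.range_eq_top, eq_top_iff, ← Cfsg.Agent.Helper18.SL23Rec.closure_S23,
      Subgroup.closure_le]
    rintro g (rfl | rfl)
    · exact ⟨_, h3⟩
    · exact ⟨_, h4⟩
  haveI := Cfsg.Agent.Helper18.SL23Rec.finite_P
  have hb : Function.Bijective ψ := hs.bijective_of_nat_card_le
    (by rw [Cfsg.Agent.Helper18.SL23Rec.card_S23]; exact Cfsg.Agent.Helper18.SL23Rec.card_P_le)
  refine ⟨φ.comp (MulEquiv.ofBijective ψ hb).symm.toMonoidHom, ?_, ?_⟩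
  · show φ ((MulEquiv.ofBijective ψ hb).symm mA) = a
    have : (MulEquiv.ofBijective ψ hb).symm mA = Cfsg.Agent.Helper18.SL23Rec.pa := by
      rw [MulEquiv.symm_apply_eq]; exact h3.symm
    rw [this, h1]
  · show φ ((MulEquiv.ofBijective ψ hb).symm mC) = c
    have : (MulEquiv.ofBijective ψ hb).symm mC = Cfsg.Agent.Helper18.SL23Rec.pc := by
      rw [MulEquiv.symm_apply_eq]; exact h4.symm
    rw [this, h2]

theorem dq_comm_of_conj {G : Type*} [Group G] {g x : G} (h : g * x * g⁻¹ = x) : g * x = x * g :=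
  mul_inv_eq_iff_eq_mul.mp h

theorem dq_eq_one_of_odd {G : Type*} [Group G] {Q : Subgroup G} (h2 : IsPGroup 2 ↥Q) {d : G}
    (hd : d ∈ Q) (ho : Odd (orderOf d)) : d = 1 := by
  obtain ⟨k, hk⟩ := h2 ⟨d, hd⟩
  have h1 : d ^ 2 ^ k = 1 := by
    have := congrArg Subtype.val hk
    simpa using this
  exact eq_one_of_coprime_of_pow (p := 2) (Nat.coprime_two_right.mpr ho) h1

theorem dq_zpowers_four {G : Type*} [Group G] [Finite G] {a z : G} (haa : a * a = z)
    (hzz : z * z = 1) : ∀ w ∈ zpowers a, w = 1 ∨ w = a ∨ w = z ∨ w = a⁻¹ := by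
  have ha4 : a ^ 4 = 1 := by
    have : a ^ 4 = (a * a) * (a * a) := by
      rw [show (4 : ℕ) = 2 + 2 from rfl, pow_add, pow_two]
    rw [this, haa, hzz]
  intro w hw
  obtain ⟨k, rfl⟩ := (Submonoid.mem_powers_iff _ _).mp (mem_powers_iff_mem_zpowers.mpr hw)
  rw [pow_eq_pow_mod k ha4]
  have hk : k % 4 < 4 := Nat.mod_lt _ (by norm_num)
  obtain ⟨r, hr⟩ : ∃ r, k % 4 = r := ⟨_, rfl⟩
  rw [hr] at hk ⊢
  interval_cases r
  · left; simp
  · right; left; simp
  · right; right; left; rw [pow_two, haa]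
  · right; right; right
    apply eq_inv_of_mul_eq_one_left
    rw [← pow_succ]; exact ha4

theorem dq_sl23_of_q8 {G : Type*} [Group G] [Finite G] (Q : Subgroup G) (hQn : Q.Normal)
    (hCQ : centralizer (Q : Set G) ≤ Q) (h2 : IsPGroup 2 ↥Q)
    (z a c b : G) (hb : b = c * a * c⁻¹) (hz1 : z ≠ 1) (hzc : ∀ g : G, g * z * g⁻¹ = z)
    (haQ : a ∈ Q) (haa : a * a = z) (hzz : z * z = 1)
    (hba : b * a * b⁻¹ = a⁻¹) (hcb : c * b * c⁻¹ = a * b)
    (hQ : ∀ q ∈ Q, q ∈ zpowers a ∨ q * b⁻¹ ∈ zpowers a) (hc : Odd (orderOf c)) (hc1 : c ≠ 1) :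
    ∃ U : Subgroup G, U.Normal ∧ Nonempty (↥U ≃* S23) := by
  have hbQ : b ∈ Q := by rw [hb]; exact hQn.conj_mem a haQ c
  have hbb : b * b = z := by
    have : b * b = c * (a * a) * c⁻¹ := by rw [hb]; group
    rw [this, haa, hzc]
  have ha4 : a ^ 4 = 1 := by
    have : a ^ 4 = (a * a) * (a * a) := by
      rw [show (4 : ℕ) = 2 + 2 from rfl, pow_add, pow_two]
    rw [this, haa, hzz]
  have hane : a⁻¹ ≠ a := by
    intro h
    apply hz1
    rw [← haa]
    nth_rewrite 1 [← h]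
    exact inv_mul_cancel a
  have hZ4 := dq_zpowers_four haa hzz
  have hL8 : ∀ q ∈ Q, q = 1 ∨ q = a ∨ q = z ∨ q = a⁻¹ ∨ q = b ∨ q = a * b ∨ q = z * b ∨
      q = a⁻¹ * b := by
    intro q hq
    rcases hQ q hq with h | h
    · rcases hZ4 q h with h | h | h | h <;> simp [h]
    · have e : q = (q * b⁻¹) * b := by group
      rcases hZ4 _ h with h | h | h | h
      · right; right; right; right; left
        calc q = (q * b⁻¹) * b := e
          _ = b := by rw [h, one_mul]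
      · right; right; right; right; right; left
        calc q = (q * b⁻¹) * b := e
          _ = a * b := by rw [h]
      · right; right; right; right; right; right; left
        calc q = (q * b⁻¹) * b := e
          _ = z * b := by rw [h]
      · right; right; right; right; right; right; right
        calc q = (q * b⁻¹) * b := e
          _ = a⁻¹ * b := by rw [h]
  have hcent : ∀ g : G, g * a = a * g → g * b = b * g → g ∈ Q := by
    intro g hga hgb
    apply hCQ
    rw [mem_centralizer_iff]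
    intro q hq
    rcases hQ q hq with h | h
    · obtain ⟨k, rfl⟩ := mem_zpowers_iff.mp h
      exact ((show Commute g a from hga).zpow_right k).eq.symm
    · obtain ⟨k, hk⟩ := mem_zpowers_iff.mp h
      have e : q = a ^ k * b := by rw [hk]; group
      rw [e]
      exact (((show Commute g a from hga).zpow_right k).mul_right
        (show Commute g b from hgb)).eq.symm
  have hcab : c * (a * b) * c⁻¹ = a := by
    calc c * (a * b) * c⁻¹ = (c * a * c⁻¹) * (c * b * c⁻¹) := by group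
      _ = b * (a * b) := by rw [← hb, hcb]
      _ = (b * a * b⁻¹) * (b * b) := by group
      _ = a⁻¹ * (a * a) := by rw [hba, hbb, haa]
      _ = a := by group
  have hc3 : c ^ 3 = 1 := by
    have e3 : c ^ 3 = c * c * c := by rw [pow_succ, pow_two]
    have h1 : c ^ 3 * a * (c ^ 3)⁻¹ = a := by
      calc c ^ 3 * a * (c ^ 3)⁻¹ = c * (c * (c * a * c⁻¹) * c⁻¹) * c⁻¹ := by rw [e3]; group
        _ = a := by rw [← hb, hcb, hcab]
    have h2' : c ^ 3 * b * (c ^ 3)⁻¹ = b := by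
      calc c ^ 3 * b * (c ^ 3)⁻¹ = c * (c ^ 3 * a * (c ^ 3)⁻¹) * c⁻¹ := by
            rw [hb, e3]; group
        _ = b := by rw [h1, hb]
    have h3 : c ^ 3 ∈ Q := hcent _ (dq_comm_of_conj h1) (dq_comm_of_conj h2')
    exact dq_eq_one_of_odd h2 h3 (Odd.of_dvd_nat hc (orderOf_pow_dvd 3))
  have hRel : Rel a c := by
    subst hb
    exact ⟨ha4, hc3, hbb.trans haa.symm, hba, hcb⟩
  obtain ⟨F, hFa, hFc⟩ := dq_hom a c hRel
  have hFb : F dqB = b := by rw [hb, dqB, map_mul, map_mul, map_inv, hFa, hFc]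
  -- identities transported from `SL(2,3)`
  have I1 : b * a⁻¹ * b⁻¹ = a := by
    have := congrArg F (show dqB * mA⁻¹ * dqB⁻¹ = mA by decide)
    simpa only [map_mul, map_inv, hFa, hFb, hFc] using this
  have I2 : (b * c⁻¹) * (z * b) * (b * c⁻¹)⁻¹ = a := by
    have := congrArg F (show (dqB * mC⁻¹) * (mA * mA * dqB) * (dqB * mC⁻¹)⁻¹ = mA by decide)
    simpa only [map_mul, map_inv, hFa, hFb, hFc, haa] using this
  have I3 : c⁻¹ * b * c⁻¹⁻¹ = a := by
    have := congrArg F (show mC⁻¹ * dqB * mC⁻¹⁻¹ = mA by decide)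
    simpa only [map_mul, map_inv, hFa, hFb, hFc] using this
  have I5 : (b * c) * (a⁻¹ * b) * (b * c)⁻¹ = a := by
    have := congrArg F (show (dqB * mC) * (mA⁻¹ * dqB) * (dqB * mC)⁻¹ = mA by decide)
    simpa only [map_mul, map_inv, hFa, hFb, hFc] using this
  have I6 : a * (z * b) * a⁻¹ = b := by
    have := congrArg F (show mA * (mA * mA * dqB) * mA⁻¹ = dqB by decide)
    simpa only [map_mul, map_inv, hFa, hFb, hFc, haa] using this
  have I7 : a * (a⁻¹ * b) * a⁻¹ = a * b := by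
    have := congrArg F (show mA * (mA⁻¹ * dqB) * mA⁻¹ = mA * dqB by decide)
    simpa only [map_mul, map_inv, hFa, hFb, hFc] using this
  have I8 : (a * b * c⁻¹)⁻¹ * (a * b) * ((a * b * c⁻¹)⁻¹)⁻¹ = a := by
    have := congrArg F
      (show (mA * dqB * mC⁻¹)⁻¹ * (mA * dqB) * ((mA * dqB * mC⁻¹)⁻¹)⁻¹ = mA by decide)
    simpa only [map_mul, map_inv, hFa, hFb, hFc] using this
  have I9 : (a * b * c⁻¹)⁻¹ * a⁻¹ * ((a * b * c⁻¹)⁻¹)⁻¹ = b := by
    have := congrArg F
      (show (mA * dqB * mC⁻¹)⁻¹ * mA⁻¹ * ((mA * dqB * mC⁻¹)⁻¹)⁻¹ = dqB by decide)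
    simpa only [map_mul, map_inv, hFa, hFb, hFc] using this
  have I10 : c * (a⁻¹ * b) * c⁻¹ = a⁻¹ := by
    have := congrArg F (show mC * (mA⁻¹ * dqB) * mC⁻¹ = mA⁻¹ by decide)
    simpa only [map_mul, map_inv, hFa, hFb, hFc] using this
  obtain ⟨U, hU⟩ : ∃ U : Subgroup G, U = closure ({a, c} : Set G) := ⟨_, rfl⟩
  have haU : a ∈ U := hU ▸ subset_closure (Or.inl rfl)
  have hcU : c ∈ U := hU ▸ subset_closure (Or.inr rfl)
  have hbU : b ∈ U := by rw [hb]; exact U.mul_mem (U.mul_mem hcU haU) (U.inv_mem hcU)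
  have hzU : z ∈ U := haa ▸ U.mul_mem haU haU
  have hQU : Q ≤ U := by
    intro q hq
    rcases hL8 q hq with h | h | h | h | h | h | h | h <;> rw [h]
    · exact U.one_mem
    · exact haU
    · exact hzU
    · exact U.inv_mem haU
    · exact hbU
    · exact U.mul_mem haU hbU
    · exact U.mul_mem hzU hbU
    · exact U.mul_mem (U.inv_mem haU) hbU
  have hsq : ∀ g : G, (g * a * g⁻¹) * (g * a * g⁻¹) = z := by
    intro g
    have : (g * a * g⁻¹) * (g * a * g⁻¹) = g * (a * a) * g⁻¹ := by group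
    rw [this, haa, hzc]
  have hsqb : ∀ g : G, (g * b * g⁻¹) * (g * b * g⁻¹) = z := by
    intro g
    have : (g * b * g⁻¹) * (g * b * g⁻¹) = g * (b * b) * g⁻¹ := by group
    rw [this, hbb, hzc]
  have h1ne : (1 : G) * 1 ≠ z := by rw [one_mul]; exact fun h => hz1 h.symm
  have hzne : z * z ≠ z := by rw [hzz]; exact fun h => hz1 h.symm
  have hN1 : ∀ g : G, ∃ u ∈ U, (u * g) * a * (u * g)⁻¹ = a := by
    intro g
    have hq := hL8 _ (hQn.conj_mem a haQ g)
    have hs := hsq g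
    have key : ∀ u : G, (u * g) * a * (u * g)⁻¹ = u * (g * a * g⁻¹) * u⁻¹ := fun u => by group
    rcases hq with h | h | h | h | h | h | h | h
    · rw [h] at hs; exact absurd hs h1ne
    · exact ⟨1, U.one_mem, by rw [key, h]; group⟩
    · rw [h] at hs; exact absurd hs hzne
    · exact ⟨b, hbU, by rw [key, h]; exact I1⟩
    · exact ⟨c⁻¹, U.inv_mem hcU, by rw [key, h]; exact I3⟩
    · exact ⟨c, hcU, by rw [key, h]; exact hcab⟩
    · exact ⟨b * c⁻¹, U.mul_mem hbU (U.inv_mem hcU), by rw [key, h]; exact I2⟩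
    · exact ⟨b * c, U.mul_mem hbU hcU, by rw [key, h]; exact I5⟩
  have hN2 : ∀ e : G, e * a * e⁻¹ = a → ∃ u ∈ U, (u * e) * a * (u * e)⁻¹ = a ∧
      ((u * e) * b * (u * e)⁻¹ = b ∨ (u * e) * b * (u * e)⁻¹ = a * b) := by
    intro e hea
    have hq := hL8 _ (hQn.conj_mem b hbQ e)
    have hs := hsqb e
    have key : ∀ (u x : G), (u * e) * x * (u * e)⁻¹ = u * (e * x * e⁻¹) * u⁻¹ :=
      fun u x => by group
    have hne1 : e * b * e⁻¹ ≠ a := by
      intro h
      have hba' : b = a := by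
        have h' : e * b * e⁻¹ = e * a * e⁻¹ := h.trans hea.symm
        simpa using h'
      rw [hba'] at hba
      apply hane
      rw [← hba]; group
    have hne2 : e * b * e⁻¹ ≠ a⁻¹ := by
      intro h
      have h2' : e * a⁻¹ * e⁻¹ = a⁻¹ := by
        have : e * a⁻¹ * e⁻¹ = (e * a * e⁻¹)⁻¹ := by group
        rw [this, hea]
      have hba' : b = a⁻¹ := by
        have h' : e * b * e⁻¹ = e * a⁻¹ * e⁻¹ := h.trans h2'.symm
        simpa using h'
      rw [hba'] at hba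
      apply hane
      rw [← hba]; group
    rcases hq with h | h | h | h | h | h | h | h
    · rw [h] at hs; exact absurd hs h1ne
    · exact absurd h hne1
    · rw [h] at hs; exact absurd hs hzne
    · exact absurd h hne2
    · exact ⟨1, U.one_mem, by rw [key, hea]; group, Or.inl (by rw [key, h]; group)⟩
    · exact ⟨1, U.one_mem, by rw [key, hea]; group, Or.inr (by rw [key, h]; group)⟩
    · exact ⟨a, haU, by rw [key, hea]; group, Or.inl (by rw [key, h]; exact I6)⟩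
    · exact ⟨a, haU, by rw [key, hea]; group, Or.inr (by rw [key, h]; exact I7)⟩
  have hN4 : ∀ e : G, e * a * e⁻¹ = a → e * b * e⁻¹ = a * b → e * c * e⁻¹ ∈ U := by
    intro e hea heb
    have hea' : e⁻¹ * a * e = a := by
      calc e⁻¹ * a * e = e⁻¹ * (e * a * e⁻¹) * e := by rw [hea]
        _ = a := by group
    have heb' : e⁻¹ * b * e = a⁻¹ * b := by
      have h1 : e * (a⁻¹ * b) * e⁻¹ = b := by
        calc e * (a⁻¹ * b) * e⁻¹ = (e * a * e⁻¹)⁻¹ * (e * b * e⁻¹) := by group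
          _ = b := by rw [hea, heb]; group
      calc e⁻¹ * b * e = e⁻¹ * (e * (a⁻¹ * b) * e⁻¹) * e := by rw [h1]
        _ = a⁻¹ * b := by group
    have hwa : (e * c * e⁻¹) * a * (e * c * e⁻¹)⁻¹ = a * b := by
      calc (e * c * e⁻¹) * a * (e * c * e⁻¹)⁻¹ = e * (c * (e⁻¹ * a * e) * c⁻¹) * e⁻¹ := by group
        _ = e * b * e⁻¹ := by rw [hea', ← hb]
        _ = a * b := heb
    have hwb : (e * c * e⁻¹) * b * (e * c * e⁻¹)⁻¹ = a⁻¹ := by
      calc (e * c * e⁻¹) * b * (e * c * e⁻¹)⁻¹ = e * (c * (e⁻¹ * b * e) * c⁻¹) * e⁻¹ := by group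
        _ = e * a⁻¹ * e⁻¹ := by rw [heb', I10]
        _ = (e * a * e⁻¹)⁻¹ := by group
        _ = a⁻¹ := by rw [hea]
    have hv : (a * b * c⁻¹)⁻¹ * (e * c * e⁻¹) ∈ Q := by
      apply hcent
      · apply dq_comm_of_conj
        calc ((a * b * c⁻¹)⁻¹ * (e * c * e⁻¹)) * a * ((a * b * c⁻¹)⁻¹ * (e * c * e⁻¹))⁻¹
            = (a * b * c⁻¹)⁻¹ * ((e * c * e⁻¹) * a * (e * c * e⁻¹)⁻¹) *
                ((a * b * c⁻¹)⁻¹)⁻¹ := by group
          _ = a := by rw [hwa]; exact I8
      · apply dq_comm_of_conj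
        calc ((a * b * c⁻¹)⁻¹ * (e * c * e⁻¹)) * b * ((a * b * c⁻¹)⁻¹ * (e * c * e⁻¹))⁻¹
            = (a * b * c⁻¹)⁻¹ * ((e * c * e⁻¹) * b * (e * c * e⁻¹)⁻¹) *
                ((a * b * c⁻¹)⁻¹)⁻¹ := by group
          _ = b := by rw [hwb]; exact I9
    have e1 : e * c * e⁻¹ = (a * b * c⁻¹) * ((a * b * c⁻¹)⁻¹ * (e * c * e⁻¹)) := by group
    rw [e1]
    exact U.mul_mem (U.mul_mem (U.mul_mem haU hbU) (U.inv_mem hcU)) (hQU hv)
  have hconj : ∀ g : G, g * c * g⁻¹ ∈ U := by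
    intro g
    obtain ⟨u₁, hu₁, h1⟩ := hN1 g
    obtain ⟨u₂, hu₂, h2', h3⟩ := hN2 (u₁ * g) h1
    have hecU : (u₂ * (u₁ * g)) * c * (u₂ * (u₁ * g))⁻¹ ∈ U := by
      rcases h3 with h3 | h3
      · have hmem : u₂ * (u₁ * g) ∈ Q := hcent _ (dq_comm_of_conj h2') (dq_comm_of_conj h3)
        exact U.mul_mem (U.mul_mem (hQU hmem) hcU) (U.inv_mem (hQU hmem))
      · exact hN4 _ h2' h3
    have e1 : g * c * g⁻¹ = (u₂ * u₁)⁻¹ * ((u₂ * (u₁ * g)) * c * (u₂ * (u₁ * g))⁻¹) *
        ((u₂ * u₁)⁻¹)⁻¹ := by group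
    rw [e1]
    exact U.mul_mem (U.mul_mem (U.inv_mem (U.mul_mem hu₂ hu₁)) hecU)
      (U.inv_mem (U.inv_mem (U.mul_mem hu₂ hu₁)))
  have hUn : U.Normal := by
    constructor
    intro n hn g
    have hle : (closure ({a, c} : Set G)).map (MulAut.conj g).toMonoidHom ≤ U := by
      rw [MonoidHom.map_closure, closure_le]
      rintro _ ⟨x, (rfl | rfl), rfl⟩
      · exact hQU (hQn.conj_mem _ haQ g)
      · exact hconj g
    exact hle ⟨n, hU ▸ hn, rfl⟩
  refine ⟨U, hUn, ?_⟩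
  have hcardU : 24 ≤ Nat.card ↥U := by
    have ho3 : orderOf c = 3 := orderOf_eq_prime hc3 hc1
    have h3 : 3 ∣ Nat.card ↥U := by
      have e : orderOf (⟨c, hcU⟩ : ↥U) = 3 := by
        rw [← Subgroup.orderOf_coe]; exact ho3
      exact e ▸ orderOf_dvd_natCard (⟨c, hcU⟩ : ↥U)
    have h8 : 8 ∣ Nat.card ↥U := by
      have hoa : orderOf a = 4 := by
        have := orderOf_eq_prime_pow (x := a) (p := 2) (n := 1)
          (by rw [pow_one, pow_two, haa]; exact hz1) (by simpa using ha4)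
        simpa using this
      obtain ⟨k, hk⟩ := IsPGroup.iff_card.mp h2
      have hzQ : zpowers a ≤ Q := (zpowers_le).mpr haQ
      have hcz : Nat.card ↥(zpowers a) = 4 := by rw [Nat.card_zpowers, hoa]
      have hlt : 4 < Nat.card ↥Q := by
        by_contra hle
        push Not at hle
        have heq := Subgroup.eq_of_le_of_card_ge hzQ (by rw [hcz]; exact hle)
        have hbz : b ∈ zpowers a := heq ▸ hbQ
        obtain ⟨j, hj⟩ := mem_zpowers_iff.mp hbz
        have hcomm : b * a = a * b := by rw [← hj]; exact ((Commute.refl a).zpow_left j).eq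
        apply hane
        rw [← hba, hcomm]; group
      have h8Q : 8 ∣ Nat.card ↥Q := by
        rw [hk] at hlt ⊢
        have h3k : 3 ≤ k := by
          by_contra h
          push Not at h
          interval_cases k <;> simp at hlt
        exact (by norm_num : (8 : ℕ) = 2 ^ 3) ▸ pow_dvd_pow 2 h3k
      exact h8Q.trans (Subgroup.card_dvd_of_le hQU)
    have h24 : 24 ∣ Nat.card ↥U :=
      Nat.Coprime.mul_dvd_of_dvd_of_dvd (by norm_num : Nat.Coprime 8 3) h8 h3
    exact Nat.le_of_dvd Nat.card_pos h24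
  subst hU
  have hRelU : Rel (⟨a, haU⟩ : ↥(closure ({a, c} : Set G))) ⟨c, hcU⟩ := by
    obtain ⟨r1, r2, r3, r4, r5⟩ := hRel
    refine ⟨Subtype.ext ?_, Subtype.ext ?_, Subtype.ext ?_, Subtype.ext ?_, Subtype.ext ?_⟩
    · simpa using r1
    · simpa using r2
    · simpa using r3
    · simpa using r4
    · simpa using r5
  have hgenU : closure ({⟨a, haU⟩, ⟨c, hcU⟩} : Set ↥(closure ({a, c} : Set G))) = ⊤ := by
    have hset : (((↑) : ↥(closure ({a, c} : Set G)) → G) ⁻¹' {a, c}) =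
        {⟨a, haU⟩, ⟨c, hcU⟩} := by
      ext ⟨x, hx⟩
      simp [Subtype.ext_iff]
    rw [← hset]
    exact closure_closure_coe_preimage
  exact Cfsg.Agent.Helper18.SL23Rec.exists_iso _ _ hRelU hgenU hcardU

end Cfsg.Agent.Helper16
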