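import Mathlib
import Cfsg.Agent.Helper16.DQ
import Cfsg.Agent.Helper16.SL23N
import Cfsg.Agent.Helper16.FrakM
import Cfsg.Agent.Helper16.WeaklyClosed
import Cfsg.Agent.Helper17.Npc1
import Cfsg.Agent.Helper20.HallHigman
import Cfsg.Agent.Helper20.SolvPSolv

set_option autoImplicit false

/-!
# Solvable groups with dihedral or quasi-dihedral Sylow 2-subgroups

`dq_main`: a finite solvable group with `O(G) = 1`, Sylow 2-subgroup `T ≠ G` carrying the
structure `DQData`, and `Z(T)` normal, has a normal subgroup isomorphic to `SL(2,3)`.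
-/

namespace Cfsg.Agent.Helper16

open Subgroup

universe u

theorem dq_main {G : Type u} [Group G] [Finite G] (hsol : IsSolvable G)
    (hO : Cfsg.pPrimeCore 2 G = ⊥) (T : Sylow 2 G) (X : Subgroup G) (z : G)
    (hD : DQData (T : Subgroup G) X z) (hne : (T : Subgroup G) ≠ ⊤)
    (hZ : ((T : Subgroup G) ⊓ centralizer ((T : Subgroup G) : Set G)).Normal) :
    ∃ U : Subgroup G, U.Normal ∧
      Nonempty (↥U ≃* Matrix.SpecialLinearGroup (Fin 2) (ZMod 3)) := by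
  haveI : Fact (Nat.Prime 2) := ⟨Nat.prime_two⟩
  haveI := hsol
  obtain ⟨Q, hQdef⟩ : ∃ Q : Subgroup G, Q = Cfsg.pCore 2 G := ⟨_, rfl⟩
  have hQn : Q.Normal := hQdef ▸ pCore_normal 2 G
  have hQT : Q ≤ (T : Subgroup G) := hQdef ▸ pCore_le_sylow T
  have hQ2 : IsPGroup 2 ↥Q := hQdef ▸ pCore_isPGroup 2 G
  have hCQ : centralizer (Q : Set G) ≤ Q := by
    rw [hQdef]
    exact Cfsg.Agent.Helper20.PLen.centralizer_pCore_le_of_psolvable 2
      (@Cfsg.Agent.Helper20.PLen.isPSolvable_of_isSolvable G _ _ hsol 2 _) hO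
  have hoddT : ∀ d ∈ (T : Subgroup G), Odd (orderOf d) → d = 1 :=
    fun d hd ho => dq_eq_one_of_odd T.2 hd ho
  have hzT : z ∈ (T : Subgroup G) := hD.le hD.zX
  have hzZ : z ∈ (T : Subgroup G) ⊓ centralizer ((T : Subgroup G) : Set G) :=
    ⟨hzT, mem_centralizer_iff.mpr (fun t ht => hD.zc t ht)⟩
  have hzc : ∀ g : G, g * z * g⁻¹ = z := by
    intro g
    have h1 := hZ.conj_mem z hzZ g
    have h2 : g * z * g⁻¹ ∈ X :=
      hD.cen _ h1.1 (fun s hs => mem_centralizer_iff.mp h1.2 s hs)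
    have h3 : (g * z * g⁻¹) * (g * z * g⁻¹) = 1 := by
      have : (g * z * g⁻¹) * (g * z * g⁻¹) = g * (z * z) * g⁻¹ := by group
      rw [this, hD.zz]; group
    rcases hD.invol _ h2 h3 with h | h
    · exfalso
      apply hD.z1
      have : z = g⁻¹ * (g * z * g⁻¹) * g := by group
      rw [this, h]; group
    · exact h
  obtain ⟨c, r, hr, hr2, hoc⟩ : ∃ (c : G) (r : ℕ), r.Prime ∧ r ≠ 2 ∧ orderOf c = r := by
    have hidx : (T : Subgroup G).index ≠ 1 := fun h => hne (Subgroup.index_eq_one.mp h)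
    obtain ⟨r, hr, hrd⟩ := Nat.exists_prime_and_dvd hidx
    have hr2 : r ≠ 2 := by
      rintro rfl
      exact T.not_dvd_index hrd
    haveI : Fact r.Prime := ⟨hr⟩
    obtain ⟨c, hc⟩ := exists_prime_orderOf_dvd_card' r (hrd.trans (Subgroup.index_dvd_card _))
    exact ⟨c, r, hr, hr2, hc⟩
  have hcodd : Odd (orderOf c) := hoc ▸ hr.odd_of_ne_two hr2
  have hc1 : c ≠ 1 := by
    rintro rfl
    rw [orderOf_one] at hoc
    exact hr.ne_one hoc.symm
  have hcc1 : c * c ≠ 1 := by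
    intro h
    have h1 : orderOf c ∣ 2 := orderOf_dvd_of_pow_eq_one (by rw [pow_two]; exact h)
    rw [hoc] at h1
    exact hr2 ((Nat.prime_dvd_prime_iff_eq hr Nat.prime_two).mp h1)
  have hccodd : Odd (orderOf (c * c)) := by
    rw [← pow_two]; exact Odd.of_dvd_nat hcodd (orderOf_pow_dvd 2)
  have hC1 : ∀ d : G, Odd (orderOf d) → (∀ q ∈ Q, d * q * d⁻¹ = q) → d = 1 := by
    intro d hd hq
    apply hoddT d _ hd
    apply hQT; apply hCQ
    rw [mem_centralizer_iff]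
    intro q hqQ
    exact (mul_inv_eq_iff_eq_mul.mp (hq q hqQ)).symm
  haveI : IsCyclic ↥X := hD.cyc
  haveI : IsCyclic ↥(Q ⊓ X) := Subgroup.isCyclic_of_le (inf_le_right : Q ⊓ X ≤ X)
  obtain ⟨u, hu⟩ := IsCyclic.exists_generator (α := ↥(Q ⊓ X))
  obtain ⟨a, ha⟩ : ∃ a : G, a = (u : G) := ⟨_, rfl⟩
  have haQ : a ∈ Q := ha ▸ u.2.1
  have haX : a ∈ X := ha ▸ u.2.2
  have hgen : ∀ w ∈ Q ⊓ X, w ∈ zpowers a := by
    intro w hw
    obtain ⟨k, hk⟩ := mem_zpowers_iff.mp (hu ⟨w, hw⟩)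
    refine mem_zpowers_iff.mpr ⟨k, ?_⟩
    have := congrArg Subtype.val hk
    rw [ha]
    simpa using this
  have hzpQX : zpowers a ≤ Q ⊓ X := (zpowers_le).mpr ⟨haQ, haX⟩
  have hC2 : ∀ d : G, Odd (orderOf d) → d ≠ 1 → d * a * d⁻¹ ∉ X := by
    intro d hd hd1 hX
    apply hd1
    apply hC1 d hd
    have hmap : (Q ⊓ X).map (MulAut.conj d).toMonoidHom ≤ Q ⊓ X := by
      rintro _ ⟨w, hw, rfl⟩
      obtain ⟨k, rfl⟩ := mem_zpowers_iff.mp (hgen w hw)
      show d * a ^ k * d⁻¹ ∈ Q ⊓ X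
      rw [← conj_zpow]
      exact (Q ⊓ X).zpow_mem ⟨hQn.conj_mem a haQ d, hX⟩ k
    have hnorm : d ∈ normalizer ((Q ⊓ X : Subgroup G) : Set G) :=
      mem_normalizer_of_map_conj_eq (map_conj_eq_of_le hmap)
    have hcentQ1 : ∀ w ∈ Q ⊓ X, d * w * d⁻¹ = w :=
      Cfsg.Agent.Helper17.npc_cyc_cent (p := 2) (Q ⊓ X) (hQ2.to_le inf_le_left) d hnorm
        (Nat.coprime_two_right.mpr hd) (by simp)
    intro q hqQ
    by_cases hqX : q ∈ X
    · exact hcentQ1 q ⟨hqQ, hqX⟩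
    · have hq'Q : d * q * d⁻¹ ∈ Q := hQn.conj_mem q hqQ d
      have hq'X : d * q * d⁻¹ ∉ X := by
        intro h
        have h1 := hcentQ1 _ ⟨hq'Q, h⟩
        have h2 : d * q * d⁻¹ = q := by
          have : d * q * d⁻¹ = d⁻¹ * (d * (d * q * d⁻¹) * d⁻¹) * d := by group
          rw [this, h1]; group
        exact hqX (h2 ▸ h)
      have hwX : (d * q * d⁻¹) * q⁻¹ ∈ X := hD.idx _ (hQT hq'Q) _ (hQT hqQ) hq'X hqX
      have hwQ : (d * q * d⁻¹) * q⁻¹ ∈ Q := Q.mul_mem hq'Q (Q.inv_mem hqQ)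
      obtain ⟨w, hw⟩ : ∃ w : G, w = (d * q * d⁻¹) * q⁻¹ := ⟨_, rfl⟩
      rw [← hw] at hwX hwQ
      have hdw : d * w * d⁻¹ = w := hcentQ1 w ⟨hwQ, hwX⟩
      have hdq : d * q * d⁻¹ = w * q := by rw [hw]; group
      have hind : ∀ j : ℕ, d ^ j * q * (d ^ j)⁻¹ = w ^ j * q := by
        intro j
        induction j with
        | zero => simp
        | succ j ih =>
          calc d ^ (j + 1) * q * (d ^ (j + 1))⁻¹ = d * (d ^ j * q * (d ^ j)⁻¹) * d⁻¹ := by
                rw [pow_succ']; group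
            _ = d * (w ^ j * q) * d⁻¹ := by rw [ih]
            _ = (d * w * d⁻¹) ^ j * (d * q * d⁻¹) := by rw [conj_pow]; group
            _ = w ^ (j + 1) * q := by rw [hdw, hdq, pow_succ, mul_assoc]
      have h1 := hind (orderOf d)
      rw [pow_orderOf_eq_one] at h1
      have h2 : w ^ orderOf d = 1 := by
        have h3 : w ^ orderOf d * q = 1 * q := by rw [← h1]; group
        exact mul_right_cancel h3
      have h3 : w = 1 :=
        hoddT w (hQT hwQ) (Odd.of_dvd_nat hd (orderOf_dvd_of_pow_eq_one h2))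
      rw [hdq, h3, one_mul]
  obtain ⟨b, hb⟩ : ∃ b : G, b = c * a * c⁻¹ := ⟨_, rfl⟩
  have hbX : b ∉ X := hb ▸ hC2 c hcodd hc1
  have hbQ : b ∈ Q := hb ▸ hQn.conj_mem a haQ c
  have hbT : b ∈ (T : Subgroup G) := hQT hbQ
  have hbb' : b * b = c * (a * a) * c⁻¹ := by rw [hb]; group
  have haa' : a * a = c⁻¹ * (b * b) * c := by rw [hbb']; group
  have haa : a * a = z := by
    rcases hD.sq b hbT hbX with h | h
    · exfalso
      have h1 : a * a = 1 := by rw [haa', h]; group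
      rcases hD.invol a haX h1 with h2 | h2
      · apply hbX
        rw [hb, h2]
        simp
      · apply hbX
        rw [hb, h2, hzc]
        exact hD.zX
    · rw [haa', h]
      have := hzc c⁻¹
      simpa using this
  have hbb : b * b = z := by rw [hbb', haa, hzc]
  have hba : b * a * b⁻¹ = a⁻¹ := hD.inv4 b hbT hbX a haX haa
  have hQdesc : ∀ q ∈ Q, q ∈ zpowers a ∨ q * b⁻¹ ∈ zpowers a := by
    intro q hq
    by_cases hqX : q ∈ X
    · exact Or.inl (hgen q ⟨hq, hqX⟩)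
    · exact Or.inr (hgen _ ⟨Q.mul_mem hq (Q.inv_mem hbQ), hD.idx q (hQT hq) b hbT hqX hbX⟩)
  have hcbX : c * b * c⁻¹ ∉ X := by
    have h1 := hC2 (c * c) hccodd hcc1
    intro h
    apply h1
    have e : (c * c) * a * (c * c)⁻¹ = c * b * c⁻¹ := by rw [hb]; group
    rw [e]; exact h
  have hcbQ : c * b * c⁻¹ ∈ Q := hQn.conj_mem b hbQ c
  have hw := (hQdesc _ hcbQ).resolve_left (fun h => hcbX (hzpQX h).2)
  have hsplit : c * b * c⁻¹ = (c * b * c⁻¹ * b⁻¹) * b := by group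
  rcases dq_zpowers_four haa hD.zz _ hw with h | h | h | h
  · exfalso
    have h1 : c * b * c⁻¹ = b := by rw [hsplit, h, one_mul]
    have h2 : b = a := by
      have h3 : c * b * c⁻¹ = c * a * c⁻¹ := h1.trans hb
      simpa using h3
    exact hbX (h2 ▸ haX)
  · have h1 : c * b * c⁻¹ = a * b := by rw [hsplit, h]
    exact dq_sl23_of_q8 Q hQn hCQ hQ2 z a c b hb hD.z1 hzc haQ haa hD.zz hba h1 hQdesc
      hcodd hc1
  · exfalso
    have h1 : c * b * c⁻¹ = z * b := by rw [hsplit, h]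
    have h2 : (c * c) * b * (c * c)⁻¹ = b := by
      calc (c * c) * b * (c * c)⁻¹ = c * (c * b * c⁻¹) * c⁻¹ := by group
        _ = c * (z * b) * c⁻¹ := by rw [h1]
        _ = (c * z * c⁻¹) * (c * b * c⁻¹) := by group
        _ = z * (z * b) := by rw [hzc, h1]
        _ = b := by rw [← mul_assoc, hD.zz, one_mul]
    have h3 : (c * c) * a * (c * c)⁻¹ = a := by
      have e1 : c * ((c * c) * a * (c * c)⁻¹) * c⁻¹ = (c * c) * b * (c * c)⁻¹ := by
        rw [hb]; group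
      have e2 : c * ((c * c) * a * (c * c)⁻¹) * c⁻¹ = c * a * c⁻¹ := by
        rw [e1, h2, hb]
      simpa using e2
    apply hcc1
    apply hC1 (c * c) hccodd
    intro q hq
    rcases hQdesc q hq with hq1 | hq1
    · obtain ⟨k, rfl⟩ := mem_zpowers_iff.mp hq1
      rw [← conj_zpow, h3]
    · obtain ⟨k, hk⟩ := mem_zpowers_iff.mp hq1
      have e : q = a ^ k * b := by rw [hk]; group
      rw [e]
      calc (c * c) * (a ^ k * b) * (c * c)⁻¹
          = ((c * c) * a * (c * c)⁻¹) ^ k * ((c * c) * b * (c * c)⁻¹) := by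
            rw [conj_zpow]; group
        _ = a ^ k * b := by rw [h3, h2]
  · have h1 : c * b * c⁻¹ = a⁻¹ * b := by rw [hsplit, h]
    have hb' : b⁻¹ = c * a⁻¹ * c⁻¹ := by rw [hb]; group
    have hbinv : b⁻¹ = z * b := by
      apply inv_eq_of_mul_eq_one_left
      rw [mul_assoc, hbb, hD.zz]
    have hzcomm : ∀ g : G, z * g = g * z := fun g => (mul_inv_eq_iff_eq_mul.mp (hzc g)).symm
    have hbaa : b * a = a⁻¹ * b := mul_inv_eq_iff_eq_mul.mp hba
    refine dq_sl23_of_q8 Q hQn hCQ hQ2 z a⁻¹ c b⁻¹ hb' hD.z1 hzc (Q.inv_mem haQ) ?_ hD.zz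
      ?_ ?_ ?_ hcodd hc1
    · have e1 : a⁻¹ * a⁻¹ = (a * a)⁻¹ := by group
      rw [e1, haa]
      exact inv_eq_of_mul_eq_one_left hD.zz
    · have e1 : b⁻¹ * a⁻¹ * b⁻¹⁻¹ = b⁻¹ * (b * a * b⁻¹) * b := by rw [hba]; group
      rw [e1]; group
    · have e1 : c * b⁻¹ * c⁻¹ = (c * b * c⁻¹)⁻¹ := by group
      rw [e1, h1]
      calc (a⁻¹ * b)⁻¹ = b⁻¹ * a := by group
        _ = z * (b * a) := by rw [hbinv, mul_assoc]
        _ = z * (a⁻¹ * b) := by rw [hbaa]
        _ = a⁻¹ * (z * b) := by rw [← mul_assoc, hzcomm, mul_assoc]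
        _ = a⁻¹ * b⁻¹ := by rw [hbinv]
    · intro q hq
      rw [zpowers_inv]
      rcases hQdesc q hq with h' | h'
      · exact Or.inl h'
      · right
        have e1 : q * b⁻¹⁻¹ = (q * b⁻¹) * (a * a) := by rw [haa, ← hbb]; group
        rw [e1]
        exact (zpowers a).mul_mem h' ((zpowers a).mul_mem (mem_zpowers a) (mem_zpowers a))

end Cfsg.Agent.Helper16
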