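import Cfsg.Agent.Helper16.PCore
import Mathlib.GroupTheory.SpecificGroups.Dihedral
import Mathlib.Tactic

set_option autoImplicit false

namespace Cfsg.Agent.Helper16

theorem conj_surj_of_centralizer_trivial {G : Type*} [Group G] (Q : Subgroup G) [hQn : Q.Normal]
    [Finite ↥Q] (w : G) (hw : ∀ q ∈ Q, q * w = w * q → q = 1) :
    ∀ q ∈ Q, ∃ u ∈ Q, q = u * w * u⁻¹ * w⁻¹ := by
  have hmem : ∀ u : ↥Q, (u : G) * w * (u : G)⁻¹ * w⁻¹ ∈ Q := by
    intro u
    have h1 : w * (u : G)⁻¹ * w⁻¹ ∈ Q := hQn.conj_mem _ (Q.inv_mem u.2) w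
    have e : (u : G) * w * (u : G)⁻¹ * w⁻¹ = (u : G) * (w * (u : G)⁻¹ * w⁻¹) := by group
    rw [e]; exact Q.mul_mem u.2 h1
  let f : ↥Q → ↥Q := fun u => ⟨(u : G) * w * (u : G)⁻¹ * w⁻¹, hmem u⟩
  have hinj : Function.Injective f := by
    intro u u' h
    have h1 : (u : G) * w * (u : G)⁻¹ * w⁻¹ = (u' : G) * w * (u' : G)⁻¹ * w⁻¹ :=
      congrArg Subtype.val h
    have h3 : (u : G) * w * (u : G)⁻¹ = (u' : G) * w * (u' : G)⁻¹ := mul_right_cancel h1
    have h2 : ((u' : G)⁻¹ * (u : G)) * w = w * ((u' : G)⁻¹ * (u : G)) := by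
      calc (u' : G)⁻¹ * (u : G) * w = (u' : G)⁻¹ * ((u : G) * w * (u : G)⁻¹) * (u : G) := by group
        _ = (u' : G)⁻¹ * ((u' : G) * w * (u' : G)⁻¹) * (u : G) := by rw [h3]
        _ = w * ((u' : G)⁻¹ * (u : G)) := by group
    have h4 := hw _ (Q.mul_mem (Q.inv_mem u'.2) u.2) h2
    apply Subtype.ext
    exact (inv_mul_eq_one.mp h4).symm
  have hsurj := Finite.surjective_of_injective hinj
  intro q hq
  obtain ⟨u, hu⟩ := hsurj ⟨q, hq⟩
  exact ⟨u, u.2, (congrArg Subtype.val hu).symm⟩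

theorem dihedral_quotient_main {G : Type*} [Group G] [Finite G] {r : ℕ} [Fact r.Prime]
    (hr : r ≠ 2) (Q : Subgroup G) [hQn : Q.Normal] (hQ2 : IsPGroup 2 ↥Q)
    (e : G ⧸ Q ≃* DihedralGroup r) (R : Sylow r G)
    (hC : Q ⊓ Subgroup.centralizer ((R : Subgroup G) : Set G) = ⊥) :
    Nonempty (↥(Subgroup.normalizer ((R : Subgroup G) : Set G)) ≃* DihedralGroup r) ∧
    ∀ a : G, a ∈ Subgroup.normalizer ((R : Subgroup G) : Set G) → orderOf a = 2 →
      (∀ b : G, orderOf b = 2 → b ∉ Q → ∃ g : G, g * a * g⁻¹ = b) ∧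
      Nat.card ↥(Q ⊓ Subgroup.centralizer ({a} : Set G)) ^ 2 = Nat.card ↥Q := by
  have hrp : r.Prime := Fact.out
  have hrodd : Odd r := hrp.odd_of_ne_two hr
  obtain ⟨m, hm⟩ := hrodd
  set ψ : G →* DihedralGroup r := e.toMonoidHom.comp (QuotientGroup.mk' Q) with hψ
  have hψsurj : Function.Surjective ψ := e.surjective.comp (QuotientGroup.mk'_surjective Q)
  have hψker : ∀ g : G, ψ g = 1 ↔ g ∈ Q := by
    intro g
    constructor
    · intro h
      have h1 : e ((QuotientGroup.mk' Q) g) = 1 := h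
      have h2 : (QuotientGroup.mk' Q) g = 1 := e.injective (by rw [h1, map_one])
      exact (QuotientGroup.eq_one_iff g).mp h2
    · intro h
      have h2 : (QuotientGroup.mk' Q) g = 1 := (QuotientGroup.eq_one_iff g).mpr h
      show e ((QuotientGroup.mk' Q) g) = 1
      rw [h2, map_one]
  have h2ne : (2 : ZMod r) ≠ 0 := by
    intro h
    have h1 : ((2 : ℕ) : ZMod r) = 0 := by exact_mod_cast h
    rw [ZMod.natCast_eq_zero_iff] at h1
    exact hr ((Nat.prime_dvd_prime_iff_eq hrp Nat.prime_two).mp h1)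
  have hinv : ∀ g : G, g * g = 1 → g ∉ Q → ∃ i, ψ g = DihedralGroup.sr i := by
    intro g hg hgQ
    rcases hψg : ψ g with k | k
    · exfalso
      have h1 : ψ g * ψ g = 1 := by rw [← map_mul, hg, map_one]
      rw [hψg, DihedralGroup.r_mul_r, DihedralGroup.one_def] at h1
      have h2 : k + k = 0 := DihedralGroup.r.inj h1
      have h3 : 2 * k = 0 := by rw [two_mul]; exact h2
      have h4 : k = 0 := by
        rcases mul_eq_zero.mp h3 with h | h
        · exact absurd h h2ne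
        · exact h
      rw [h4, DihedralGroup.r_zero] at hψg
      exact hgQ ((hψker g).mp hψg)
    · exact ⟨k, rfl⟩
  have hQR : ∀ g : G, g ∈ Q → g ∈ (R : Subgroup G) → g = 1 := by
    intro g h1 h2
    have hd : Disjoint Q (R : Subgroup G) :=
      IsPGroup.disjoint_of_ne 2 r (fun h => hr h.symm) Q (R : Subgroup G) hQ2 R.isPGroup'
    exact Subgroup.disjoint_def.mp hd h1 h2
  have hGcard : Nat.card G = 2 * r * Nat.card ↥Q := by
    rw [Subgroup.card_eq_card_quotient_mul_card_subgroup Q, Nat.card_congr e.toEquiv,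
      DihedralGroup.nat_card]
  obtain ⟨k, hk⟩ := IsPGroup.iff_card.mp hQ2
  have hRcard : Nat.card ↥(R : Subgroup G) = r := by
    rw [Sylow.card_eq_multiplicity, hGcard, hk]
    have h1 : (2 * r * 2 ^ k).factorization r = 1 := by
      rw [Nat.factorization_mul (Nat.mul_ne_zero two_ne_zero hrp.ne_zero) (pow_ne_zero _ two_ne_zero),
        Nat.factorization_mul two_ne_zero hrp.ne_zero, Nat.factorization_pow]
      simp [Nat.Prime.factorization_self hrp, Nat.prime_two.factorization, hr,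
        Finsupp.single_apply, Ne.symm hr]
    rw [h1, pow_one]
  have hRne : (R : Subgroup G) ≠ ⊥ := by
    intro h
    rw [h, Subgroup.card_bot] at hRcard
    exact hrp.one_lt.ne hRcard
  obtain ⟨⟨z, hzR⟩, hz1'⟩ := (Subgroup.ne_bot_iff_exists_ne_one).mp hRne
  have hz1 : z ≠ 1 := fun h => hz1' (Subtype.ext h)
  have hzord : orderOf z = r := by
    have h1 : orderOf z ∣ r := by
      have h0 := orderOf_dvd_natCard (⟨z, hzR⟩ : ↥(R : Subgroup G))
      rwa [Subgroup.orderOf_mk, hRcard] at h0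
    rcases (Nat.dvd_prime hrp).mp h1 with h | h
    · exact absurd (orderOf_eq_one_iff.mp h) hz1
    · exact h
  have hzpow : z ^ r = 1 := by rw [← hzord]; exact pow_orderOf_eq_one z
  have hzR' : Subgroup.zpowers z = (R : Subgroup G) := by
    apply Subgroup.eq_of_le_of_card_ge ((Subgroup.zpowers_le).mpr hzR)
    rw [Nat.card_zpowers, hzord, hRcard]
  have hcz : ∀ q ∈ Q, q * z = z * q → q = 1 := by
    intro q hq hqz
    have h1 : q ∈ Q ⊓ Subgroup.centralizer ((R : Subgroup G) : Set G) := by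
      refine Subgroup.mem_inf.mpr ⟨hq, ?_⟩
      rw [Subgroup.mem_centralizer_iff]
      intro y hy
      rw [SetLike.mem_coe, ← hzR', Subgroup.mem_zpowers_iff] at hy
      obtain ⟨j, rfl⟩ := hy
      exact (Commute.zpow_left (show Commute z q from hqz.symm) j).eq
    rw [hC] at h1
    exact Subgroup.mem_bot.mp h1
  have hzx : (z * z) ^ (m + 1) = z := by
    rw [← pow_two, ← pow_mul]
    have h1 : 2 * (m + 1) = r + 1 := by omega
    rw [h1, pow_succ, hzpow, one_mul]
  have hcx : ∀ q ∈ Q, q * (z * z) = (z * z) * q → q = 1 := by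
    intro q hq hqx
    apply hcz q hq
    have h1 : Commute q ((z * z) ^ (m + 1)) :=
      Commute.pow_right (show Commute q (z * z) from hqx) _
    rw [hzx] at h1
    exact h1.eq
  have hczinv : ∀ q ∈ Q, q * z⁻¹ = z⁻¹ * q → q = 1 := by
    intro q hq hqz
    apply hcz q hq
    exact (Commute.inv_right_iff.mp (show Commute q z⁻¹ from hqz)).eq
  have hnorm : ∀ g : G, g * z * g⁻¹ ∈ (R : Subgroup G) → g⁻¹ * z * g ∈ (R : Subgroup G) →
      g ∈ Subgroup.normalizer ((R : Subgroup G) : Set G) := by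
    intro g h1 h2
    rw [Subgroup.mem_normalizer_iff]
    intro y
    constructor
    · intro hy
      rw [← hzR', Subgroup.mem_zpowers_iff] at hy
      obtain ⟨j, rfl⟩ := hy
      rw [← conj_zpow]
      exact Subgroup.zpow_mem _ h1 j
    · intro hy
      have h3 : g * y * g⁻¹ ∈ Subgroup.zpowers z := by rw [hzR']; exact hy
      rw [Subgroup.mem_zpowers_iff] at h3
      obtain ⟨j, hj⟩ := h3
      have h4 : y = (g⁻¹ * z * g⁻¹⁻¹) ^ j := by
        rw [conj_zpow, hj]; group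
      rw [h4]
      apply Subgroup.zpow_mem
      rwa [inv_inv]
  have hDQ : ∀ g : G, g ∈ Subgroup.normalizer ((R : Subgroup G) : Set G) → g ∈ Q → g = 1 := by
    intro g hgD hgQ
    apply hcz g hgQ
    have h1 : g * z * g⁻¹ ∈ (R : Subgroup G) := (Subgroup.mem_normalizer_iff.mp hgD z).mp hzR
    have h2 : g * z * g⁻¹ * z⁻¹ ∈ (R : Subgroup G) :=
      Subgroup.mul_mem _ h1 (Subgroup.inv_mem _ hzR)
    have h3 : g * z * g⁻¹ * z⁻¹ ∈ Q := by
      have e1 : g * z * g⁻¹ * z⁻¹ = g * (z * g⁻¹ * z⁻¹) := by group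
      rw [e1]; exact Q.mul_mem hgQ (hQn.conj_mem _ (Q.inv_mem hgQ) z)
    have h4 := hQR _ h3 h2
    calc g * z = (g * z * g⁻¹ * z⁻¹) * (z * g) := by group
      _ = z * g := by rw [h4, one_mul]
  obtain ⟨j₀, hj₀⟩ : ∃ j, ψ z = DihedralGroup.r j := by
    rcases hψz : ψ z with k | k
    · exact ⟨k, rfl⟩
    · exfalso
      have h1 : ψ z ^ r = 1 := by rw [← map_pow, hzpow, map_one]
      rw [hψz] at h1
      have h2 : orderOf (DihedralGroup.sr k : DihedralGroup r) ∣ r := orderOf_dvd_of_pow_eq_one h1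
      rw [DihedralGroup.orderOf_sr] at h2
      exact hr ((Nat.prime_dvd_prime_iff_eq Nat.prime_two hrp).mp h2).symm
  have hdecomp : ∀ g : G, ∃ u ∈ Q, u⁻¹ * g ∈ Subgroup.normalizer ((R : Subgroup G) : Set G) := by
    intro g
    rcases hψg : ψ g with k | k
    · have h1 : g * z * g⁻¹ * z⁻¹ ∈ Q := by
        rw [← hψker]
        simp only [map_mul, map_inv, hψg, hj₀, DihedralGroup.inv_r, DihedralGroup.r_mul_r,
          DihedralGroup.one_def]
        congr 1
        ring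
      obtain ⟨u, hu, hue⟩ := conj_surj_of_centralizer_trivial Q z hcz _ h1
      have h2 : g * z * g⁻¹ = u * z * u⁻¹ := mul_right_cancel hue
      refine ⟨u, hu, hnorm _ ?_ ?_⟩
      · have h3 : u⁻¹ * g * z * (u⁻¹ * g)⁻¹ = z := by
          calc u⁻¹ * g * z * (u⁻¹ * g)⁻¹ = u⁻¹ * (g * z * g⁻¹) * u := by group
            _ = z := by rw [h2]; group
        rw [h3]; exact hzR
      · have h3 : (u⁻¹ * g)⁻¹ * z * (u⁻¹ * g) = z := by
          calc (u⁻¹ * g)⁻¹ * z * (u⁻¹ * g) = g⁻¹ * (u * z * u⁻¹) * g := by group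
            _ = z := by rw [← h2]; group
        rw [h3]; exact hzR
    · have h1 : g * z * g⁻¹ * z⁻¹⁻¹ ∈ Q := by
        rw [← hψker]
        simp only [map_mul, map_inv, hψg, hj₀, DihedralGroup.inv_r, DihedralGroup.inv_sr,
          DihedralGroup.sr_mul_r, DihedralGroup.sr_mul_sr, DihedralGroup.r_mul_r,
          DihedralGroup.one_def, inv_inv]
        congr 1
        ring
      obtain ⟨u, hu, hue⟩ := conj_surj_of_centralizer_trivial Q z⁻¹ hczinv _ h1
      have h2 : g * z * g⁻¹ = u * z⁻¹ * u⁻¹ := mul_right_cancel hue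
      have h2' : g * z⁻¹ * g⁻¹ = u * z * u⁻¹ := by
        calc g * z⁻¹ * g⁻¹ = (g * z * g⁻¹)⁻¹ := by group
          _ = u * z * u⁻¹ := by rw [h2]; group
      refine ⟨u, hu, hnorm _ ?_ ?_⟩
      · have h3 : u⁻¹ * g * z * (u⁻¹ * g)⁻¹ = z⁻¹ := by
          calc u⁻¹ * g * z * (u⁻¹ * g)⁻¹ = u⁻¹ * (g * z * g⁻¹) * u := by group
            _ = z⁻¹ := by rw [h2]; group
        rw [h3]; exact Subgroup.inv_mem _ hzR
      · have h3 : (u⁻¹ * g)⁻¹ * z * (u⁻¹ * g) = z⁻¹ := by
          calc (u⁻¹ * g)⁻¹ * z * (u⁻¹ * g) = g⁻¹ * (u * z * u⁻¹) * g := by group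
            _ = z⁻¹ := by rw [← h2']; group
        rw [h3]; exact Subgroup.inv_mem _ hzR
  have hiso : Nonempty (↥(Subgroup.normalizer ((R : Subgroup G) : Set G)) ≃* DihedralGroup r) := by
    refine ⟨MulEquiv.ofBijective
      (ψ.comp (Subgroup.normalizer ((R : Subgroup G) : Set G)).subtype) ⟨?_, ?_⟩⟩
    · rw [injective_iff_map_eq_one]
      intro d hd
      have h1 : ψ (d : G) = 1 := hd
      exact Subtype.ext (hDQ _ d.2 ((hψker _).mp h1))
    · intro y
      obtain ⟨g, rfl⟩ := hψsurj y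
      obtain ⟨u, hu, hug⟩ := hdecomp g
      refine ⟨⟨u⁻¹ * g, hug⟩, ?_⟩
      show ψ (u⁻¹ * g) = ψ g
      rw [map_mul, map_inv, (hψker u).mpr hu, inv_one, one_mul]
  refine ⟨hiso, ?_⟩
  intro a haD ha2
  have haa : a * a = 1 := by rw [← pow_two, ← ha2]; exact pow_orderOf_eq_one a
  have ha1 : a ≠ 1 := by
    intro h
    rw [h, orderOf_one] at ha2
    exact absurd ha2 (by norm_num)
  have haQ : a ∉ Q := fun h => ha1 (hDQ a haD h)
  obtain ⟨i, hi⟩ := hinv a haa haQ
  have haz : a * z * a⁻¹ = z⁻¹ := by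
    have h1 : a * z * a⁻¹ ∈ (R : Subgroup G) := (Subgroup.mem_normalizer_iff.mp haD z).mp hzR
    have h2 : a * z * a⁻¹ * z ∈ Q := by
      rw [← hψker]
      simp only [map_mul, map_inv, hi, hj₀, DihedralGroup.inv_sr, DihedralGroup.sr_mul_r,
        DihedralGroup.sr_mul_sr, DihedralGroup.r_mul_r, DihedralGroup.one_def]
      congr 1
      ring
    have h3 := hQR _ h2 (Subgroup.mul_mem _ h1 hzR)
    exact eq_inv_of_mul_eq_one_left h3
  -- the second involution
  have F1 : (a * (z * z)) * (a * (z * z)) = 1 := by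
    calc (a * (z * z)) * (a * (z * z))
        = (a * z * a⁻¹) * (a * z * a⁻¹) * (a * a) * (z * z) := by group
      _ = 1 := by rw [haz, haa]; group
  have F2 : (z * z)⁻¹ * a = a * (z * z) := by
    calc (z * z)⁻¹ * a = z⁻¹ * z⁻¹ * a := by group
      _ = (a * z * a⁻¹) * (a * z * a⁻¹) * a := by rw [haz]
      _ = a * (z * z) := by group
  have F3 : (a * (z * z)) * (z * z) = (z * z)⁻¹ * (a * (z * z)) := by
    calc (a * (z * z)) * (z * z) = (a * z * a⁻¹) * (a * z * a⁻¹) * a * (z * z) := by group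
      _ = z⁻¹ * z⁻¹ * a * (z * z) := by rw [haz]
      _ = (z * z)⁻¹ * (a * (z * z)) := by group
  have F4 : (z * z) * (a * (z * z)) = a := by
    calc (z * z) * (a * (z * z)) = z * z * ((a * z * a⁻¹) * (a * z * a⁻¹) * a) := by group
      _ = a := by rw [haz]; group
  have F5 : z * (a * (z * z)) * z⁻¹ = a := by
    calc z * (a * (z * z)) * z⁻¹ = z * ((a * z * a⁻¹) * a) := by group
      _ = a := by rw [haz]; group
  have F6 : (a * (z * z))⁻¹ = a * (z * z) := inv_eq_of_mul_eq_one_left F1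
  have lemA : ∀ q ∈ Q, (q * a) * (q * a) = 1 →
      ∃ u ∈ Q, u * (a * (z * z)) = (a * (z * z)) * u ∧ q * a = u * a * u⁻¹ := by
    intro q hq hqa
    obtain ⟨u, hu, hue⟩ := conj_surj_of_centralizer_trivial Q (z * z) hcx q hq
    have h1 : q * a = u * (z * z) * u⁻¹ * (a * (z * z)) := by
      rw [hue, ← F2]; group
    have hss : (u⁻¹ * (a * (z * z)) * u) * (u⁻¹ * (a * (z * z)) * u) = 1 := by
      calc (u⁻¹ * (a * (z * z)) * u) * (u⁻¹ * (a * (z * z)) * u)
          = u⁻¹ * ((a * (z * z)) * (a * (z * z))) * u := by group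
        _ = 1 := by rw [F1]; group
    have hsinv : (u⁻¹ * (a * (z * z)) * u)⁻¹ = u⁻¹ * (a * (z * z)) * u :=
      inv_eq_of_mul_eq_one_left hss
    have hxs : (z * z) * (u⁻¹ * (a * (z * z)) * u) * (z * z) * (u⁻¹ * (a * (z * z)) * u) = 1 := by
      calc (z * z) * (u⁻¹ * (a * (z * z)) * u) * (z * z) * (u⁻¹ * (a * (z * z)) * u)
          = u⁻¹ * ((u * (z * z) * u⁻¹ * (a * (z * z))) * (u * (z * z) * u⁻¹ * (a * (z * z)))) * u := by
            group
        _ = 1 := by rw [← h1, hqa]; group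
    have hsx : SemiconjBy (u⁻¹ * (a * (z * z)) * u) (z * z) (z * z)⁻¹ := by
      show (u⁻¹ * (a * (z * z)) * u) * (z * z) = (z * z)⁻¹ * (u⁻¹ * (a * (z * z)) * u)
      calc (u⁻¹ * (a * (z * z)) * u) * (z * z)
          = (z * z)⁻¹ * ((z * z) * (u⁻¹ * (a * (z * z)) * u) * (z * z) *
              (u⁻¹ * (a * (z * z)) * u)) * (u⁻¹ * (a * (z * z)) * u)⁻¹ := by group
        _ = (z * z)⁻¹ * (u⁻¹ * (a * (z * z)) * u)⁻¹ := by rw [hxs]; group
        _ = (z * z)⁻¹ * (u⁻¹ * (a * (z * z)) * u) := by rw [hsinv]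
    have hsx' : SemiconjBy (u⁻¹ * (a * (z * z)) * u) (z * z)⁻¹ (z * z) := by
      have := hsx.inv_right
      rwa [inv_inv] at this
    have htx : SemiconjBy (a * (z * z)) (z * z) (z * z)⁻¹ := F3
    have hw : SemiconjBy ((u⁻¹ * (a * (z * z)) * u) * (a * (z * z))) (z * z) (z * z) :=
      hsx'.mul_left htx
    have hwQ : (u⁻¹ * (a * (z * z)) * u) * (a * (z * z)) ∈ Q := by
      have e1 : (u⁻¹ * (a * (z * z)) * u) * (a * (z * z)) =
          u⁻¹ * ((a * (z * z)) * u * (a * (z * z))⁻¹) := by rw [F6]; group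
      rw [e1]
      exact Q.mul_mem (Q.inv_mem hu) (hQn.conj_mem _ hu _)
    have h5 := hcx _ hwQ hw.eq
    have h6 : u⁻¹ * (a * (z * z)) * u = a * (z * z) := by
      have := eq_inv_of_mul_eq_one_left h5
      rwa [F6] at this
    have h7 : u * (a * (z * z)) = (a * (z * z)) * u := by
      calc u * (a * (z * z)) = u * (u⁻¹ * (a * (z * z)) * u) := by rw [h6]
        _ = (a * (z * z)) * u := by group
    refine ⟨u, hu, h7, ?_⟩
    calc q * a = u * (z * z) * u⁻¹ * (a * (z * z)) := h1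
      _ = u * (z * z) * (u⁻¹ * (a * (z * z)) * u) * u⁻¹ := by group
      _ = u * ((z * z) * (a * (z * z))) * u⁻¹ := by rw [h6]; group
      _ = u * a * u⁻¹ := by rw [F4]
  constructor
  · intro b hb2 hbQ
    have hbb : b * b = 1 := by rw [← pow_two, ← hb2]; exact pow_orderOf_eq_one b
    obtain ⟨j, hj⟩ := hinv b hbb hbQ
    obtain ⟨g₀, hg₀⟩ := hψsurj (DihedralGroup.r ((j - i) * 2⁻¹))
    have hq : g₀ * b * g₀⁻¹ * a⁻¹ ∈ Q := by
      rw [← hψker]
      simp only [map_mul, map_inv, hg₀, hj, hi, DihedralGroup.inv_r, DihedralGroup.inv_sr,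
        DihedralGroup.r_mul_sr, DihedralGroup.sr_mul_r, DihedralGroup.sr_mul_sr,
        DihedralGroup.one_def]
      congr 1
      field_simp
      ring
    have hqa : (g₀ * b * g₀⁻¹ * a⁻¹) * a = g₀ * b * g₀⁻¹ := by group
    have hqq : (g₀ * b * g₀⁻¹ * a⁻¹ * a) * (g₀ * b * g₀⁻¹ * a⁻¹ * a) = 1 := by
      rw [hqa]
      calc g₀ * b * g₀⁻¹ * (g₀ * b * g₀⁻¹) = g₀ * (b * b) * g₀⁻¹ := by group
        _ = 1 := by rw [hbb]; group
    obtain ⟨u, hu, -, hue⟩ := lemA _ hq hqq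
    rw [hqa] at hue
    refine ⟨g₀⁻¹ * u, ?_⟩
    calc g₀⁻¹ * u * a * (g₀⁻¹ * u)⁻¹ = g₀⁻¹ * (u * a * u⁻¹) * g₀ := by group
      _ = b := by rw [← hue]; group
  · have hbij : Function.Bijective
        (fun p : ↥(Q ⊓ Subgroup.centralizer ({a * (z * z)} : Set G)) ×
          ↥(Q ⊓ Subgroup.centralizer ({a} : Set G)) =>
          (⟨(p.1 : G) * (p.2 : G), Q.mul_mem p.1.2.1 p.2.2.1⟩ : ↥Q)) := by
      constructor
      · rintro ⟨⟨u, hu⟩, ⟨c, hc⟩⟩ ⟨⟨u₁, hu₁⟩, ⟨c₁, hc₁⟩⟩ h
        have h0 : u * c = u₁ * c₁ := congrArg Subtype.val h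
        have hw1 : u₁⁻¹ * u = c₁ * c⁻¹ := by
          calc u₁⁻¹ * u = u₁⁻¹ * (u * c) * c⁻¹ := by group
            _ = c₁ * c⁻¹ := by rw [h0]; group
        have hwQ : u₁⁻¹ * u ∈ Q := Q.mul_mem (Q.inv_mem hu₁.1) hu.1
        have hwa' : u₁⁻¹ * u ∈ Subgroup.centralizer ({a * (z * z)} : Set G) :=
          Subgroup.mul_mem _ (Subgroup.inv_mem _ hu₁.2) hu.2
        have hwa : u₁⁻¹ * u ∈ Subgroup.centralizer ({a} : Set G) := by
          rw [hw1]; exact Subgroup.mul_mem _ hc₁.2 (Subgroup.inv_mem _ hc.2)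
        have e1 := Subgroup.mem_centralizer_singleton_iff.mp hwa'
        have e2 := Subgroup.mem_centralizer_singleton_iff.mp hwa
        have hx : z * z = a * (a * (z * z)) := by
          calc z * z = (a * a) * (z * z) := by rw [haa, one_mul]
            _ = a * (a * (z * z)) := by group
        have hwx : (u₁⁻¹ * u) * (z * z) = (z * z) * (u₁⁻¹ * u) := by
          calc (u₁⁻¹ * u) * (z * z) = (u₁⁻¹ * u) * (a * (a * (z * z))) := by rw [← hx]
            _ = ((u₁⁻¹ * u) * a) * (a * (z * z)) := by group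
            _ = (a * (u₁⁻¹ * u)) * (a * (z * z)) := by rw [e2]
            _ = a * ((u₁⁻¹ * u) * (a * (z * z))) := by group
            _ = a * ((a * (z * z)) * (u₁⁻¹ * u)) := by rw [e1]
            _ = (a * (a * (z * z))) * (u₁⁻¹ * u) := by group
            _ = (z * z) * (u₁⁻¹ * u) := by rw [← hx]
        have hw := hcx _ hwQ hwx
        have hu_eq : u₁ = u := inv_mul_eq_one.mp hw
        subst hu_eq
        have hc_eq : c = c₁ := mul_left_cancel h0
        subst hc_eq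
        rfl
      · rintro ⟨v, hv⟩
        have hq : v * a * v⁻¹ * a⁻¹ ∈ Q := by
          have e1 : v * a * v⁻¹ * a⁻¹ = v * (a * v⁻¹ * a⁻¹) := by group
          rw [e1]; exact Q.mul_mem hv (hQn.conj_mem _ (Q.inv_mem hv) a)
        have hqa : (v * a * v⁻¹ * a⁻¹) * a = v * a * v⁻¹ := by group
        have hqq : (v * a * v⁻¹ * a⁻¹ * a) * (v * a * v⁻¹ * a⁻¹ * a) = 1 := by
          rw [hqa]
          calc v * a * v⁻¹ * (v * a * v⁻¹) = v * (a * a) * v⁻¹ := by group
            _ = 1 := by rw [haa]; group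
        obtain ⟨u, hu, hua', hue⟩ := lemA _ hq hqq
        rw [hqa] at hue
        refine ⟨(⟨u, hu, Subgroup.mem_centralizer_singleton_iff.mpr hua'⟩,
          ⟨u⁻¹ * v, Q.mul_mem (Q.inv_mem hu) hv, Subgroup.mem_centralizer_singleton_iff.mpr ?_⟩), ?_⟩
        · calc u⁻¹ * v * a = u⁻¹ * (v * a * v⁻¹) * v := by group
            _ = u⁻¹ * (u * a * u⁻¹) * v := by rw [hue]
            _ = a * (u⁻¹ * v) := by group
        · apply Subtype.ext
          show u * (u⁻¹ * v) = v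
          group
    have hcard1 : Nat.card ↥Q = Nat.card ↥(Q ⊓ Subgroup.centralizer ({a * (z * z)} : Set G)) *
        Nat.card ↥(Q ⊓ Subgroup.centralizer ({a} : Set G)) := by
      rw [← Nat.card_prod]; exact (Nat.card_congr (Equiv.ofBijective _ hbij)).symm
    have hcard2 : Nat.card ↥(Q ⊓ Subgroup.centralizer ({a * (z * z)} : Set G)) =
        Nat.card ↥(Q ⊓ Subgroup.centralizer ({a} : Set G)) := by
      apply Nat.card_congr
      refine ⟨fun c => ⟨z * (c : G) * z⁻¹, hQn.conj_mem _ c.2.1 z,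
          Subgroup.mem_centralizer_singleton_iff.mpr ?_⟩,
        fun c => ⟨z⁻¹ * (c : G) * z, ?_, Subgroup.mem_centralizer_singleton_iff.mpr ?_⟩, ?_, ?_⟩
      · have e1 := Subgroup.mem_centralizer_singleton_iff.mp c.2.2
        calc z * (c : G) * z⁻¹ * a = z * (c : G) * z⁻¹ * (z * (a * (z * z)) * z⁻¹) := by rw [F5]
          _ = z * ((c : G) * (a * (z * z))) * z⁻¹ := by group
          _ = z * ((a * (z * z)) * (c : G)) * z⁻¹ := by rw [e1]
          _ = (z * (a * (z * z)) * z⁻¹) * (z * (c : G) * z⁻¹) := by group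
          _ = a * (z * (c : G) * z⁻¹) := by rw [F5]
      · have := hQn.conj_mem _ c.2.1 z⁻¹
        rwa [inv_inv] at this
      · have e1 := Subgroup.mem_centralizer_singleton_iff.mp c.2.2
        have F5' : a * (z * z) = z⁻¹ * a * z := by
          calc a * (z * z) = z⁻¹ * (z * (a * (z * z)) * z⁻¹) * z := by group
            _ = z⁻¹ * a * z := by rw [F5]
        calc z⁻¹ * (c : G) * z * (a * (z * z)) = z⁻¹ * (c : G) * z * (z⁻¹ * a * z) := by rw [F5']
          _ = z⁻¹ * ((c : G) * a) * z := by group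
          _ = z⁻¹ * (a * (c : G)) * z := by rw [e1]
          _ = (z⁻¹ * a * z) * (z⁻¹ * (c : G) * z) := by group
          _ = a * (z * z) * (z⁻¹ * (c : G) * z) := by rw [F5']
      · intro c
        apply Subtype.ext
        show z⁻¹ * (z * (c : G) * z⁻¹) * z = c
        group
      · intro c
        apply Subtype.ext
        show z * (z⁻¹ * (c : G) * z) * z⁻¹ = c
        group
    rw [hcard1, hcard2, pow_two]

end Cfsg.Agent.Helper16
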