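import Cfsg.Agent.Helper16.FrakH3
import Cfsg.Agent.Helper16.SylowNormal
import Cfsg.Agent.Helper9.FStar

set_option autoImplicit false

namespace Cfsg.Agent.Helper16

open Cfsg
open Cfsg.Agent.Helper17 (mem_map_conj map_conj_map_conj map_conj_one
  map_conj_eq_of_mem_normalizer sylow_smul_coe exists_normalizer_mem_not_mem
  exists_conj_le_sylow conj_mem_map_conj pc CharPA charPA_iff charPA_of_normal le_pc
  charPA_of_pc_le pc_le_pc_of_normal isPGroup_mem_pow le_normalizer_of_conj_mem)

section Quot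

variable {K : Type*} [Group K] {p : ℕ}

/-- A normal subgroup which is a `p`-group modulo `N` lies in `(P ∩ D) N` for a Sylow `P`. -/
theorem normal_le_sylow_inf_sup [Fact p.Prime] [Finite K] (P : Sylow p K) (D N : Subgroup K)
    [hD : D.Normal] [hN : N.Normal] (h : ∀ x ∈ D, ∃ k : ℕ, x ^ (p ^ k) ∈ N) :
    D ≤ ((P : Subgroup K) ⊓ D) ⊔ N := by
  obtain ⟨Q, hQ⟩ := sylow_subgroupOf_normal P D
  intro x hx
  have hpow : ∀ y : ↥D, ∃ k : ℕ, y ^ (p ^ k) ∈ N.subgroupOf D := by
    intro y
    obtain ⟨k, hk⟩ := h y y.2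
    exact ⟨k, by rw [Subgroup.mem_subgroupOf]; simpa using hk⟩
  obtain ⟨s, hs, n, hn, e⟩ := exists_mul_of_pow_mem Q (N.subgroupOf D) hpow ⟨x, hx⟩
  have hs' : (s : K) ∈ (P : Subgroup K) ⊓ D := by
    rw [hQ] at hs
    exact Subgroup.mem_inf.mpr ⟨Subgroup.mem_subgroupOf.mp hs, s.2⟩
  have hn' : (n : K) ∈ N := Subgroup.mem_subgroupOf.mp hn
  have e' : x = (s : K) * (n : K) := by
    have h1 := congrArg Subtype.val e
    simpa using h1
  rw [e']
  exact mul_mem (Subgroup.mem_sup_left hs') (Subgroup.mem_sup_right hn')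

theorem pCore_quotient_eq_bot_congr {N₁ N₂ : Subgroup K} (h : N₁ = N₂) [hn₁ : N₁.Normal]
    [hn₂ : N₂.Normal] (hO : pCore p (K ⧸ N₁) = ⊥) : pCore p (K ⧸ N₂) = ⊥ := by
  subst h; exact hO

variable [Finite K] [Fact p.Prime] (C' : Subgroup K) [hC : C'.Normal]

theorem genFitting_quot_normal_pgroup (hO : pCore p (K ⧸ C') = ⊥) {E' : Subgroup K}
    (hEF : E' ≤ (generalizedFittingSubgroup (K ⧸ C')).comap (QuotientGroup.mk' C'))
    (hFE : (generalizedFittingSubgroup (K ⧸ C')).comap (QuotientGroup.mk' C') ≤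
      Subgroup.normalizer (E' : Set K))
    (hE : ∀ e ∈ E', ∃ k : ℕ, e ^ (p ^ k) ∈ C') : E' ≤ C' := by
  have hFn : (generalizedFittingSubgroup (K ⧸ C')).Normal := Helper9.genFitting_normal
  have hp : IsPGroup p (E'.map (QuotientGroup.mk' C')) := by
    rintro ⟨_, e, he, rfl⟩
    obtain ⟨k, hk⟩ := hE e he
    refine ⟨k, Subtype.ext ?_⟩
    simp only [SubmonoidClass.coe_pow, Subgroup.coe_one]
    rw [← map_pow]
    exact (QuotientGroup.eq_one_iff _).mpr hk
  have hle : E'.map (QuotientGroup.mk' C') ≤ generalizedFittingSubgroup (K ⧸ C') := by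
    rw [Subgroup.map_le_iff_le_comap]; exact hEF
  have hnorm : generalizedFittingSubgroup (K ⧸ C') ≤ Subgroup.normalizer
      ((E'.map (QuotientGroup.mk' C') : Subgroup (K ⧸ C')) : Set (K ⧸ C')) := by
    intro f hf
    obtain ⟨f', rfl⟩ := QuotientGroup.mk'_surjective C' f
    exact Subgroup.le_normalizer_map _ ⟨f', hFE hf, rfl⟩
  have hsn : (E'.map (QuotientGroup.mk' C')).IsSubnormal :=
    Subgroup.IsSubnormal.step _ _ hle hFn.isSubnormal
      ((Subgroup.normal_subgroupOf_iff_le_normalizer hle).mpr hnorm)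
  have hbot := isSubnormal_pgroup_le_pCore hsn hp
  rw [hO] at hbot
  intro e he
  have h1 : QuotientGroup.mk' C' e ∈ (⊥ : Subgroup (K ⧸ C')) := hbot ⟨e, he, rfl⟩
  exact (QuotientGroup.eq_one_iff e).mp (Subgroup.mem_bot.mp h1)

theorem genFitting_quot_centralizing_pgroup (hO : pCore p (K ⧸ C') = ⊥) {T' : Subgroup K}
    (hT : IsPGroup p T')
    (hTF : ∀ t ∈ T', ∀ f ∈ (generalizedFittingSubgroup (K ⧸ C')).comap (QuotientGroup.mk' C'),
      t * f * t⁻¹ * f⁻¹ ∈ C') : T' ≤ C' := by
  have hFn : (generalizedFittingSubgroup (K ⧸ C')).Normal := Helper9.genFitting_normal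
  have hp : IsPGroup p (T'.map (QuotientGroup.mk' C')) := hT.map _
  have hcen : T'.map (QuotientGroup.mk' C') ≤
      Subgroup.centralizer (generalizedFittingSubgroup (K ⧸ C') : Set (K ⧸ C')) := by
    rintro _ ⟨t, ht, rfl⟩
    rw [Subgroup.mem_centralizer_iff]
    intro f hf
    obtain ⟨f', rfl⟩ := QuotientGroup.mk'_surjective C' f
    have h1 := hTF t ht f' hf
    have h2 : QuotientGroup.mk' C' (t * f' * t⁻¹ * f'⁻¹) = 1 :=
      (QuotientGroup.eq_one_iff _).mpr h1
    rw [map_mul, map_mul, map_mul, map_inv, map_inv] at h2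
    calc (QuotientGroup.mk' C') f' * (QuotientGroup.mk' C') t
        = ((QuotientGroup.mk' C') t * (QuotientGroup.mk' C') f' * ((QuotientGroup.mk' C') t)⁻¹ *
            ((QuotientGroup.mk' C') f')⁻¹)⁻¹ *
            ((QuotientGroup.mk' C') t * (QuotientGroup.mk' C') f') := by group
      _ = (QuotientGroup.mk' C') t * (QuotientGroup.mk' C') f' := by rw [h2, inv_one, one_mul]
  have hle := hcen.trans Helper9.centralizer_genFitting_le
  have hnorm : generalizedFittingSubgroup (K ⧸ C') ≤ Subgroup.normalizer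
      ((T'.map (QuotientGroup.mk' C') : Subgroup (K ⧸ C')) : Set (K ⧸ C')) := by
    have h1 : generalizedFittingSubgroup (K ⧸ C') ≤ Subgroup.centralizer
        ((T'.map (QuotientGroup.mk' C') : Subgroup (K ⧸ C')) : Set (K ⧸ C')) :=
      Subgroup.le_centralizer_iff.mp hcen
    exact h1.trans (Subgroup.centralizer_le_normalizer _)
  have hsn : (T'.map (QuotientGroup.mk' C')).IsSubnormal :=
    Subgroup.IsSubnormal.step _ _ hle hFn.isSubnormal
      ((Subgroup.normal_subgroupOf_iff_le_normalizer hle).mpr hnorm)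
  have hbot := isSubnormal_pgroup_le_pCore hsn hp
  rw [hO] at hbot
  intro t ht
  have h1 : QuotientGroup.mk' C' t ∈ (⊥ : Subgroup (K ⧸ C')) := hbot ⟨t, ht, rfl⟩
  exact (QuotientGroup.eq_one_iff t).mp (Subgroup.mem_bot.mp h1)

end Quot

section Main

variable {G : Type*} [Group G] {p : ℕ}

/-- Abstract form: `Y ≤ Y_H` for `H` of characteristic `p` containing the preimage `F` of
`F*(Md / C_G(Y))`, given that the `p`-subgroups containing `R₀` lie in `Md`. -/
theorem genFitting_largest_le [Fact p.Prime] [Finite G] {Y Md H F R₀ : Subgroup G}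
    (hYel : IsElementaryAbelian p Y)
    (hCMd : Subgroup.centralizer (Y : Set G) ≤ Md)
    (hMdN : Md ≤ Subgroup.normalizer (Y : Set G))
    [hn : ((Subgroup.centralizer (Y : Set G)).subgroupOf Md).Normal]
    (hO : pCore p (↥Md ⧸ (Subgroup.centralizer (Y : Set G)).subgroupOf Md) = ⊥)
    (hF : F = ((generalizedFittingSubgroup
      (↥Md ⧸ (Subgroup.centralizer (Y : Set G)).subgroupOf Md)).comap
      (QuotientGroup.mk' ((Subgroup.centralizer (Y : Set G)).subgroupOf Md))).map Md.subtype)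
    (hFH : F ≤ H) (hH : Subgroup.centralizer (pCore p ↥H : Set ↥H) ≤ pCore p ↥H)
    (hR₀p : IsPGroup p R₀) (hR₀C : R₀ ≤ Subgroup.centralizer (Y : Set G))
    (hSyl : ∀ T : Subgroup G, IsPGroup p T → R₀ ≤ T → T ≤ Md) :
    Y ≤ largestPReducedOf p H := by
  obtain ⟨hYc, hYe⟩ := isElementaryAbelian_iff.mp hYel
  have hFMd : F ≤ Md := by rw [hF]; exact Subgroup.map_subtype_le _
  have hF' : F.subgroupOf Md = (generalizedFittingSubgroup
      (↥Md ⧸ (Subgroup.centralizer (Y : Set G)).subgroupOf Md)).comap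
      (QuotientGroup.mk' ((Subgroup.centralizer (Y : Set G)).subgroupOf Md)) := by
    rw [hF]; exact map_subtype_subgroupOf _
  have hCF : Subgroup.centralizer (Y : Set G) ≤ F := by
    intro c hc
    rw [hF]
    refine ⟨⟨c, hCMd hc⟩, ?_, rfl⟩
    rw [SetLike.mem_coe, Subgroup.mem_comap]
    have h1 : QuotientGroup.mk' ((Subgroup.centralizer (Y : Set G)).subgroupOf Md)
        ⟨c, hCMd hc⟩ = 1 :=
      (QuotientGroup.eq_one_iff _).mpr (Subgroup.mem_subgroupOf.mpr hc)
    rw [h1]; exact one_mem _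
  have hYC : Y ≤ Subgroup.centralizer (Y : Set G) :=
    fun y hy => Subgroup.mem_centralizer_iff.mpr (fun z hz => hYc z hz y hy)
  have hYH : Y ≤ H := (hYC.trans hCF).trans hFH
  have hMdF : Md ≤ Subgroup.normalizer (F : Set G) := by
    apply le_normalizer_of_conj_mem
    intro m hm f hf
    rw [hF] at hf ⊢
    obtain ⟨f', hf', rfl⟩ := hf
    refine ⟨⟨m, hm⟩ * f' * ⟨m, hm⟩⁻¹, ?_, rfl⟩
    rw [SetLike.mem_coe, Subgroup.mem_comap] at hf' ⊢
    rw [map_mul, map_mul, map_inv]
    exact Helper9.genFitting_normal.conj_mem _ hf' _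
  have KL1 : ∀ E : Subgroup G, E ≤ F → F ≤ Subgroup.normalizer (E : Set G) →
      (∀ e ∈ E, ∃ k : ℕ, e ^ (p ^ k) ∈ Subgroup.centralizer (Y : Set G)) →
      E ≤ Subgroup.centralizer (Y : Set G) := by
    intro E hEF hFE hE
    have h1 := genFitting_quot_normal_pgroup
      (C' := (Subgroup.centralizer (Y : Set G)).subgroupOf Md) hO (E' := E.subgroupOf Md)
      (by rw [← hF']; exact Subgroup.comap_mono hEF)
      (by
        rw [← hF']
        intro f hf
        have h2 : (f : G) ∈ Subgroup.normalizer (E : Set G) :=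
          hFE (Subgroup.mem_subgroupOf.mp hf)
        rw [Subgroup.mem_normalizer_iff]
        intro h
        simp only [Subgroup.mem_subgroupOf]
        exact Subgroup.mem_normalizer_iff.mp h2 (h : G))
      (by
        intro e he
        obtain ⟨k, hk⟩ := hE (e : G) (Subgroup.mem_subgroupOf.mp he)
        exact ⟨k, by rw [Subgroup.mem_subgroupOf]; simpa using hk⟩)
    intro e he
    exact Subgroup.mem_subgroupOf.mp (h1 (Subgroup.mem_subgroupOf.mpr
      (show ((⟨e, hFMd (hEF he)⟩ : ↥Md) : G) ∈ E from he)))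
  have KL2 : ∀ T : Subgroup G, T ≤ Md → IsPGroup p T →
      (∀ t ∈ T, ∀ f ∈ F, t * f * t⁻¹ * f⁻¹ ∈ Subgroup.centralizer (Y : Set G)) →
      T ≤ Subgroup.centralizer (Y : Set G) := by
    intro T hTMd hTp hTF
    have h1 := genFitting_quot_centralizing_pgroup
      (C' := (Subgroup.centralizer (Y : Set G)).subgroupOf Md) hO (T' := T.subgroupOf Md)
      hTp.comap_subtype
      (by
        intro t ht f hf
        rw [← hF'] at hf
        rw [Subgroup.mem_subgroupOf]
        simpa using hTF (t : G) (Subgroup.mem_subgroupOf.mp ht) (f : G)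
          (Subgroup.mem_subgroupOf.mp hf))
    intro t ht
    exact Subgroup.mem_subgroupOf.mp (h1 (Subgroup.mem_subgroupOf.mpr
      (show ((⟨t, hTMd ht⟩ : ↥Md) : G) ∈ T from ht)))
  have KL : ∀ T D : Subgroup G, T ≤ Md → IsPGroup p T → T ≤ D →
      F ≤ Subgroup.normalizer (D : Set G) →
      (∀ e ∈ D, ∃ k : ℕ, e ^ (p ^ k) ∈ Subgroup.centralizer (Y : Set G)) →
      T ≤ Subgroup.centralizer (Y : Set G) := by
    intro T D hTMd hTp hTD hFD hD
    have hE : D ⊓ F ≤ Subgroup.centralizer (Y : Set G) :=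
      KL1 (D ⊓ F) inf_le_right (le_normalizer_inf' hFD Subgroup.le_normalizer)
        (fun e he => hD e he.1)
    apply KL2 T hTMd hTp
    intro t ht f hf
    apply hE
    refine Subgroup.mem_inf.mpr ⟨?_, ?_⟩
    · have h1 := (Subgroup.mem_normalizer_iff.mp (hFD hf) t⁻¹).mp (inv_mem (hTD ht))
      have e : t * f * t⁻¹ * f⁻¹ = t * (f * t⁻¹ * f⁻¹) := by group
      rw [e]; exact mul_mem (hTD ht) h1
    · have h1 := (Subgroup.mem_normalizer_iff.mp (hMdF (hTMd ht)) f).mp hf
      exact mul_mem h1 (inv_mem hf)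
  -- a Sylow subgroup of `H` inside `Md`
  have hR₀H : R₀ ≤ H := (hR₀C.trans hCF).trans hFH
  obtain ⟨P, hP⟩ := (hR₀p.comap_subtype (K := H)).exists_le_sylow
  have hTH : IsPGroup p ((P : Subgroup ↥H).map H.subtype) := P.2.map _
  have hPMd : (P : Subgroup ↥H).map H.subtype ≤ Md := by
    apply hSyl _ hTH
    intro r hr
    exact ⟨⟨r, hR₀H hr⟩, hP (Subgroup.mem_subgroupOf.mpr hr), rfl⟩
  have hWT : pCoreOf p H ≤ (P : Subgroup ↥H).map H.subtype :=
    Subgroup.map_mono (pCore_le_sylow P)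
  have hWC : pCoreOf p H ≤ Subgroup.centralizer (Y : Set G) := by
    apply KL (pCoreOf p H) (pCoreOf p H) (hWT.trans hPMd) (isPGroup_pCoreOf p H) le_rfl
      (hFH.trans (le_normalizer_pCoreOf p H))
    intro e he
    obtain ⟨k, hk⟩ := isPGroup_mem_pow (isPGroup_pCoreOf p H) he
    exact ⟨k, by rw [hk]; exact one_mem _⟩
  have hYcW : Y ≤ Subgroup.centralizer ((pCoreOf p H : Subgroup G) : Set G) :=
    Subgroup.le_centralizer_iff.mp hWC
  have hYW : Y ≤ pCoreOf p H := (le_inf hYH hYcW).trans (inf_centralizer_pCoreOf_le hH)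
  have hYZ : Y ≤ pCoreOf p H ⊓ Subgroup.centralizer ((pCoreOf p H : Subgroup G) : Set G) :=
    le_inf hYW hYcW
  obtain ⟨V, hV⟩ : ∃ V : Subgroup G, V = ⨆ h : ↥H, Y.map (MulAut.conj (h : G)).toMonoidHom :=
    ⟨_, rfl⟩
  have hHV : H ≤ Subgroup.normalizer (V : Set G) := by
    rw [hV]; exact le_normalizer_iSup_conj H Y
  have hYV : Y ≤ V := by
    rw [hV]
    have h1 := le_iSup (fun h : ↥H => Y.map (MulAut.conj (h : G)).toMonoidHom) 1
    have h2 : Y.map (MulAut.conj ((1 : ↥H) : G)).toMonoidHom = Y := by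
      rw [Subgroup.coe_one, map_conj_one]
    exact h2.symm.le.trans h1
  have hHZ : H ≤ Subgroup.normalizer ((pCoreOf p H ⊓
      Subgroup.centralizer ((pCoreOf p H : Subgroup G) : Set G) : Subgroup G) : Set G) :=
    le_normalizer_inf' (le_normalizer_pCoreOf p H)
      ((le_normalizer_pCoreOf p H).trans (normalizer_le_normalizer_centralizer _))
  have hVZ : V ≤ pCoreOf p H ⊓ Subgroup.centralizer ((pCoreOf p H : Subgroup G) : Set G) := by
    rw [hV]
    apply iSup_le
    intro h
    calc Y.map (MulAut.conj (h : G)).toMonoidHom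
        ≤ (pCoreOf p H ⊓ Subgroup.centralizer ((pCoreOf p H : Subgroup G) : Set G)).map
            (MulAut.conj (h : G)).toMonoidHom := Subgroup.map_mono hYZ
      _ = _ := map_conj_eq_of_mem_normalizer _ (hHZ h.2)
  have hVH : V ≤ H := hVZ.trans (inf_le_left.trans (pCoreOf_le p H))
  have hcomm : ∀ a ∈ pCoreOf p H ⊓ Subgroup.centralizer ((pCoreOf p H : Subgroup G) : Set G),
      ∀ b ∈ pCoreOf p H ⊓ Subgroup.centralizer ((pCoreOf p H : Subgroup G) : Set G),
      a * b = b * a := by
    intro a ha b hb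
    exact (Subgroup.mem_centralizer_iff.mp (Subgroup.mem_inf.mp ha).2 b
      (Subgroup.mem_inf.mp hb).1).symm
  have hVel : IsElementaryAbelian p V := by
    rw [isElementaryAbelian_iff]
    refine ⟨fun a ha b hb => hcomm a (hVZ ha) b (hVZ hb), ?_⟩
    intro a ha
    have key : a ∈ pCoreOf p H ⊓ Subgroup.centralizer ((pCoreOf p H : Subgroup G) : Set G) ∧
        a ^ p = 1 := by
      have ha' : a ∈ ⨆ h : ↥H, Y.map (MulAut.conj (h : G)).toMonoidHom := by rw [← hV]; exact ha
      refine Subgroup.iSup_induction (C := fun x => x ∈ pCoreOf p H ⊓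
        Subgroup.centralizer ((pCoreOf p H : Subgroup G) : Set G) ∧ x ^ p = 1) _ ha' ?_ ?_ ?_
      · intro h x hx
        refine ⟨hVZ (by
          rw [hV]
          exact le_iSup (fun h : ↥H => Y.map (MulAut.conj (h : G)).toMonoidHom) h hx), ?_⟩
        obtain ⟨y, hy, rfl⟩ := hx
        rw [← map_pow, hYe y hy, map_one]
      · exact ⟨one_mem _, one_pow _⟩
      · rintro x y ⟨hx, hxp⟩ ⟨hy, hyp⟩
        refine ⟨mul_mem hx hy, ?_⟩
        have hc : Commute x y := hcomm x hx y hy
        rw [hc.mul_pow, hxp, hyp, one_mul]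
    exact key.2
  apply hYV.trans
  apply le_largestPReducedOf hVH
  rw [isPReducedNormal_subgroupOf_iff hVH]
  refine ⟨hHV, hVel, ?_⟩
  intro D hDH hHD hDpow
  have hCVY : Subgroup.centralizer (V : Set G) ≤ Subgroup.centralizer (Y : Set G) :=
    Subgroup.centralizer_le (SetLike.coe_subset_coe.mpr hYV)
  have hTD : (P : Subgroup ↥H).map H.subtype ⊓ D ≤ Subgroup.centralizer (Y : Set G) :=
    KL _ D (inf_le_left.trans hPMd) (hTH.to_le inf_le_left) inf_le_right (hFH.trans hHD)
      (fun e he => by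
        obtain ⟨k, hk⟩ := hDpow e he
        exact ⟨k, hCVY hk⟩)
  have hDY : D ≤ Subgroup.centralizer (Y : Set G) := by
    haveI : (D.subgroupOf H).Normal :=
      (Subgroup.normal_subgroupOf_iff_le_normalizer hDH).mpr hHD
    haveI : ((H ⊓ Subgroup.centralizer (V : Set G)).subgroupOf H).Normal :=
      (Subgroup.normal_subgroupOf_iff_le_normalizer inf_le_left).mpr
        (le_normalizer_inf' Subgroup.le_normalizer
          (hHV.trans (normalizer_le_normalizer_centralizer _)))
    have hGL := normal_le_sylow_inf_sup P (D.subgroupOf H)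
      ((H ⊓ Subgroup.centralizer (V : Set G)).subgroupOf H) (by
        intro x hx
        obtain ⟨k, hk⟩ := hDpow (x : G) (Subgroup.mem_subgroupOf.mp hx)
        refine ⟨k, ?_⟩
        rw [Subgroup.mem_subgroupOf]
        refine Subgroup.mem_inf.mpr ⟨(x ^ (p ^ k)).2, ?_⟩
        simpa using hk)
    have h2 : ((P : Subgroup ↥H) ⊓ D.subgroupOf H) ⊔
        (H ⊓ Subgroup.centralizer (V : Set G)).subgroupOf H ≤
        (Subgroup.centralizer (Y : Set G)).subgroupOf H := by
      apply sup_le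
      · intro z hz
        rw [Subgroup.mem_subgroupOf]
        exact hTD (Subgroup.mem_inf.mpr ⟨⟨z, (Subgroup.mem_inf.mp hz).1, rfl⟩,
          Subgroup.mem_subgroupOf.mp (Subgroup.mem_inf.mp hz).2⟩)
      · intro z hz
        rw [Subgroup.mem_subgroupOf] at hz ⊢
        exact hCVY (Subgroup.mem_inf.mp hz).2
    intro x hx
    have h1 := hGL (Subgroup.mem_subgroupOf.mpr (show ((⟨x, hDH hx⟩ : ↥H) : G) ∈ D from hx))
    exact Subgroup.mem_subgroupOf.mp (h2 h1)
  rw [Subgroup.le_centralizer_iff, hV]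
  apply iSup_le
  intro h
  rw [← Subgroup.le_centralizer_iff]
  intro x hx
  rw [mem_centralizer_map_conj]
  apply hDY
  have h1 := (Subgroup.mem_normalizer_iff.mp (hHD (H.inv_mem h.2)) x).mp hx
  simpa using h1

/-- `Y_M ≤ Y_H` for `H` of characteristic `p` containing the preimage of `F*(M†/C(Y_M))`. -/
theorem frakM_asym_largest_le [Fact p.Prime] [Finite G] (S : Sylow p G) {Q : Subgroup G}
    (hQp : IsPGroup p Q) (hQ1 : Q ≠ ⊥) (hQS : Q ≤ (S : Subgroup G)) (hQ : IsLarge Q)
    {M : Subgroup G} (hSM : (S : Subgroup G) ≤ M) (hM : IsInFrakM p M)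
    (hasym : ¬ IsSymmetricIn (largestPReducedOf p M))
    [hn : ((Subgroup.centralizer ((largestPReducedOf p M : Subgroup G) : Set G)).subgroupOf
      (M ⊔ Subgroup.centralizer ((largestPReducedOf p M : Subgroup G) : Set G))).Normal]
    {F : Subgroup G}
    (hF : F = ((generalizedFittingSubgroup
      (↥(M ⊔ Subgroup.centralizer ((largestPReducedOf p M : Subgroup G) : Set G)) ⧸
        (Subgroup.centralizer ((largestPReducedOf p M : Subgroup G) : Set G)).subgroupOf
          (M ⊔ Subgroup.centralizer ((largestPReducedOf p M : Subgroup G) : Set G)))).comap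
      (QuotientGroup.mk'
        ((Subgroup.centralizer ((largestPReducedOf p M : Subgroup G) : Set G)).subgroupOf
          (M ⊔ Subgroup.centralizer ((largestPReducedOf p M : Subgroup G) : Set G))))).map
      (M ⊔ Subgroup.centralizer ((largestPReducedOf p M : Subgroup G) : Set G)).subtype)
    {H : Subgroup G} (hFH : F ≤ H)
    (hH : Subgroup.centralizer (pCore p ↥H : Set ↥H) ≤ pCore p ↥H) :
    largestPReducedOf p M ≤ largestPReducedOf p H := by
  have hcp := charP_of_mem_charPSubgroups hM.1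
  have hRC := pCoreOf_le_centralizer_largestPReducedOf hcp
  have hNR := frakM_normalizer_pCoreOf_le S hQp hQ1 hQ hSM hM
  have hO : pCore p (↥(M ⊔ Subgroup.centralizer ((largestPReducedOf p M : Subgroup G) : Set G)) ⧸
      (Subgroup.centralizer ((largestPReducedOf p M : Subgroup G) : Set G)).subgroupOf
        (M ⊔ Subgroup.centralizer ((largestPReducedOf p M : Subgroup G) : Set G))) = ⊥ := by
    have h1 := largestPReducedOf_isPReduced' (p := p)
      (M ⊔ Subgroup.centralizer ((largestPReducedOf p M : Subgroup G) : Set G))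
    rw [← hM.2.2.2.1] at h1
    obtain ⟨-, -, hn', hO'⟩ := h1
    have hYle : largestPReducedOf p M ≤
        M ⊔ Subgroup.centralizer ((largestPReducedOf p M : Subgroup G) : Set G) :=
      (largestPReducedOf_le p M).trans le_sup_left
    have heq : Subgroup.centralizer (((largestPReducedOf p M).subgroupOf
        (M ⊔ Subgroup.centralizer ((largestPReducedOf p M : Subgroup G) : Set G)) :
          Subgroup ↥(M ⊔ Subgroup.centralizer ((largestPReducedOf p M : Subgroup G) : Set G))) :
          Set ↥(M ⊔ Subgroup.centralizer ((largestPReducedOf p M : Subgroup G) : Set G))) =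
        (Subgroup.centralizer ((largestPReducedOf p M : Subgroup G) : Set G)).subgroupOf
          (M ⊔ Subgroup.centralizer ((largestPReducedOf p M : Subgroup G) : Set G)) := by
      ext x
      rw [mem_centralizer_subgroupOf_iff hYle, Subgroup.mem_subgroupOf]
    haveI := hn'
    exact pCore_quotient_eq_bot_congr heq hO'
  exact genFitting_largest_le (isElementaryAbelian_largestPReducedOf hcp) le_sup_right
    (frakM_le_normalizer hM) hO hF hFH hH (isPGroup_pCoreOf p M) hRC
    (fun T hT hRT =>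
      (frakM_asym_le_normalizer S hQp hQ1 hQS hQ hSM hM hasym hT hRT).trans hNR)

end Main

end Cfsg.Agent.Helper16
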