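import Cfsg.Agent.Helper16.AsymMain

set_option autoImplicit false

namespace Cfsg.Agent.Helper16

open Cfsg
open Cfsg.Agent.Helper17 (mem_map_conj map_conj_map_conj map_conj_one
  map_conj_eq_of_mem_normalizer sylow_smul_coe exists_normalizer_mem_not_mem
  exists_conj_le_sylow conj_mem_map_conj pc CharPA charPA_iff charPA_of_normal le_pc
  charPA_of_pc_le pc_le_pc_of_normal)

variable {G : Type*} [Group G] {p : ℕ}

/-- Existence of a member of `ℌ_G(O_p(M))` when `Y_M` is char-`p`-tall and asymmetric. -/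
theorem frakH_exists [Fact p.Prime] [Finite G] (S : Sylow p G) {Q : Subgroup G}
    (hQp : IsPGroup p Q) (hQ1 : Q ≠ ⊥) (hQS : Q ≤ (S : Subgroup G)) (hQ : IsLarge Q)
    {M : Subgroup G} (hSM : (S : Subgroup G) ≤ M) (hM : IsInFrakM p M)
    (htall : IsCharPTall p (largestPReducedOf p M))
    (hasym : ¬ IsSymmetricIn (largestPReducedOf p M)) :
    ∃ H : Subgroup G, IsInFrakH p M H := by
  have hcp := charP_of_mem_charPSubgroups hM.1
  have hYR := largestPReducedOf_le_pCoreOf hcp
  have hRC := pCoreOf_le_centralizer_largestPReducedOf hcp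
  have hR0 := frakM_pCoreOf_eq S hSM hM
  obtain ⟨T, L, hTL, hLc, hYL⟩ := htall
  obtain ⟨P, hP⟩ := sylow_centralizer_largestPReducedOf S hSM hcp
  obtain ⟨c, hc⟩ := MulAction.exists_smul_eq
    ↥(Subgroup.centralizer ((largestPReducedOf p M : Subgroup G) : Set G)) T P
  have hcN : (c : G) ∈ Subgroup.normalizer ((largestPReducedOf p M : Subgroup G) : Set G) :=
    Subgroup.centralizer_le_normalizer _ c.2
  have hmem : L.map (MulAut.conj (c : G)).toMonoidHom ∈
      {H : Subgroup G | CharPA p H ∧ pCoreOf p M ≤ H ∧ ¬ largestPReducedOf p M ≤ pCoreOf p H} := by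
    refine ⟨charPA_map_conj ((charPA_iff L).mpr hLc) _, ?_, ?_⟩
    · intro r hr
      rw [mem_map_conj]
      apply hTL
      have h1 : (⟨r, hRC hr⟩ : ↥(Subgroup.centralizer
          ((largestPReducedOf p M : Subgroup G) : Set G))) ∈
          (P : Subgroup ↥(Subgroup.centralizer
            ((largestPReducedOf p M : Subgroup G) : Set G))) := by
        rw [hP, ← hR0]
        exact Subgroup.mem_subgroupOf.mpr hr
      rw [← hc, sylow_smul_coe, mem_map_conj] at h1
      exact ⟨_, h1, by simp⟩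
    · intro hY
      apply hYL
      have h1 : pCoreOf p (L.map (MulAut.conj (c : G)).toMonoidHom) =
          (pCoreOf p L).map (MulAut.conj (c : G)).toMonoidHom := pc_map_conj L c
      rw [h1] at hY
      intro y hy
      have h2 : (c : G) * y * (c : G)⁻¹ ∈ largestPReducedOf p M :=
        (Subgroup.mem_normalizer_iff.mp hcN y).mp hy
      have h3 := hY h2
      rw [mem_map_conj] at h3
      have e : (c : G)⁻¹ * ((c : G) * y * (c : G)⁻¹) * (c : G) = y := by group
      rwa [e] at h3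
  obtain ⟨H, -, hHmem, hmin⟩ := Set.Finite.exists_le_minimal (Set.toFinite _) hmem
  obtain ⟨hHc, hRH, hYH⟩ := hHmem
  have hWp : IsPGroup p (pCoreOf p H) := isPGroup_pCoreOf p H
  have hWH : pCoreOf p H ≤ H := pCoreOf_le p H
  have hHW : H ≤ Subgroup.normalizer ((pCoreOf p H : Subgroup G) : Set G) :=
    le_normalizer_pCoreOf p H
  -- `O_p(H)` normalizes `O_p(M)`
  have hWN : pCoreOf p H ≤ Subgroup.normalizer ((pCoreOf p M : Subgroup G) : Set G) := by
    have h1 : IsPGroup p ((pCoreOf p M ⊔ pCoreOf p H : Subgroup G)) :=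
      IsPGroup.to_sup_of_normal_right' (isPGroup_pCoreOf p M) hWp (hRH.trans hHW)
    exact le_sup_right.trans
      (frakM_asym_le_normalizer S hQp hQ1 hQS hQ hSM hM hasym h1 le_sup_left)
  -- the normal closure of `O_p(M)` in `H` is `H`
  have hNcl : H ≤ ⨆ h : ↥H, (pCoreOf p M).map (MulAut.conj (h : G)).toMonoidHom := by
    have hN1 : (⨆ h : ↥H, (pCoreOf p M).map (MulAut.conj (h : G)).toMonoidHom) ≤ H := by
      apply iSup_le
      intro h x hx
      rw [mem_map_conj] at hx
      have h1 := H.mul_mem (H.mul_mem h.2 (hRH hx)) (H.inv_mem h.2)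
      have e : (h : G) * ((h : G)⁻¹ * x * (h : G)) * (h : G)⁻¹ = x := by group
      rwa [e] at h1
    have hN2 : H ≤ Subgroup.normalizer
        ((⨆ h : ↥H, (pCoreOf p M).map (MulAut.conj (h : G)).toMonoidHom : Subgroup G) : Set G) :=
      le_normalizer_iSup_conj H (pCoreOf p M)
    have hN3 : pCoreOf p M ≤ ⨆ h : ↥H, (pCoreOf p M).map (MulAut.conj (h : G)).toMonoidHom := by
      have h1 := le_iSup (fun h : ↥H => (pCoreOf p M).map (MulAut.conj (h : G)).toMonoidHom) 1
      have h2 : (pCoreOf p M).map (MulAut.conj ((1 : ↥H) : G)).toMonoidHom = pCoreOf p M := by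
        rw [Subgroup.coe_one, map_conj_one]
      exact h2.symm.le.trans h1
    have hN4 : CharPA p (⨆ h : ↥H, (pCoreOf p M).map (MulAut.conj (h : G)).toMonoidHom) :=
      charPA_of_normal hHc hN1 hN2
    by_cases hYN : largestPReducedOf p M ≤
        pCoreOf p (⨆ h : ↥H, (pCoreOf p M).map (MulAut.conj (h : G)).toMonoidHom)
    · exact absurd (hYN.trans (pc_le_pc_of_normal hN1 hN2)) hYH
    · exact hmin ⟨hN4, hN3, hYN⟩ hN1
  refine ⟨H, (charPA_iff H).mp hHc, hRH, hYH, ?_⟩
  intro P₁ hRP hPH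
  by_cases hPW : P₁ ⊔ pCoreOf p H = H
  · exfalso
    apply hPH.not_ge
    refine hNcl.trans (iSup_le ?_)
    intro h x hx
    have hh : (h : G) ∈ P₁ ⊔ pCoreOf p H := by rw [hPW]; exact h.2
    obtain ⟨a, ha, w, hw, hhaw⟩ := mem_sup_of_le_normalizer (hPH.le.trans hHW) hh
    rw [hhaw, ← map_conj_map_conj, map_conj_eq_of_mem_normalizer _ (hWN hw), mem_map_conj] at hx
    have h1 := P₁.mul_mem (P₁.mul_mem ha (hRP hx)) (P₁.inv_mem ha)
    have e : a * (a⁻¹ * x * a) * a⁻¹ = x := by group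
    rwa [e] at h1
  · have hle : P₁ ⊔ pCoreOf p H ≤ H := sup_le hPH.le hWH
    have hc1 : CharPA p (P₁ ⊔ pCoreOf p H) := charPA_of_pc_le hHc hle le_sup_right
    have hY1 : largestPReducedOf p M ≤ pCoreOf p (P₁ ⊔ pCoreOf p H) := by
      by_contra hY
      exact hPW (le_antisymm hle (hmin ⟨hc1, hRP.trans le_sup_left, hY⟩ hle))
    have h2 : pCoreOf p (P₁ ⊔ pCoreOf p H) ⊓ P₁ ≤ pCoreOf p P₁ := by
      apply le_pCoreOf inf_le_right
      · exact le_normalizer_inf' (le_sup_left.trans (le_normalizer_pCoreOf p _))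
          Subgroup.le_normalizer
      · exact (isPGroup_pCoreOf p _).to_le inf_le_left
    exact (le_inf hY1 (hYR.trans hRP)).trans h2

end Cfsg.Agent.Helper16
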