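import Cfsg.Prelude.Def_LocalStructure
import Cfsg.Agent.Helper16.PResidual
import Cfsg.Agent.Helper16.PReducedClosure
import Cfsg.Agent.Helper16.Subnormal
import Cfsg.Agent.Helper16.Comm
import Cfsg.Agent.Helper16.PReducedOf
import Cfsg.Agent.Helper16.PCore

set_option autoImplicit false

namespace Cfsg.Agent.Helper16

open Cfsg

variable {H : Type*} [Group H] {p : ℕ}

/-- In a finite nilpotent group every subgroup is subnormal. -/
theorem isSubnormal_of_isNilpotent [Finite H] [Group.IsNilpotent H] (B : Subgroup H) :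
    B.IsSubnormal := by
  induction' h : B.index using Nat.strong_induction_on with n ih generalizing B
  by_cases hB : B = ⊤
  · rw [hB]; exact Subgroup.IsSubnormal.top
  · have hlt : B < Subgroup.normalizer (B : Set H) :=
      Group.normalizerCondition_of_isNilpotent B (lt_top_iff_ne_top.mpr hB)
    have hidx : (Subgroup.normalizer (B : Set H)).index < n := by
      rw [← h]
      exact Subgroup.index_strictAnti hlt
    have hN := ih _ hidx _ rfl
    exact Subgroup.IsSubnormal.step B _ Subgroup.le_normalizer hN Subgroup.normal_in_normalizer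

/-- A finite group has a smallest subnormal subgroup containing a given subgroup. -/
theorem exists_min_subnormal [Finite H] (A : Subgroup H) :
    ∃ M : Subgroup H, A ≤ M ∧ M.IsSubnormal ∧
      ∀ B : Subgroup H, A ≤ B → B.IsSubnormal → M ≤ B := by
  classical
  have hne : ∃ n, ∃ M : Subgroup H, A ≤ M ∧ M.IsSubnormal ∧ Nat.card M = n :=
    ⟨_, ⊤, le_top, Subgroup.IsSubnormal.top, rfl⟩
  obtain ⟨M, hAM, hM, hcard⟩ := Nat.find_spec hne
  refine ⟨M, hAM, hM, fun B hAB hB => ?_⟩
  have h1 : (M ⊓ B).IsSubnormal := hM.inf hB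
  have h2 : A ≤ M ⊓ B := le_inf hAM hAB
  have h3 : Nat.find hne ≤ Nat.card ↥(M ⊓ B) := Nat.find_min' hne ⟨M ⊓ B, h2, h1, rfl⟩
  have h4 : M ⊓ B = M := by
    apply Subgroup.eq_of_le_of_card_ge inf_le_left
    rw [hcard]; exact h3
  rw [← h4]; exact inf_le_right

theorem subnormalClosure_spec [Finite H] (A : Subgroup H) :
    A ≤ subnormalClosure A ∧ (subnormalClosure A).IsSubnormal ∧
      ∀ B : Subgroup H, A ≤ B → B.IsSubnormal → subnormalClosure A ≤ B := by
  obtain ⟨M, hAM, hM, hmin⟩ := exists_min_subnormal A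
  have e : subnormalClosure A = M :=
    le_antisymm (sInf_le ⟨hAM, hM⟩) (le_sInf (fun B hB => hmin B hB.1 hB.2))
  rw [e]; exact ⟨hAM, hM, hmin⟩

theorem subnormalClosure_normalClosure {A K : Subgroup H} (hA : A ≤ K) (hK : K.IsSubnormal)
    (hmin : ∀ B : Subgroup H, A ≤ B → B.IsSubnormal → K ≤ B) :
    (Subgroup.normalClosure ((A.subgroupOf K : Subgroup ↥K) : Set ↥K)).map K.subtype = K := by
  apply le_antisymm (Subgroup.map_subtype_le _)
  apply hmin
  · intro a ha
    exact ⟨⟨a, hA ha⟩, Subgroup.subset_normalClosure (Subgroup.mem_subgroupOf.mpr ha), rfl⟩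
  · apply Subgroup.IsSubnormal.trans (Subgroup.map_subtype_le _) _ hK
    have e : ((Subgroup.normalClosure ((A.subgroupOf K : Subgroup ↥K) : Set ↥K)).map
        K.subtype).subgroupOf K = Subgroup.normalClosure ((A.subgroupOf K : Subgroup ↥K) : Set ↥K) :=
      Subgroup.comap_map_eq_self_of_injective K.subtype_injective _
    rw [e]
    exact (Subgroup.normalClosure_normal).isSubnormal

theorem subnormalClosure_normalizer {A K : Subgroup H} (hA : A ≤ K) (hK : K.IsSubnormal)
    (hmin : ∀ B : Subgroup H, A ≤ B → B.IsSubnormal → K ≤ B) :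
    Subgroup.normalizer (A : Set H) ≤ Subgroup.normalizer (K : Set H) := by
  apply le_normalizer_of_conj_mem
  intro g hg u hu
  have h1 : K ≤ K.map (MulAut.conj g⁻¹).toMonoidHom := by
    apply hmin
    · intro a ha
      refine ⟨g * a * g⁻¹, hA ((Subgroup.mem_normalizer_iff.mp hg a).mp ha), ?_⟩
      simp only [MulEquiv.coe_toMonoidHom, MulAut.conj_apply]
      group
    · exact hK.map (MulAut.conj g⁻¹).surjective
  obtain ⟨k, hk, hku⟩ := h1 hu
  simp only [MulEquiv.coe_toMonoidHom, MulAut.conj_apply] at hku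
  rw [← hku]
  have e : g * (g⁻¹ * k * g⁻¹⁻¹) * g⁻¹ = k := by group
  rw [e]; exact hk

theorem subnormalClosure_sup_pResidual [Finite H] [Fact p.Prime] {A K : Subgroup H}
    (hA : A ≤ K) (hK : K.IsSubnormal)
    (hmin : ∀ B : Subgroup H, A ≤ B → B.IsSubnormal → K ≤ B) :
    A ⊔ (pResidual p ↥K).map K.subtype = K := by
  apply le_antisymm (sup_le hA (Subgroup.map_subtype_le _))
  apply hmin _ le_sup_left
  haveI hRn : (pResidual p ↥K).Normal := pResidual_normal p ↥K
  have hQp : IsPGroup p (↥K ⧸ pResidual p ↥K) := by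
    intro x
    induction x using QuotientGroup.induction_on with
    | H x =>
      obtain ⟨k, hk⟩ := exists_pow_mem_pResidual (p := p) x
      refine ⟨k, ?_⟩
      rw [← QuotientGroup.mk_pow]
      exact (QuotientGroup.eq_one_iff _).mpr hk
  haveI : Group.IsNilpotent (↥K ⧸ pResidual p ↥K) := hQp.isNilpotent
  have h1 : ((A.subgroupOf K).map (QuotientGroup.mk' (pResidual p ↥K))).IsSubnormal :=
    isSubnormal_of_isNilpotent _
  have h2 := h1.comap (QuotientGroup.mk' (pResidual p ↥K))
  rw [Subgroup.comap_map_eq, QuotientGroup.ker_mk'] at h2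
  apply Subgroup.IsSubnormal.trans (sup_le hA (Subgroup.map_subtype_le _)) _ hK
  have e : (A ⊔ (pResidual p ↥K).map K.subtype).subgroupOf K =
      A.subgroupOf K ⊔ pResidual p ↥K := by
    rw [Subgroup.subgroupOf_sup hA (Subgroup.map_subtype_le _)]
    congr 1
    exact Subgroup.comap_map_eq_self_of_injective K.subtype_injective _
  rw [e]; exact h2

theorem subnormalClosure_commutator [Finite H] [Fact p.Prime] {A K : Subgroup H}
    (hA : A ≤ K) (hK : K.IsSubnormal)
    (hmin : ∀ B : Subgroup H, A ≤ B → B.IsSubnormal → K ≤ B) (hAp : IsPGroup p A) :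
    ⁅(pResidual p ↥K).map K.subtype, A⁆ = (pResidual p ↥K).map K.subtype := by
  have hKsup : A ⊔ (pResidual p ↥K).map K.subtype = K :=
    subnormalClosure_sup_pResidual hA hK hmin
  generalize hR : (pResidual p ↥K).map K.subtype = R at hKsup
  have hRK : R ≤ K := by rw [← hR]; exact Subgroup.map_subtype_le _
  have hKR : K ≤ Subgroup.normalizer (R : Set H) := by
    apply le_normalizer_of_conj_mem
    intro x hx r hr
    rw [← hR] at hr ⊢
    obtain ⟨r', hr', rfl⟩ := hr
    have hn := pResidual_normal p ↥K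
    exact ⟨⟨x, hx⟩ * r' * ⟨x, hx⟩⁻¹, hn.conj_mem r' hr' ⟨x, hx⟩, by simp⟩
  have hle : ⁅R, A⁆ ≤ R := commutator_le_of_le_normalizer (hA.trans hKR)
  apply le_antisymm hle
  have hRC : R ≤ Subgroup.normalizer ((⁅R, A⁆ : Subgroup H) : Set H) :=
    le_normalizer_commutator_left R A
  have hAC : A ≤ Subgroup.normalizer ((⁅R, A⁆ : Subgroup H) : Set H) :=
    le_normalizer_commutator_right R A
  have hKC : K ≤ Subgroup.normalizer ((⁅R, A⁆ : Subgroup H) : Set H) := by
    rw [← hKsup]; exact sup_le hAC hRC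
  have hCK : ⁅R, A⁆ ≤ K := hle.trans hRK
  have hKY : K ≤ Subgroup.normalizer ((A ⊔ ⁅R, A⁆ : Subgroup H) : Set H) := by
    have h1 : A ⊔ R ≤ Subgroup.normalizer ((A ⊔ ⁅R, A⁆ : Subgroup H) : Set H) := by
      apply sup_le
      · exact le_normalizer_sup' Subgroup.le_normalizer hAC
      · apply le_normalizer_of_conj_mem
        intro r hr u hu
        have h2 : A ⊔ ⁅R, A⁆ ≤ (A ⊔ ⁅R, A⁆).comap (MulAut.conj r).toMonoidHom := by
          apply sup_le
          · intro a ha
            show r * a * r⁻¹ ∈ A ⊔ ⁅R, A⁆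
            have e : r * a * r⁻¹ = (r * a * r⁻¹ * a⁻¹) * a := by group
            rw [e]
            exact Subgroup.mul_mem _ (Subgroup.mem_sup_right (comm_mem_commutator hr ha))
              (Subgroup.mem_sup_left ha)
          · intro c hc
            show r * c * r⁻¹ ∈ A ⊔ ⁅R, A⁆
            exact Subgroup.mem_sup_right ((Subgroup.mem_normalizer_iff.mp (hRC hr) c).mp hc)
        exact h2 hu
    rw [hKsup] at h1
    exact h1
  have hYsub : (A ⊔ ⁅R, A⁆).IsSubnormal := by
    apply Subgroup.IsSubnormal.trans (sup_le hA hCK) _ hK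
    exact ((Subgroup.normal_subgroupOf_iff_le_normalizer (sup_le hA hCK)).mpr hKY).isSubnormal
  have hKle : K ≤ A ⊔ ⁅R, A⁆ := hmin _ le_sup_left hYsub
  haveI hCn : ((⁅R, A⁆ : Subgroup H).subgroupOf K).Normal :=
    (Subgroup.normal_subgroupOf_iff_le_normalizer hCK).mpr hKC
  have hpow : ∀ y ∈ A.subgroupOf K ⊔ (⁅R, A⁆ : Subgroup H).subgroupOf K,
      ∃ k : ℕ, y ^ (p ^ k) ∈ (⁅R, A⁆ : Subgroup H).subgroupOf K := by
    apply pow_mem_of_mem_sup
    intro x hx
    obtain ⟨k, hk⟩ := hAp ⟨(x : H), hx⟩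
    refine ⟨k, ?_⟩
    have h1 : x ^ (p ^ k) = 1 := by
      apply Subtype.ext
      have := congrArg Subtype.val hk
      simpa using this
    rw [h1]; exact Subgroup.one_mem _
  have htop : A.subgroupOf K ⊔ (⁅R, A⁆ : Subgroup H).subgroupOf K = ⊤ := by
    rw [← Subgroup.subgroupOf_sup hA hCK, eq_top_iff]
    intro x _
    exact Subgroup.mem_subgroupOf.mpr (hKle x.2)
  have hle2 : pResidual p ↥K ≤ (⁅R, A⁆ : Subgroup H).subgroupOf K := by
    refine (Subgroup.closure_le _).mpr ?_
    intro y hy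
    obtain ⟨k, hk⟩ := hpow y (by rw [htop]; exact Subgroup.mem_top y)
    have hy' : (orderOf y).Coprime p := hy
    exact mem_of_pow_mem_of_coprime_order (Nat.Coprime.pow_left k hy'.symm) hk
  intro x hx
  rw [← hR] at hx
  obtain ⟨y, hy, rfl⟩ := hx
  exact hle2 hy

end Cfsg.Agent.Helper16
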