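import Cfsg.Agent.Helper16.FrakH
import Cfsg.Agent.Helper16.AsymFusion
import Cfsg.Agent.Helper16.SubnormalClosure

set_option autoImplicit false

namespace Cfsg.Agent.Helper16

open Cfsg
open Cfsg.Agent.Helper17 (mem_map_conj map_conj_map_conj map_conj_one
  map_conj_eq_of_mem_normalizer sylow_smul_coe exists_normalizer_mem_not_mem
  exists_conj_le_sylow conj_mem_map_conj pc CharPA charPA_iff charPA_of_normal le_pc
  charPA_of_pc_le pc_le_pc_of_normal isPGroup_mem_pow)

section Abstract

variable {K : Type*} [Group K] {p : ℕ}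

/-- Abstract form of the structure of a member of `ℌ`: `A` plays the role of `O_p(M)`, `V` of `Y_M`. -/
theorem frakH_abstract [Finite K] [Fact p.Prime] {A V : Subgroup K} (hA : IsPGroup p A)
    (hVA : V ≤ A) (hAV : A ≤ Subgroup.normalizer (V : Set K))
    (hV : ¬ V ≤ pCore p K)
    (hmin : ∀ P : Subgroup K, A ≤ P → P ≠ ⊤ → ∃ N : Subgroup K, N ≤ P ∧
      P ≤ Subgroup.normalizer (N : Set K) ∧ IsPGroup p N ∧ V ≤ N) :
    Subgroup.normalClosure (A : Set K) = ⊤ ∧ pResidual p K ⊔ A = ⊤ ∧
      ⁅pResidual p K, V⁆ = pResidual p K ∧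
      pResidual p K ⊔ V = Subgroup.normalClosure (V : Set K) := by
  have hVp : IsPGroup p V := hA.to_le hVA
  have hS : ∀ B : Subgroup K, A ≤ B → B.IsSubnormal → B = ⊤ := by
    intro B hAB hB
    by_contra hne
    obtain ⟨N, hNB, hBN, hNp, hVN⟩ := hmin B hAB hne
    have hNsn : N.IsSubnormal := Subgroup.IsSubnormal.step N B hNB hB
      ((Subgroup.normal_subgroupOf_iff_le_normalizer hNB).mpr hBN)
    exact hV (hVN.trans (isSubnormal_pgroup_le_pCore hNsn hNp))
  have h1 : Subgroup.normalClosure (A : Set K) = ⊤ :=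
    hS _ Subgroup.le_normalClosure Subgroup.normalClosure_normal.isSubnormal
  have htop : (pResidual p ↥(⊤ : Subgroup K)).map (⊤ : Subgroup K).subtype = pResidual p K := by
    rw [map_pResidual_eq]
    simp only [Subgroup.mem_top, true_and]
    rfl
  have h2 : pResidual p K ⊔ A = ⊤ := by
    have h := subnormalClosure_sup_pResidual (p := p) (A := A) (K := ⊤) le_top
      Subgroup.IsSubnormal.top (fun B hAB hB => (hS B hAB hB).ge)
    rw [htop] at h
    rw [sup_comm]; exact h
  obtain ⟨B, hVB, hBsn, hBmin⟩ := exists_min_subnormal V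
  have hNB := subnormalClosure_normalizer hVB hBsn hBmin
  have hAB : A ≤ Subgroup.normalizer (B : Set K) := hAV.trans hNB
  have hBA : B ⊔ A = ⊤ := by
    by_contra hne
    obtain ⟨N, hNle, hnorm, hNp, hVN⟩ := hmin (B ⊔ A) le_sup_right hne
    have hNB' : (N ⊓ B).IsSubnormal := Subgroup.IsSubnormal.step (N ⊓ B) B inf_le_right hBsn
      ((Subgroup.normal_subgroupOf_iff_le_normalizer inf_le_right).mpr
        (le_normalizer_inf' (le_sup_left.trans hnorm) Subgroup.le_normalizer))
    exact hV ((le_inf hVN hVB).trans (isSubnormal_pgroup_le_pCore hNB' (hNp.to_le inf_le_left)))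
  have hres : (pResidual p ↥B).map B.subtype = pResidual p K := by
    apply le_antisymm
    · rw [map_pResidual_eq]
      apply Subgroup.closure_mono
      intro x hx; exact hx.2
    · show Subgroup.closure {g : K | Nat.Coprime (orderOf g) p} ≤ _
      rw [Subgroup.closure_le]
      intro x hx
      refine mem_map_pResidual_of_coprime ?_ hx
      have hx' : x ∈ A ⊔ B := by rw [sup_comm, hBA]; trivial
      obtain ⟨a, ha, b, hb, rfl⟩ := mem_sup_of_le_normalizer hAB hx'
      obtain ⟨k, hk⟩ := isPGroup_mem_pow hA ha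
      obtain ⟨c', hc', e⟩ := mul_pow_mem_of_normalizer (hAB ha) hb (p ^ k)
      have hx2 : Nat.Coprime (orderOf (a * b)) p := hx
      apply mem_of_pow_mem_of_coprime_order (n := p ^ k) (Nat.Coprime.pow_left k hx2.symm)
      rw [e, hk, one_mul]; exact hc'
  have h3 : ⁅pResidual p K, V⁆ = pResidual p K := by
    have h := subnormalClosure_commutator hVB hBsn hBmin hVp
    rwa [hres] at h
  have h4 : pResidual p K ⊔ V = Subgroup.normalClosure (V : Set K) := by
    apply le_antisymm
    · apply sup_le _ Subgroup.le_normalClosure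
      rw [← h3]
      exact (Subgroup.commutator_mono le_rfl Subgroup.le_normalClosure).trans
        (Subgroup.commutator_le_right _ _)
    · haveI : (pResidual p K ⊔ V).Normal := by
        rw [← Subgroup.normalizer_eq_top_iff, eq_top_iff, ← h2]
        apply sup_le (le_sup_left.trans Subgroup.le_normalizer)
        refine le_normalizer_sup' ?_ hAV
        rw [Subgroup.normalizer_eq_top_iff.mpr (pResidual_normal p K)]
        exact le_top
      exact Subgroup.normalClosure_le_normal
        (SetLike.coe_subset_coe.mpr (le_sup_right : V ≤ pResidual p K ⊔ V))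
  exact ⟨h1, h2, h3, h4⟩

end Abstract

section Concrete

variable {G : Type*} [Group G] {p : ℕ}

/-- Structure of a member `H` of `ℌ_G(O_p(M))` when `Y_M` is asymmetric. -/
theorem frakH_structure [Fact p.Prime] [Finite G] (S : Sylow p G) {Q : Subgroup G}
    (hQp : IsPGroup p Q) (hQ1 : Q ≠ ⊥) (hQS : Q ≤ (S : Subgroup G)) (hQ : IsLarge Q)
    {M : Subgroup G} (hSM : (S : Subgroup G) ≤ M) (hM : IsInFrakM p M)
    (hasym : ¬ IsSymmetricIn (largestPReducedOf p M)) {H : Subgroup G}
    (hH : IsInFrakH p M H) :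
    (∀ T : Sylow p ↥(H ⊓ (M ⊔ Subgroup.centralizer
        ((largestPReducedOf p M : Subgroup G) : Set G))),
      ∃ P : Sylow p ↥H, ((P : Subgroup ↥H).map H.subtype) =
        (T : Subgroup ↥(H ⊓ (M ⊔ Subgroup.centralizer
          ((largestPReducedOf p M : Subgroup G) : Set G)))).map
          (H ⊓ (M ⊔ Subgroup.centralizer
            ((largestPReducedOf p M : Subgroup G) : Set G))).subtype) ∧
    pCoreOf p H ≤ Subgroup.normalizer ((pCoreOf p M : Subgroup G) : Set G) ⊓
      Subgroup.normalizer ((largestPReducedOf p M : Subgroup G) : Set G) ∧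
    ⁅(pResidual p ↥H).map H.subtype, largestPReducedOf p M⁆ = (pResidual p ↥H).map H.subtype ∧
    (pResidual p ↥H).map H.subtype ⊔ pCoreOf p M = H ∧
    (pResidual p ↥H).map H.subtype ⊔ largestPReducedOf p M =
      (Subgroup.normalClosure
        (((largestPReducedOf p M).subgroupOf H : Subgroup ↥H) : Set ↥H)).map H.subtype ∧
    (Subgroup.normalClosure
      (((pCoreOf p M).subgroupOf H : Subgroup ↥H) : Set ↥H)).map H.subtype = H := by
  obtain ⟨hHc, hRH, hYH, hmin⟩ := hH
  have hcp := charP_of_mem_charPSubgroups hM.1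
  have hYR := largestPReducedOf_le_pCoreOf hcp
  have hMdN := frakM_le_normalizer hM
  have hNR := frakM_normalizer_pCoreOf_le S hQp hQ1 hQ hSM hM
  have hYH' : largestPReducedOf p M ≤ H := hYR.trans hRH
  have hmain := frakM_asym_main S hQp hQ1 hQS hQ hSM hM hasym
  have hA : IsPGroup p ((pCoreOf p M).subgroupOf H) := (isPGroup_pCoreOf p M).comap_subtype
  have hVA : (largestPReducedOf p M).subgroupOf H ≤ (pCoreOf p M).subgroupOf H :=
    Subgroup.comap_mono hYR
  have hAV : (pCoreOf p M).subgroupOf H ≤ Subgroup.normalizer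
      (((largestPReducedOf p M).subgroupOf H : Subgroup ↥H) : Set ↥H) := by
    intro a ha
    have h1 : (a : G) ∈ Subgroup.normalizer ((largestPReducedOf p M : Subgroup G) : Set G) :=
      hMdN (Subgroup.mem_sup_left (pCoreOf_le p M (Subgroup.mem_subgroupOf.mp ha)))
    rw [Subgroup.mem_normalizer_iff]
    intro h
    simp only [Subgroup.mem_subgroupOf]
    exact Subgroup.mem_normalizer_iff.mp h1 (h : G)
  have hV : ¬ (largestPReducedOf p M).subgroupOf H ≤ pCore p ↥H := by
    intro h
    apply hYH
    intro y hy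
    exact ⟨⟨y, hYH' hy⟩, h (Subgroup.mem_subgroupOf.mpr hy), rfl⟩
  have hmin' : ∀ P : Subgroup ↥H, (pCoreOf p M).subgroupOf H ≤ P → P ≠ ⊤ →
      ∃ N : Subgroup ↥H, N ≤ P ∧ P ≤ Subgroup.normalizer (N : Set ↥H) ∧ IsPGroup p N ∧
        (largestPReducedOf p M).subgroupOf H ≤ N := by
    intro P hAP hPtop
    have hRP : pCoreOf p M ≤ P.map H.subtype := by
      intro r hr
      exact ⟨⟨r, hRH hr⟩, hAP (Subgroup.mem_subgroupOf.mpr hr), rfl⟩
    have hPH : P.map H.subtype < H := by
      refine lt_of_le_of_ne (Subgroup.map_subtype_le P) ?_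
      intro heq
      apply hPtop
      rw [eq_top_iff]
      intro h _
      have h1 : (h : G) ∈ P.map H.subtype := by rw [heq]; exact h.2
      obtain ⟨h', hh', e⟩ := h1
      have e' : h' = h := Subtype.ext e
      rw [← e']; exact hh'
    have hY := hmin _ hRP hPH
    refine ⟨(pCoreOf p (P.map H.subtype)).subgroupOf H, ?_, ?_,
      (isPGroup_pCoreOf p _).comap_subtype, Subgroup.comap_mono hY⟩
    · intro n hn
      obtain ⟨n', hn', e⟩ := pCoreOf_le p _ (Subgroup.mem_subgroupOf.mp hn)
      have e' : n' = n := Subtype.ext e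
      rw [← e']; exact hn'
    · intro x hx
      have h1 : (x : G) ∈ Subgroup.normalizer
          ((pCoreOf p (P.map H.subtype) : Subgroup G) : Set G) :=
        le_normalizer_pCoreOf p _ ⟨x, hx, rfl⟩
      rw [Subgroup.mem_normalizer_iff]
      intro h
      simp only [Subgroup.mem_subgroupOf]
      exact Subgroup.mem_normalizer_iff.mp h1 (h : G)
  obtain ⟨h1, h2, h3, h4⟩ := frakH_abstract hA hVA hAV hV hmin'
  have htop : (⊤ : Subgroup ↥H).map H.subtype = H := by
    rw [← MonoidHom.range_eq_map, Subgroup.range_subtype]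
  have hVmap : ((largestPReducedOf p M).subgroupOf H).map H.subtype = largestPReducedOf p M :=
    Subgroup.map_subgroupOf_eq_of_le hYH'
  have hAmap : ((pCoreOf p M).subgroupOf H).map H.subtype = pCoreOf p M :=
    Subgroup.map_subgroupOf_eq_of_le hRH
  refine ⟨?_, ?_, ?_, ?_, ?_, ?_⟩
  · intro T
    obtain ⟨P₀, hP₀⟩ := hmain.2.2.1 H hRH
    have hT'H : (T : Subgroup ↥(H ⊓ (M ⊔ Subgroup.centralizer
        ((largestPReducedOf p M : Subgroup G) : Set G)))).map
        (H ⊓ (M ⊔ Subgroup.centralizer
          ((largestPReducedOf p M : Subgroup G) : Set G))).subtype ≤ H :=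
      (Subgroup.map_subtype_le _).trans inf_le_left
    obtain ⟨P₁, hP₁⟩ := ((T.2.map (H ⊓ (M ⊔ Subgroup.centralizer
      ((largestPReducedOf p M : Subgroup G) : Set G))).subtype).comap_subtype
        (K := H)).exists_le_sylow
    refine ⟨P₁, ?_⟩
    have hP₀D : (P₀ : Subgroup ↥H).map H.subtype ≤ H ⊓ (M ⊔ Subgroup.centralizer
        ((largestPReducedOf p M : Subgroup G) : Set G)) := by
      rintro _ ⟨x, hx, rfl⟩
      exact Subgroup.mem_subgroupOf.mp (hP₀ hx)
    obtain ⟨T₂, hT₂⟩ := ((P₀.2.map H.subtype).comap_subtype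
      (K := H ⊓ (M ⊔ Subgroup.centralizer
        ((largestPReducedOf p M : Subgroup G) : Set G)))).exists_le_sylow
    have hc1 : Nat.card (P₁ : Subgroup ↥H) = Nat.card (P₀ : Subgroup ↥H) := by
      rw [Sylow.card_eq_multiplicity, Sylow.card_eq_multiplicity]
    have hc2 : Nat.card (T₂ : Subgroup ↥(H ⊓ (M ⊔ Subgroup.centralizer
        ((largestPReducedOf p M : Subgroup G) : Set G)))) =
        Nat.card (T : Subgroup ↥(H ⊓ (M ⊔ Subgroup.centralizer
          ((largestPReducedOf p M : Subgroup G) : Set G)))) := by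
      rw [Sylow.card_eq_multiplicity, Sylow.card_eq_multiplicity]
    have hc3 : Nat.card (P₀ : Subgroup ↥H) ≤ Nat.card (T₂ : Subgroup ↥(H ⊓ (M ⊔
        Subgroup.centralizer ((largestPReducedOf p M : Subgroup G) : Set G)))) := by
      calc Nat.card (P₀ : Subgroup ↥H)
          = Nat.card ((P₀ : Subgroup ↥H).map H.subtype) :=
            (Subgroup.card_map_of_injective H.subtype_injective).symm
        _ = Nat.card (((P₀ : Subgroup ↥H).map H.subtype).subgroupOf (H ⊓ (M ⊔
            Subgroup.centralizer ((largestPReducedOf p M : Subgroup G) : Set G)))) :=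
            (Nat.card_congr (Subgroup.subgroupOfEquivOfLe hP₀D).toEquiv).symm
        _ ≤ _ := Subgroup.card_le_of_le hT₂
    have hc4 : Nat.card (((T : Subgroup ↥(H ⊓ (M ⊔ Subgroup.centralizer
        ((largestPReducedOf p M : Subgroup G) : Set G)))).map
        (H ⊓ (M ⊔ Subgroup.centralizer
          ((largestPReducedOf p M : Subgroup G) : Set G))).subtype).subgroupOf H) =
        Nat.card (T : Subgroup ↥(H ⊓ (M ⊔ Subgroup.centralizer
          ((largestPReducedOf p M : Subgroup G) : Set G)))) := by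
      rw [Nat.card_congr (Subgroup.subgroupOfEquivOfLe hT'H).toEquiv]
      exact Subgroup.card_map_of_injective (Subgroup.subtype_injective _)
    have heq : ((T : Subgroup ↥(H ⊓ (M ⊔ Subgroup.centralizer
        ((largestPReducedOf p M : Subgroup G) : Set G)))).map
        (H ⊓ (M ⊔ Subgroup.centralizer
          ((largestPReducedOf p M : Subgroup G) : Set G))).subtype).subgroupOf H =
        (P₁ : Subgroup ↥H) := by
      refine Subgroup.eq_of_le_of_card_ge hP₁ ?_
      rw [hc1]
      exact hc3.trans (hc2.le.trans hc4.ge)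
    rw [← heq]
    exact Subgroup.map_subgroupOf_eq_of_le hT'H
  · have hWp : IsPGroup p (pCoreOf p H) := isPGroup_pCoreOf p H
    have hHW : H ≤ Subgroup.normalizer ((pCoreOf p H : Subgroup G) : Set G) :=
      le_normalizer_pCoreOf p H
    have h5 : IsPGroup p ((pCoreOf p M ⊔ pCoreOf p H : Subgroup G)) :=
      IsPGroup.to_sup_of_normal_right' (isPGroup_pCoreOf p M) hWp (hRH.trans hHW)
    have hWN : pCoreOf p H ≤ Subgroup.normalizer ((pCoreOf p M : Subgroup G) : Set G) :=
      le_sup_right.trans
        (frakM_asym_le_normalizer S hQp hQ1 hQS hQ hSM hM hasym h5 le_sup_left)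
    exact le_inf hWN (hWN.trans (hNR.trans hMdN))
  · have h := congrArg (Subgroup.map H.subtype) h3
    rw [Subgroup.map_commutator, hVmap] at h
    exact h
  · have h := congrArg (Subgroup.map H.subtype) h2
    rw [Subgroup.map_sup, hAmap, htop] at h
    exact h
  · have h := congrArg (Subgroup.map H.subtype) h4
    rw [Subgroup.map_sup, hVmap] at h
    exact h
  · rw [h1, htop]

end Concrete

end Cfsg.Agent.Helper16
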