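import Cfsg.Agent.Helper16.FrakH2
import Cfsg.Agent.Helper16.PIrreducible3

set_option autoImplicit false

namespace Cfsg.Agent.Helper16

open Cfsg
open Cfsg.Agent.Helper17 (mem_map_conj map_conj_map_conj map_conj_one
  map_conj_eq_of_mem_normalizer sylow_smul_coe exists_normalizer_mem_not_mem
  exists_conj_le_sylow conj_mem_map_conj pc CharPA charPA_iff charPA_of_normal le_pc
  charPA_of_pc_le pc_le_pc_of_normal isPGroup_mem_pow le_normalizer_of_conj_mem)

variable {G : Type*} [Group G] {p : ℕ}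

theorem isPClosed_subgroup_iff {D : Subgroup G} :
    IsPClosed p ↥D ↔ ∀ Y : Subgroup G, Y ≤ D → IsPGroup p Y → Y ≤ pCoreOf p D := by
  rw [isPClosed_iff_le_pCore]
  constructor
  · intro h Y hYD hY y hy
    exact ⟨⟨y, hYD hy⟩, h (Y.subgroupOf D) hY.comap_subtype (Subgroup.mem_subgroupOf.mpr hy), rfl⟩
  · intro h Y hY y hy
    have h1 : (y : G) ∈ pCoreOf p D :=
      h (Y.map D.subtype) (Subgroup.map_subtype_le Y) (hY.map _) ⟨y, hy, rfl⟩
    obtain ⟨y', hy', e⟩ := h1
    have e' : y' = y := Subtype.ext e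
    rw [← e']; exact hy'

/-- A member of `ℌ_G(O_p(M))` is generated by its conjugates of `O_p(M)`. -/
theorem frakH_iSup_conj [Fact p.Prime] [Finite G] {M H : Subgroup G} (hH : IsInFrakH p M H) :
    H ≤ ⨆ h : ↥H, (pCoreOf p M).map (MulAut.conj (h : G)).toMonoidHom := by
  obtain ⟨hHc, hRH, hYH, hmin⟩ := hH
  have hN1 : (⨆ h : ↥H, (pCoreOf p M).map (MulAut.conj (h : G)).toMonoidHom) ≤ H := by
    apply iSup_le
    intro h x hx
    rw [mem_map_conj] at hx
    have h1 := H.mul_mem (H.mul_mem h.2 (hRH hx)) (H.inv_mem h.2)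
    have e : (h : G) * ((h : G)⁻¹ * x * (h : G)) * (h : G)⁻¹ = x := by group
    rwa [e] at h1
  have hN2 : H ≤ Subgroup.normalizer
      ((⨆ h : ↥H, (pCoreOf p M).map (MulAut.conj (h : G)).toMonoidHom : Subgroup G) : Set G) :=
    le_normalizer_iSup_conj H (pCoreOf p M)
  have hN3 : pCoreOf p M ≤ ⨆ h : ↥H, (pCoreOf p M).map (MulAut.conj (h : G)).toMonoidHom := by
    have h1 := le_iSup (fun h : ↥H => (pCoreOf p M).map (MulAut.conj (h : G)).toMonoidHom) 1
    have h2 : (pCoreOf p M).map (MulAut.conj ((1 : ↥H) : G)).toMonoidHom = pCoreOf p M := by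
      rw [Subgroup.coe_one, map_conj_one]
    exact h2.symm.le.trans h1
  by_contra hne
  have hlt : (⨆ h : ↥H, (pCoreOf p M).map (MulAut.conj (h : G)).toMonoidHom) < H :=
    lt_of_le_not_ge hN1 hne
  exact hYH ((hmin _ hN3 hlt).trans (pc_le_pc_of_normal hN1 hN2))

/-- A normal subgroup of a member `H` of `ℌ_G(O_p(M))` contains all `p'`-elements of `H` or is
`p`-closed. -/
theorem frakH_dichotomy [Fact p.Prime] [Finite G] (S : Sylow p G) {Q : Subgroup G}
    (hQp : IsPGroup p Q) (hQ1 : Q ≠ ⊥) (hQS : Q ≤ (S : Subgroup G)) (hQ : IsLarge Q)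
    {M : Subgroup G} (hSM : (S : Subgroup G) ≤ M) (hM : IsInFrakM p M)
    (hasym : ¬ IsSymmetricIn (largestPReducedOf p M)) {H : Subgroup G}
    (hH : IsInFrakH p M H) {N₂ : Subgroup G} (hN₂H : N₂ ≤ H)
    (hHN₂ : H ≤ Subgroup.normalizer (N₂ : Set G)) :
    (∀ x ∈ H, (orderOf x).Coprime p → x ∈ N₂) ∨ IsPClosed p ↥N₂ := by
  have hstr := frakH_structure S hQp hQ1 hQS hQ hSM hM hasym hH
  obtain ⟨hHc, hRH, hYH, hmin⟩ := hH
  have hcp := charP_of_mem_charPSubgroups hM.1
  have hYR := largestPReducedOf_le_pCoreOf hcp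
  by_cases hP : N₂ ⊔ pCoreOf p M = H
  · left
    intro x hx hcop
    have hx' : x ∈ pCoreOf p M ⊔ N₂ := by rw [sup_comm, hP]; exact hx
    obtain ⟨a, ha, b, hb, rfl⟩ := mem_sup_of_le_normalizer (hRH.trans hHN₂) hx'
    obtain ⟨k, hk⟩ := isPGroup_mem_pow (isPGroup_pCoreOf p M) ha
    obtain ⟨c', hc', e⟩ := mul_pow_mem_of_normalizer (hHN₂ (hRH ha)) hb (p ^ k)
    apply mem_of_pow_mem_of_coprime_order (n := p ^ k) (Nat.Coprime.pow_left k hcop.symm)
    rw [e, hk, one_mul]; exact hc'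
  · right
    have hPlt : N₂ ⊔ pCoreOf p M < H := lt_of_le_of_ne (sup_le hN₂H hRH) hP
    have hY := hmin _ le_sup_right hPlt
    have hHW₂ : H ≤ Subgroup.normalizer ((pCoreOf p N₂ : Subgroup G) : Set G) :=
      hHN₂.trans (normalizer_le_normalizer_pCoreOf p N₂)
    have hYN : ∀ y ∈ largestPReducedOf p M, ∀ n ∈ N₂, y * n * y⁻¹ * n⁻¹ ∈ pCoreOf p N₂ := by
      intro y hy n hn
      have h1 : pCoreOf p (N₂ ⊔ pCoreOf p M) ⊓ N₂ ≤ pCoreOf p N₂ := by
        apply le_pCoreOf inf_le_right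
        · exact le_normalizer_inf' (le_sup_left.trans (le_normalizer_pCoreOf p _))
            Subgroup.le_normalizer
        · exact (isPGroup_pCoreOf p _).to_le inf_le_left
      apply h1
      refine Subgroup.mem_inf.mpr ⟨?_, ?_⟩
      · have hn' : n ∈ Subgroup.normalizer
            ((pCoreOf p (N₂ ⊔ pCoreOf p M) : Subgroup G) : Set G) :=
          le_normalizer_pCoreOf p _ (Subgroup.mem_sup_left hn)
        have h2 := (Subgroup.mem_normalizer_iff.mp hn' y⁻¹).mp (inv_mem (hY hy))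
        have e : y * n * y⁻¹ * n⁻¹ = y * (n * y⁻¹ * n⁻¹) := by group
        rw [e]; exact mul_mem (hY hy) h2
      · have hy' : y ∈ Subgroup.normalizer (N₂ : Set G) := hHN₂ (hRH (hYR hy))
        exact mul_mem ((Subgroup.mem_normalizer_iff.mp hy' n).mp hn) (inv_mem hn)
    have hconjN : ∀ h ∈ H, ∀ n ∈ N₂, h * n * h⁻¹ ∈ N₂ :=
      fun h hh n hn => (Subgroup.mem_normalizer_iff.mp (hHN₂ hh) n).mp hn
    have hconjW : ∀ h ∈ H, ∀ w ∈ pCoreOf p N₂, h * w * h⁻¹ ∈ pCoreOf p N₂ :=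
      fun h hh w hw => (Subgroup.mem_normalizer_iff.mp (hHW₂ hh) w).mp hw
    let C₂ : Subgroup G :=
      { carrier := {h | h ∈ H ∧ ∀ n ∈ N₂, h * n * h⁻¹ * n⁻¹ ∈ pCoreOf p N₂}
        one_mem' := ⟨H.one_mem, fun n hn => by simp⟩
        mul_mem' := by
          rintro a b ⟨ha, ha'⟩ ⟨hb, hb'⟩
          refine ⟨H.mul_mem ha hb, fun n hn => ?_⟩
          have e : a * b * n * (a * b)⁻¹ * n⁻¹ =
              a * (b * n * b⁻¹ * n⁻¹) * a⁻¹ * (a * n * a⁻¹ * n⁻¹) := by group
          rw [e]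
          exact mul_mem (hconjW a ha _ (hb' n hn)) (ha' n hn)
        inv_mem' := by
          rintro a ⟨ha, ha'⟩
          refine ⟨H.inv_mem ha, fun n hn => ?_⟩
          have hm : a⁻¹ * n * a ∈ N₂ := by simpa using hconjN a⁻¹ (H.inv_mem ha) n hn
          have h1 := ha' _ hm
          have e : a⁻¹ * n * a⁻¹⁻¹ * n⁻¹ =
              (a * (a⁻¹ * n * a) * a⁻¹ * (a⁻¹ * n * a)⁻¹)⁻¹ := by group
          rw [e]; exact inv_mem h1 }
    have hC₂H : C₂ ≤ H := fun h hh => hh.1
    have hYC₂ : largestPReducedOf p M ≤ C₂ := fun y hy => ⟨hRH (hYR hy), hYN y hy⟩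
    have hC₂n : H ≤ Subgroup.normalizer (C₂ : Set G) := by
      apply le_normalizer_of_conj_mem
      rintro k hk a ⟨ha, ha'⟩
      refine ⟨H.mul_mem (H.mul_mem hk ha) (H.inv_mem hk), fun n hn => ?_⟩
      have hm : k⁻¹ * n * k ∈ N₂ := by simpa using hconjN k⁻¹ (H.inv_mem hk) n hn
      have e : k * a * k⁻¹ * n * (k * a * k⁻¹)⁻¹ * n⁻¹ =
          k * (a * (k⁻¹ * n * k) * a⁻¹ * (k⁻¹ * n * k)⁻¹) * k⁻¹ := by group
      rw [e]
      exact hconjW k hk _ (ha' _ hm)
    have hRC₂ : (pResidual p ↥H).map H.subtype ≤ C₂ := by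
      have h1 : (Subgroup.normalClosure
          (((largestPReducedOf p M).subgroupOf H : Subgroup ↥H) : Set ↥H)) ≤
          C₂.subgroupOf H := by
        have : (C₂.subgroupOf H).Normal :=
          (Subgroup.normal_subgroupOf_iff_le_normalizer hC₂H).mpr hC₂n
        apply Subgroup.normalClosure_le_normal
        exact SetLike.coe_subset_coe.mpr (Subgroup.comap_mono hYC₂)
      have h2 := hstr.2.2.2.2.1
      calc (pResidual p ↥H).map H.subtype
          ≤ (pResidual p ↥H).map H.subtype ⊔ largestPReducedOf p M := le_sup_left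
        _ = _ := h2
        _ ≤ (C₂.subgroupOf H).map H.subtype := Subgroup.map_mono h1
        _ ≤ C₂ := by rw [Subgroup.map_subgroupOf_eq_of_le hC₂H]
    intro P
    rw [← Subgroup.normalizer_eq_top_iff, eq_top_iff, ← pResidual_sup_sylow P]
    apply sup_le _ Subgroup.le_normalizer
    show Subgroup.closure {u : ↥N₂ | Nat.Coprime (orderOf u) p} ≤ _
    rw [Subgroup.closure_le]
    intro u hu
    have hu0 : Nat.Coprime (orderOf u) p := hu
    have hu1 : (orderOf (u : G)).Coprime p := by rw [Subgroup.orderOf_coe]; exact hu0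
    have hu2 : (u : G) ∈ C₂ := hRC₂ (mem_map_pResidual_of_coprime (hN₂H u.2) hu1)
    apply mem_normalizer_of_map_conj_eq
    apply map_conj_eq_of_le
    rintro _ ⟨t, ht, rfl⟩
    have h3 := hu2.2 (t : G) t.2
    obtain ⟨w, hw, e⟩ := h3
    have e' : w = u * t * u⁻¹ * t⁻¹ := Subtype.ext (by simpa using e)
    have h4 : u * t * u⁻¹ * t⁻¹ ∈ (P : Subgroup ↥N₂) := e' ▸ (pCore_le_sylow P hw)
    have e2 : (MulAut.conj u).toMonoidHom t = (u * t * u⁻¹ * t⁻¹) * t := by
      simp [MulAut.conj_apply]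
    rw [e2]
    exact mul_mem h4 ht

/-- `H ∈ ℌ_G(O_p(M))` normalizing a `p`-subgroup `Qg` (in use a conjugate of the large subgroup). -/
theorem frakH_large [Fact p.Prime] [Finite G] (S : Sylow p G) {Q : Subgroup G}
    (hQp : IsPGroup p Q) (hQ1 : Q ≠ ⊥) (hQS : Q ≤ (S : Subgroup G)) (hQ : IsLarge Q)
    {M : Subgroup G} (hSM : (S : Subgroup G) ≤ M) (hM : IsInFrakM p M)
    (hasym : ¬ IsSymmetricIn (largestPReducedOf p M)) {H : Subgroup G}
    (hH : IsInFrakH p M H) {Qg : Subgroup G} (hQgp : IsPGroup p Qg)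
    (hHQ : H ≤ Subgroup.normalizer (Qg : Set G)) :
    Qg ≤ pCoreOf p (H ⊔ Qg) ∧
    pCoreOf p (H ⊔ Qg) ≤ Subgroup.normalizer ((pCoreOf p M : Subgroup G) : Set G) ∧
    Subgroup.normalizer ((pCoreOf p M : Subgroup G) : Set G) ≤
      Subgroup.normalizer ((largestPReducedOf p M : Subgroup G) : Set G) ∧
    Subgroup.normalizer ((largestPReducedOf p M : Subgroup G) : Set G) =
      M ⊔ Subgroup.centralizer ((largestPReducedOf p M : Subgroup G) : Set G) ∧
    (H.subgroupOf (H ⊔ Qg)).Normal ∧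
    (pResidual p ↥H).map H.subtype = (pResidual p ↥(H ⊔ Qg)).map (H ⊔ Qg).subtype ∧
    IsPIrreducible p ↥(H ⊔ Qg) := by
  obtain ⟨hHc, hRH, hYH, hmin⟩ := id hH
  have hcp := charP_of_mem_charPSubgroups hM.1
  have hYR := largestPReducedOf_le_pCoreOf hcp
  have hMdN := frakM_le_normalizer hM
  have hNR := frakM_normalizer_pCoreOf_le S hQp hQ1 hQ hSM hM
  have hHle : H ≤ H ⊔ Qg := le_sup_left
  have hQle : Qg ≤ H ⊔ Qg := le_sup_right
  have hHQn : H ⊔ Qg ≤ Subgroup.normalizer (Qg : Set G) := sup_le hHQ Subgroup.le_normalizer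
  have h1 : Qg ≤ pCoreOf p (H ⊔ Qg) := le_pCoreOf hQle hHQn hQgp
  have h2 : pCoreOf p (H ⊔ Qg) ≤ Subgroup.normalizer ((pCoreOf p M : Subgroup G) : Set G) := by
    have h5 : IsPGroup p ((pCoreOf p M ⊔ pCoreOf p (H ⊔ Qg) : Subgroup G)) :=
      IsPGroup.to_sup_of_normal_right' (isPGroup_pCoreOf p M) (isPGroup_pCoreOf p _)
        ((hRH.trans hHle).trans (le_normalizer_pCoreOf p _))
    exact le_sup_right.trans
      (frakM_asym_le_normalizer S hQp hQ1 hQS hQ hSM hM hasym h5 le_sup_left)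
  have h3 : Subgroup.normalizer ((pCoreOf p M : Subgroup G) : Set G) ≤
      Subgroup.normalizer ((largestPReducedOf p M : Subgroup G) : Set G) := hNR.trans hMdN
  have h4 : Subgroup.normalizer ((largestPReducedOf p M : Subgroup G) : Set G) =
      M ⊔ Subgroup.centralizer ((largestPReducedOf p M : Subgroup G) : Set G) := by
    apply le_antisymm _ hMdN
    apply frakM_overgroup_le S hQp hQ1 hQ hSM hM (le_sup_left.trans hMdN)
    intro hb
    have hS1 : (S : Subgroup G) ≠ ⊥ := by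
      intro h; apply hQ1; rw [h] at hQS; exact le_bot_iff.mp hQS
    have hY1 : largestPReducedOf p M ≠ ⊥ := largestPReducedOf_ne_bot S hS1 hSM hcp
    apply hY1
    have h6 : largestPReducedOf p M ≤ pCoreOf p
        (Subgroup.normalizer ((largestPReducedOf p M : Subgroup G) : Set G)) :=
      le_pCoreOf Subgroup.le_normalizer le_rfl ((isPGroup_pCoreOf p M).to_le hYR)
    rw [hb] at h6; exact le_bot_iff.mp h6
  have hQgH : Qg ≤ Subgroup.normalizer (H : Set G) := by
    intro q hq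
    apply mem_normalizer_of_map_conj_eq
    apply map_conj_eq_of_le
    have hcl := frakH_iSup_conj hH
    refine (Subgroup.map_mono hcl).trans ?_
    rw [Subgroup.map_iSup]
    apply iSup_le
    intro h
    rw [map_conj_map_conj]
    have hq' : (h : G)⁻¹ * q * h ∈ Qg := by
      have h7 := (Subgroup.mem_normalizer_iff.mp (hHQ (H.inv_mem h.2)) q).mp hq
      simpa using h7
    have e : q * (h : G) = (h : G) * ((h : G)⁻¹ * q * h) := by group
    rw [e, ← map_conj_map_conj, map_conj_eq_of_mem_normalizer _ (h2 (h1 hq'))]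
    intro x hx
    rw [mem_map_conj] at hx
    have h7 := H.mul_mem (H.mul_mem h.2 (hRH hx)) (H.inv_mem h.2)
    have e2 : (h : G) * ((h : G)⁻¹ * x * (h : G)) * (h : G)⁻¹ = x := by group
    rwa [e2] at h7
  have hHQH : H ⊔ Qg ≤ Subgroup.normalizer (H : Set G) := sup_le Subgroup.le_normalizer hQgH
  have h5 : (H.subgroupOf (H ⊔ Qg)).Normal :=
    (Subgroup.normal_subgroupOf_iff_le_normalizer hHle).mpr hHQH
  have hstep1 : ∀ x ∈ H ⊔ Qg, (orderOf x).Coprime p → x ∈ H := by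
    intro x hx hcop
    have hx' : x ∈ Qg ⊔ H := by rw [sup_comm]; exact hx
    obtain ⟨a, ha, b, hb, rfl⟩ := mem_sup_of_le_normalizer hQgH hx'
    obtain ⟨k, hk⟩ := isPGroup_mem_pow hQgp ha
    obtain ⟨c', hc', e⟩ := mul_pow_mem_of_normalizer (hQgH ha) hb (p ^ k)
    apply mem_of_pow_mem_of_coprime_order (n := p ^ k) (Nat.Coprime.pow_left k hcop.symm)
    rw [e, hk, one_mul]; exact hc'
  have h6 : (pResidual p ↥H).map H.subtype =
      (pResidual p ↥(H ⊔ Qg)).map (H ⊔ Qg).subtype := by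
    rw [map_pResidual_eq, map_pResidual_eq]
    congr 1
    ext x
    constructor
    · rintro ⟨hx, hc⟩; exact ⟨hHle hx, hc⟩
    · rintro ⟨hx, hc⟩; exact ⟨hstep1 x hx hc, hc⟩
  refine ⟨h1, h2, h3, h4, h5, h6, ?_, ?_⟩
  · intro hcl
    rw [isPClosed_subgroup_iff] at hcl
    have hY := hcl (largestPReducedOf p M) ((hYR.trans hRH).trans hHle)
      ((isPGroup_pCoreOf p M).to_le hYR)
    apply hYH
    have h8 : pCoreOf p (H ⊔ Qg) ⊓ H ≤ pCoreOf p H := by
      apply le_pCoreOf inf_le_right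
      · exact le_normalizer_inf' (hHle.trans (le_normalizer_pCoreOf p _)) Subgroup.le_normalizer
      · exact (isPGroup_pCoreOf p _).to_le inf_le_left
    exact (le_inf hY (hYR.trans hRH)).trans h8
  · intro N hNn hNcl
    have hker : IsPGroup p ((H ⊔ Qg).subtype.ker) := by
      rw [Subgroup.ker_subtype]; exact IsPGroup.of_bot
    have hN'cl : ¬ IsPClosed p ↥(N.map (H ⊔ Qg).subtype) :=
      fun h => hNcl ((isPClosed_map_iff _ hker N).mpr h)
    have hN'le : N.map (H ⊔ Qg).subtype ≤ H ⊔ Qg := Subgroup.map_subtype_le N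
    have hN'n : H ⊔ Qg ≤ Subgroup.normalizer
        ((N.map (H ⊔ Qg).subtype : Subgroup G) : Set G) := by
      apply le_normalizer_of_conj_mem
      rintro x hx _ ⟨n, hn, rfl⟩
      exact ⟨⟨x, hx⟩ * n * ⟨x, hx⟩⁻¹, hNn.conj_mem n hn ⟨x, hx⟩, rfl⟩
    have hclaim : ∀ x ∈ H ⊔ Qg, (orderOf x).Coprime p → x ∈ N.map (H ⊔ Qg).subtype := by
      generalize N.map (H ⊔ Qg).subtype = N' at hN'cl hN'le hN'n
      intro x hx hcop
      have hxH := hstep1 x hx hcop
      have hQgN' : Qg ≤ Subgroup.normalizer (N' : Set G) := hQle.trans hN'n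
      have hH₂n : H ≤ Subgroup.normalizer ((H ⊓ (N' ⊔ Qg) : Subgroup G) : Set G) :=
        le_normalizer_inf' Subgroup.le_normalizer (le_normalizer_sup' (hHle.trans hN'n) hHQ)
      rcases frakH_dichotomy S hQp hQ1 hQS hQ hSM hM hasym hH inf_le_left hH₂n with hA | hB
      · have hx2 : x ∈ Qg ⊔ N' := by rw [sup_comm]; exact (hA x hxH hcop).2
        obtain ⟨a, ha, b, hb, rfl⟩ := mem_sup_of_le_normalizer hQgN' hx2
        obtain ⟨k, hk⟩ := isPGroup_mem_pow hQgp ha
        obtain ⟨c', hc', e⟩ := mul_pow_mem_of_normalizer (hQgN' ha) hb (p ^ k)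
        apply mem_of_pow_mem_of_coprime_order (n := p ^ k) (Nat.Coprime.pow_left k hcop.symm)
        rw [e, hk, one_mul]; exact hc'
      · exfalso
        apply hN'cl
        rw [isPClosed_subgroup_iff] at hB ⊢
        intro Y₂ hY₂N hY₂p
        have hQgH₂ : Qg ≤ Subgroup.normalizer ((H ⊓ (N' ⊔ Qg) : Subgroup G) : Set G) :=
          le_normalizer_inf' hQgH (le_normalizer_sup' hQgN' Subgroup.le_normalizer)
        have hQgT : Qg ≤ Subgroup.normalizer
            ((pCoreOf p (H ⊓ (N' ⊔ Qg)) : Subgroup G) : Set G) :=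
          hQgH₂.trans (normalizer_le_normalizer_pCoreOf p _)
        have hHT : H ≤ Subgroup.normalizer
            ((pCoreOf p (H ⊓ (N' ⊔ Qg)) : Subgroup G) : Set G) :=
          hH₂n.trans (normalizer_le_normalizer_pCoreOf p _)
        have hBp : IsPGroup p ((Qg ⊔ pCoreOf p (H ⊓ (N' ⊔ Qg)) : Subgroup G)) :=
          IsPGroup.to_sup_of_normal_right' hQgp (isPGroup_pCoreOf p _) hQgT
        have hBn : H ⊔ Qg ≤ Subgroup.normalizer
            ((Qg ⊔ pCoreOf p (H ⊓ (N' ⊔ Qg)) : Subgroup G) : Set G) :=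
          sup_le (le_normalizer_sup' hHQ hHT) (le_normalizer_sup' Subgroup.le_normalizer hQgT)
        have hY₂B : Y₂ ≤ Qg ⊔ pCoreOf p (H ⊓ (N' ⊔ Qg)) := by
          intro y hy
          have hyHQ : y ∈ Qg ⊔ H := by rw [sup_comm]; exact hN'le (hY₂N hy)
          obtain ⟨q, hq, h, hh, rfl⟩ := mem_sup_of_le_normalizer hQgH hyHQ
          have hh2 : h ∈ H ⊓ (N' ⊔ Qg) := by
            refine Subgroup.mem_inf.mpr ⟨hh, ?_⟩
            have e : h = q⁻¹ * (q * h) := by group
            rw [e]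
            exact mul_mem (Subgroup.mem_sup_right (inv_mem hq)) (Subgroup.mem_sup_left (hY₂N hy))
          have hY₂Qg : Y₂ ≤ Subgroup.normalizer (Qg : Set G) := (hY₂N.trans hN'le).trans hHQn
          have hYQp : IsPGroup p ((Y₂ ⊔ Qg : Subgroup G)) :=
            IsPGroup.to_sup_of_normal_right' hY₂p hQgp hY₂Qg
          have hh3 : h ∈ (Y₂ ⊔ Qg) ⊓ (H ⊓ (N' ⊔ Qg)) := by
            refine Subgroup.mem_inf.mpr ⟨?_, hh2⟩
            have e : h = q⁻¹ * (q * h) := by group
            rw [e]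
            exact mul_mem (Subgroup.mem_sup_right (inv_mem hq)) (Subgroup.mem_sup_left hy)
          have hh4 := hB _ inf_le_right (hYQp.to_le inf_le_left) hh3
          exact mul_mem (Subgroup.mem_sup_left hq) (Subgroup.mem_sup_right hh4)
        have h9 : (Qg ⊔ pCoreOf p (H ⊓ (N' ⊔ Qg))) ⊓ N' ≤ pCoreOf p N' := by
          apply le_pCoreOf inf_le_right
          · exact le_normalizer_inf' (hN'le.trans hBn) Subgroup.le_normalizer
          · exact hBp.to_le inf_le_left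
        exact (le_inf hY₂B hY₂N).trans h9
    show Subgroup.closure {x : ↥(H ⊔ Qg) | Nat.Coprime (orderOf x) p} ≤ N
    rw [Subgroup.closure_le]
    intro x hx
    have hx0 : Nat.Coprime (orderOf x) p := hx
    have hx1 : (orderOf (x : G)).Coprime p := by rw [Subgroup.orderOf_coe]; exact hx0
    obtain ⟨x', hx', e⟩ := hclaim x x.2 hx1
    have e' : x' = x := Subtype.ext e
    rw [← e']; exact hx'

end Cfsg.Agent.Helper16
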