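import Cfsg.Agent.Helper16.Averaging3
import Cfsg.Agent.Helper16.AvgApps
import Cfsg.Agent.Helper16.PReducedClosure
import Cfsg.Agent.Helper17.CharP
import Cfsg.Agent.Helper4.Subnormal

set_option autoImplicit false

namespace Cfsg.Agent.Helper16

open Cfsg

variable {H : Type*} [Group H] {p : ℕ}

/-- A normal subgroup `L` of a group of characteristic `p` has characteristic `p`:
`C_L(O_p(H) ∩ L) ≤ O_p(H) ∩ L`. -/
theorem charP_normal_inf [Finite H] [Fact p.Prime]
    (hH : Subgroup.centralizer (pCore p H : Set H) ≤ pCore p H) (L : Subgroup H)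
    [hL : L.Normal] :
    L ⊓ Subgroup.centralizer ((pCore p H ⊓ L : Subgroup H) : Set H) ≤ pCore p H ⊓ L := by
  have h1 : Cfsg.Agent.Helper17.CharPA p (⊤ : Subgroup H) :=
    Cfsg.Agent.Helper17.charPA_top_iff.mpr hH
  have hN : Subgroup.normalizer (L : Set H) = ⊤ := Subgroup.normalizer_eq_top_iff.mpr hL
  have h2 : Cfsg.Agent.Helper17.CharPA p L :=
    Cfsg.Agent.Helper17.charPA_of_normal h1 le_top (by rw [hN])
  have h3 : Cfsg.Agent.Helper17.pc p L ≤ pCore p H ⊓ L := by
    refine le_inf ?_ (Cfsg.Agent.Helper17.pc_le L)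
    have := Cfsg.Agent.Helper17.pc_le_pc_of_normal (p := p) (le_top : L ≤ ⊤) (by rw [hN])
    rwa [Cfsg.Agent.Helper17.pc_top] at this
  intro x hx
  apply h3
  apply h2
  exact ⟨hx.1, Subgroup.centralizer_le h3 hx.2⟩

theorem mem_centralizer_omegaOne_iff {G : Type*} [Group G] {X : Subgroup G} {x : G} :
    x ∈ Subgroup.centralizer ((omegaOne p X : Subgroup G) : Set G) ↔
      ∀ y ∈ X, y ^ p = 1 → y * x = x * y := by
  constructor
  · intro h y hy hp
    exact Subgroup.mem_centralizer_iff.mp h y (omegaOne_gen_mem hy hp)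
  · intro h
    rw [Subgroup.mem_centralizer_iff]
    intro y hy
    have h1 : omegaOne p X ≤ Subgroup.centralizer ({x} : Set G) := by
      refine omegaOne_le_iff.mpr (fun y hy hp => ?_)
      rw [Subgroup.mem_centralizer_iff]
      intro g hg
      rw [Set.mem_singleton_iff] at hg
      subst hg
      exact (h y hy hp).symm
    exact (Subgroup.mem_centralizer_iff.mp (h1 hy) x (Set.mem_singleton x)).symm

/-- Kieler's lemma for a normal subgroup, with named subgroups. -/
theorem kieler_normal_aux [Finite H] [hp : Fact p.Prime]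
    (hH : Subgroup.centralizer (pCore p H : Set H) ≤ pCore p H) (T : Sylow p H)
    (L : Subgroup H) [hL : L.Normal] (Z Z₀ : Subgroup H)
    (hZ : Z = omegaOne p ((T : Subgroup H) ⊓ Subgroup.centralizer ((T : Subgroup H) : Set H)))
    (hZ₀ : Z₀ = omegaOne p (((T : Subgroup H) ⊓ L) ⊓
        Subgroup.centralizer ((((T : Subgroup H) ⊓ L) : Subgroup H) : Set H))) :
    L ⊓ Subgroup.centralizer (Z : Set H) = L ⊓ Subgroup.centralizer (Z₀ : Set H) := by
  have hPn : (pCore p H).Normal := pCore_normal p H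
  have hPT : pCore p H ≤ (T : Subgroup H) := pCore_le_sylow T
  have hLN : Subgroup.normalizer (L : Set H) = ⊤ := Subgroup.normalizer_eq_top_iff.mpr hL
  have hidxL : (((T : Subgroup H) ⊓ L).relIndex L).Coprime p := by
    rw [Subgroup.inf_relIndex_right]
    have h1 : (T : Subgroup H).relIndex L ∣ (T : Subgroup H).index :=
      Cfsg.Agent.Helper4.relIndex_dvd_index_of_normal_right _ _
    have h2 : ((T : Subgroup H).index).Coprime p :=
      ((Nat.Prime.coprime_iff_not_dvd hp.out).mpr T.not_dvd_index).symm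
    exact Nat.Coprime.coprime_dvd_left h1 h2
  have hidx : ∀ C : Subgroup H, (T : Subgroup H) ⊓ L ≤ C → C ≤ L →
      (((T : Subgroup H) ⊓ L).relIndex C).Coprime p := by
    intro C h1 h2
    have := Subgroup.relIndex_mul_relIndex _ _ _ h1 h2
    exact Nat.Coprime.coprime_dvd_left (Dvd.intro _ this) hidxL
  have hZmem : ∀ z ∈ Z, z ∈ (T : Subgroup H) ∧
      z ∈ Subgroup.centralizer ((T : Subgroup H) : Set H) ∧ z ^ p = 1 := by
    intro z hz
    rw [hZ] at hz
    have := omegaOne_center_le_omegaCenter p _ hz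
    exact ⟨this.1.1, this.1.2, this.2⟩
  have hZgen : ∀ z, z ∈ (T : Subgroup H) →
      z ∈ Subgroup.centralizer ((T : Subgroup H) : Set H) → z ^ p = 1 → z ∈ Z := by
    intro z h1 h2 h3
    rw [hZ]
    exact omegaOne_gen_mem ⟨h1, h2⟩ h3
  have hZ₀mem : ∀ z ∈ Z₀, z ∈ (T : Subgroup H) ∧ z ∈ L ∧
      z ∈ Subgroup.centralizer ((((T : Subgroup H) ⊓ L) : Subgroup H) : Set H) ∧ z ^ p = 1 := by
    intro z hz
    rw [hZ₀] at hz
    have := omegaOne_center_le_omegaCenter p _ hz
    exact ⟨this.1.1.1, this.1.1.2, this.1.2, this.2⟩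
  have hZ₀gen : ∀ z, z ∈ (T : Subgroup H) → z ∈ L →
      z ∈ Subgroup.centralizer ((((T : Subgroup H) ⊓ L) : Subgroup H) : Set H) → z ^ p = 1 →
      z ∈ Z₀ := by
    intro z h1 h2 h3 h4
    rw [hZ₀]
    exact omegaOne_gen_mem ⟨⟨h1, h2⟩, h3⟩ h4
  have hT₀C₀ : (T : Subgroup H) ⊓ L ≤ L ⊓ Subgroup.centralizer (Z₀ : Set H) := by
    intro t ht
    refine ⟨ht.2, Subgroup.mem_centralizer_iff.mpr (fun z₀ hz₀ => ?_)⟩
    exact (Subgroup.mem_centralizer_iff.mp (hZ₀mem z₀ hz₀).2.2.1 t ht).symm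
  have hTcZ : (T : Subgroup H) ≤ Subgroup.centralizer (Z : Set H) := by
    intro t ht
    refine Subgroup.mem_centralizer_iff.mpr (fun z hz => ?_)
    exact (Subgroup.mem_centralizer_iff.mp (hZmem z hz).2.1 t ht).symm
  have hTD : (T : Subgroup H) ⊓ L ≤ L ⊓ Subgroup.centralizer (Z : Set H) :=
    fun t ht => ⟨ht.2, hTcZ ht.1⟩
  apply le_antisymm
  · -- `C_L(Z) ≤ C_L(Z₀)`
    intro x hx
    refine ⟨hx.1, ?_⟩
    haveI hPLn : (pCore p H ⊓ L).Normal := Subgroup.normal_inf_normal _ _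
    haveI hVn : (omegaCenter p (pCore p H ⊓ L)).Normal := omegaCenter_normal
    have hTC : (T : Subgroup H) ≤ Subgroup.normalizer
        ((L ⊓ Subgroup.centralizer (Z : Set H) : Subgroup H) : Set H) :=
      le_normalizer_inf' (by rw [hLN]; exact le_top) (hTcZ.trans Subgroup.le_normalizer)
    have hTT₀ : (T : Subgroup H) ≤ Subgroup.normalizer
        (((T : Subgroup H) ⊓ L : Subgroup H) : Set H) :=
      le_normalizer_inf' Subgroup.le_normalizer (by rw [hLN]; exact le_top)
    have key := fixed_of_sylow_fixed (omegaCenter p (pCore p H ⊓ L))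
      (fun a ha b hb => omegaCenter_commute ha hb) (fun a ha => ha.2)
      (L ⊓ Subgroup.centralizer (Z : Set H)) ((T : Subgroup H) ⊓ L) (T : Subgroup H)
      (hidx _ hTD inf_le_left) hTD T.2 hTC hTT₀
      (fun m hm hmT y hy =>
        (Subgroup.mem_centralizer_iff.mp hy.2 m
          (hZgen m (hPT hm.1.1.1) (Subgroup.mem_centralizer_iff.mpr hmT) hm.2)).symm)
    show x ∈ Subgroup.centralizer (Z₀ : Set H)
    rw [Subgroup.mem_centralizer_iff]
    intro z₀ hz₀
    obtain ⟨h1, h2, h3, h4⟩ := hZ₀mem z₀ hz₀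
    have hle : pCore p H ⊓ L ≤ (T : Subgroup H) ⊓ L := inf_le_inf_right L hPT
    have h5 : z₀ ∈ Subgroup.centralizer ((pCore p H ⊓ L : Subgroup H) : Set H) :=
      Subgroup.centralizer_le hle h3
    have h6 : z₀ ∈ pCore p H ⊓ L := charP_normal_inf hH L ⟨h2, h5⟩
    have h7 : z₀ ∈ Subgroup.centralizer
        ((L ⊓ Subgroup.centralizer (Z : Set H) : Subgroup H) : Set H) :=
      key ⟨⟨⟨h6, h5⟩, h4⟩, h3⟩
    exact (Subgroup.mem_centralizer_iff.mp h7 x hx).symm
  · -- `C_L(Z₀) ≤ C_L(Z)`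
    intro x hx
    refine ⟨hx.1, ?_⟩
    haveI hMn : (omegaCenter p (pCore p H)).Normal := omegaCenter_normal
    show x ∈ Subgroup.centralizer (Z : Set H)
    rw [Subgroup.mem_centralizer_iff]
    intro z hz
    obtain ⟨hzT, hzC, hzp⟩ := hZmem z hz
    have hzCP : z ∈ Subgroup.centralizer (pCore p H : Set H) := Subgroup.centralizer_le hPT hzC
    have hzM : z ∈ omegaCenter p (pCore p H) := ⟨⟨hH hzCP, hzCP⟩, hzp⟩
    obtain ⟨c, hc, hcC, u, hu, he⟩ := avg_decomp (omegaCenter p (pCore p H))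
      (fun a ha b hb => omegaCenter_commute ha hb) (fun a ha => ha.2)
      (L ⊓ Subgroup.centralizer (Z₀ : Set H)) ((T : Subgroup H) ⊓ L)
      (hidx _ hT₀C₀ inf_le_left) hzM (fun t ht => Subgroup.mem_centralizer_iff.mp hzC t ht.1)
    have huL : u ∈ L := by
      refine (Subgroup.closure_le _).mpr ?_ hu
      rintro w ⟨y, hy, rfl⟩
      have h1 : z * y⁻¹ * z⁻¹ ∈ L := hL.conj_mem _ (L.inv_mem hy.1) z
      have e : y * z * y⁻¹ * z⁻¹ = y * (z * y⁻¹ * z⁻¹) := by group
      show y * z * y⁻¹ * z⁻¹ ∈ L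
      rw [e]
      exact L.mul_mem hy.1 h1
    have hue : u = c⁻¹ * z := by rw [he]; group
    have huM : u ∈ omegaCenter p (pCore p H) := by
      rw [hue]
      exact Subgroup.mul_mem _ (Subgroup.inv_mem _ hc) hzM
    have huC : u ∈ Subgroup.centralizer ((((T : Subgroup H) ⊓ L) : Subgroup H) : Set H) := by
      rw [Subgroup.mem_centralizer_iff]
      intro t ht
      have h1 : t * c = c * t := hcC t (hT₀C₀ ht)
      have h2 : t * z = z * t := Subgroup.mem_centralizer_iff.mp hzC t ht.1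
      have h3 : t * c⁻¹ = c⁻¹ * t := by
        calc t * c⁻¹ = c⁻¹ * (c * t) * c⁻¹ := by group
          _ = c⁻¹ * (t * c) * c⁻¹ := by rw [h1]
          _ = c⁻¹ * t := by group
      rw [hue]
      calc t * (c⁻¹ * z) = (t * c⁻¹) * z := by group
        _ = (c⁻¹ * t) * z := by rw [h3]
        _ = c⁻¹ * (t * z) := by group
        _ = c⁻¹ * (z * t) := by rw [h2]
        _ = c⁻¹ * z * t := by group
    have huZ₀ : u ∈ Z₀ := hZ₀gen u (hPT huM.1.1) huL huC huM.2
    have h1 : u * x = x * u := Subgroup.mem_centralizer_iff.mp hx.2 u huZ₀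
    have h2 : x * c = c * x := hcC x hx
    rw [he]
    calc c * u * x = c * (u * x) := by group
      _ = c * (x * u) := by rw [h1]
      _ = (c * x) * u := by group
      _ = (x * c) * u := by rw [h2]
      _ = x * (c * u) := by group

/-- Kieler's lemma for a normal subgroup. -/
theorem kieler_normal [Finite H] [hp : Fact p.Prime]
    (hH : Subgroup.centralizer (pCore p H : Set H) ≤ pCore p H) (T : Sylow p H)
    (L : Subgroup H) [hL : L.Normal] :
    L ⊓ Subgroup.centralizer ((omegaOne p ((T : Subgroup H) ⊓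
        Subgroup.centralizer ((T : Subgroup H) : Set H))) : Set H) =
    L ⊓ Subgroup.centralizer ((omegaOne p (((T : Subgroup H) ⊓ L) ⊓
        Subgroup.centralizer ((((T : Subgroup H) ⊓ L) : Subgroup H) : Set H))) : Set H) :=
  kieler_normal_aux hH T L _ _ rfl rfl

theorem charPA_of_isSubnormal [Finite H] [Fact p.Prime]
    (hH : Subgroup.centralizer (pCore p H : Set H) ≤ pCore p H) (K : Subgroup H)
    (hK : K.IsSubnormal) : Cfsg.Agent.Helper17.CharPA p K := by
  induction hK with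
  | top => exact Cfsg.Agent.Helper17.charPA_top_iff.mpr hH
  | step A B hle hB hN ih =>
    exact Cfsg.Agent.Helper17.charPA_of_normal ih hle
      ((Subgroup.normal_subgroupOf_iff_le_normalizer hle).mp hN)

/-- Transport of `C(Ω₁(Z(A)))` between a subgroup `K` and the ambient group. -/
theorem mem_centralizer_omegaOne_subgroupOf {K A : Subgroup H} (hA : A ≤ K) (A' : Subgroup ↥K)
    (hA' : A' = A.subgroupOf K) (x : ↥K) :
    x ∈ Subgroup.centralizer ((omegaOne p (A' ⊓ Subgroup.centralizer (A' : Set ↥K)) :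
        Subgroup ↥K) : Set ↥K) ↔
      (x : H) ∈ Subgroup.centralizer ((omegaOne p (A ⊓ Subgroup.centralizer (A : Set H)) :
        Subgroup H) : Set H) := by
  subst hA'
  rw [mem_centralizer_omegaOne_iff, mem_centralizer_omegaOne_iff]
  constructor
  · intro h y hy hp
    have h1 : (⟨y, hA hy.1⟩ : ↥K) ∈ A.subgroupOf K ⊓
        Subgroup.centralizer ((A.subgroupOf K : Subgroup ↥K) : Set ↥K) := by
      refine Subgroup.mem_inf.mpr ⟨Subgroup.mem_subgroupOf.mpr hy.1, ?_⟩
      rw [Subgroup.mem_centralizer_iff]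
      intro g hg
      apply Subtype.ext
      exact Subgroup.mem_centralizer_iff.mp hy.2 (g : H) (Subgroup.mem_subgroupOf.mp hg)
    have h2 := h ⟨y, hA hy.1⟩ h1 (Subtype.ext (by rw [Subgroup.coe_pow]; exact hp))
    exact congrArg Subtype.val h2
  · intro h y hy hp
    apply Subtype.ext
    refine h (y : H) (Subgroup.mem_inf.mpr ⟨Subgroup.mem_subgroupOf.mp hy.1, ?_⟩) ?_
    · rw [Subgroup.mem_centralizer_iff]
      intro a ha
      have := Subgroup.mem_centralizer_iff.mp hy.2 ⟨a, hA ha⟩ (Subgroup.mem_subgroupOf.mpr ha)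
      exact congrArg Subtype.val this
    · have := congrArg Subtype.val hp
      rwa [Subgroup.coe_pow] at this

/-- **Kieler's lemma**: in a group `H` of characteristic `p` with Sylow `p`-subgroup `T`, for a
subnormal subgroup `L` we have `C_L(Ω₁(Z(T))) = C_L(Ω₁(Z(T ∩ L)))`. -/
theorem kieler [Finite H] [hp : Fact p.Prime]
    (hH : Subgroup.centralizer (pCore p H : Set H) ≤ pCore p H) (T : Sylow p H)
    (L : Subgroup H) (hL : L.IsSubnormal) :
    L ⊓ Subgroup.centralizer ((omegaOne p ((T : Subgroup H) ⊓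
        Subgroup.centralizer ((T : Subgroup H) : Set H))) : Set H) =
    L ⊓ Subgroup.centralizer ((omegaOne p (((T : Subgroup H) ⊓ L) ⊓
        Subgroup.centralizer ((((T : Subgroup H) ⊓ L) : Subgroup H) : Set H))) : Set H) := by
  induction hL with
  | top =>
    have e : (T : Subgroup H) ⊓ ⊤ = (T : Subgroup H) := inf_top_eq _
    rw [e]
  | step L K hle hK hN ih =>
    obtain ⟨Q, hQ⟩ := Cfsg.Agent.Helper4.exists_sylow_subgroupOf_of_isSubnormal p T K hK
    have hcharK : Subgroup.centralizer (pCore p ↥K : Set ↥K) ≤ pCore p ↥K :=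
      (Cfsg.Agent.Helper17.charPA_iff K).mp (charPA_of_isSubnormal hH K hK)
    haveI := hN
    have key := kieler_normal hcharK Q (L.subgroupOf K)
    have e1 : (Q : Subgroup ↥K) = ((T : Subgroup H) ⊓ K).subgroupOf K := by
      rw [hQ, Subgroup.inf_subgroupOf_right]
    have e2 : (Q : Subgroup ↥K) ⊓ L.subgroupOf K = ((T : Subgroup H) ⊓ L).subgroupOf K := by
      rw [hQ]
      ext y
      simp only [Subgroup.mem_inf, Subgroup.mem_subgroupOf]
    have t1 := fun x : ↥K => mem_centralizer_omegaOne_subgroupOf (p := p)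
      (inf_le_right : (T : Subgroup H) ⊓ K ≤ K) (Q : Subgroup ↥K) e1 x
    have t2 := fun x : ↥K => mem_centralizer_omegaOne_subgroupOf (p := p)
      ((inf_le_right : (T : Subgroup H) ⊓ L ≤ L).trans hle) _ e2 x
    ext x
    constructor
    · rintro ⟨hxL, hxC⟩
      refine ⟨hxL, ?_⟩
      have h1 : x ∈ K ⊓ Subgroup.centralizer ((omegaOne p (((T : Subgroup H) ⊓ K) ⊓
          Subgroup.centralizer ((((T : Subgroup H) ⊓ K) : Subgroup H) : Set H))) : Set H) := by
        rw [← ih]; exact ⟨hle hxL, hxC⟩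
      have h2 : (⟨x, hle hxL⟩ : ↥K) ∈ L.subgroupOf K ⊓ Subgroup.centralizer
          ((omegaOne p ((Q : Subgroup ↥K) ⊓
            Subgroup.centralizer (((Q : Subgroup ↥K)) : Set ↥K))) : Set ↥K) :=
        ⟨Subgroup.mem_subgroupOf.mpr hxL, (t1 ⟨x, hle hxL⟩).mpr h1.2⟩
      rw [key] at h2
      exact (t2 ⟨x, hle hxL⟩).mp h2.2
    · rintro ⟨hxL, hxC⟩
      refine ⟨hxL, ?_⟩
      have h2 : (⟨x, hle hxL⟩ : ↥K) ∈ L.subgroupOf K ⊓ Subgroup.centralizer
          ((omegaOne p (((Q : Subgroup ↥K) ⊓ L.subgroupOf K) ⊓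
            Subgroup.centralizer ((((Q : Subgroup ↥K) ⊓ L.subgroupOf K) : Subgroup ↥K) :
              Set ↥K))) : Set ↥K) :=
        ⟨Subgroup.mem_subgroupOf.mpr hxL, (t2 ⟨x, hle hxL⟩).mpr hxC⟩
      rw [← key] at h2
      have h1 : x ∈ K ⊓ Subgroup.centralizer ((omegaOne p (((T : Subgroup H) ⊓ K) ⊓
          Subgroup.centralizer ((((T : Subgroup H) ⊓ K) : Subgroup H) : Set H))) : Set H) :=
        ⟨hle hxL, (t1 ⟨x, hle hxL⟩).mp h2.2⟩
      rw [← ih] at h1
      exact h1.2

end Cfsg.Agent.Helper16
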