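import Mathlib
import Cfsg.Prelude.Def_LocalStructure
import Cfsg.Agent.Helper17.Basic
import Cfsg.Agent.Helper16.PCore
import Cfsg.Agent.Helper16.PReducedOf
import Cfsg.Agent.Helper16.WeaklyClosed
import Cfsg.Agent.Helper16.FrakM
import Cfsg.Agent.Helper16.ParabolicChar
import Cfsg.Agent.Helper16.YMinimal

set_option autoImplicit false

namespace Cfsg.Agent.Helper16

open Cfsg
open Cfsg.Agent.Helper17 (mem_map_conj map_conj_map_conj map_conj_one
  map_conj_eq_of_mem_normalizer sylow_smul_coe exists_normalizer_mem_not_mem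
  exists_conj_le_sylow conj_mem_map_conj)

variable {H : Type*} [Group H] {p : ℕ}

/-- the conjugates of `M` -/
def llOm (M : Subgroup H) : Set (Subgroup H) :=
  {K | ∃ g : H, K = M.map (MulAut.conj g).toMonoidHom}

theorem llOm_conj {M K : Subgroup H} (hK : K ∈ llOm M) (x : H) :
    K.map (MulAut.conj x).toMonoidHom ∈ llOm M := by
  obtain ⟨g, rfl⟩ := hK
  exact ⟨x * g, map_conj_map_conj M g x⟩

/-- `M` is the unique coatom containing the Sylow subgroup `T`, and is not normal. -/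
structure LLData (T : Sylow p H) (M : Subgroup H) : Prop where
  coatom : IsCoatom M
  le : (T : Subgroup H) ≤ M
  uniq : ∀ K : Subgroup H, IsCoatom K → (T : Subgroup H) ≤ K → K = M
  not_normal : ¬ M.Normal

variable {T : Sylow p H} {M : Subgroup H}

theorem ll_isCoatom_map_conj {M : Subgroup H} (hM : IsCoatom M) (g : H) :
    IsCoatom (M.map (MulAut.conj g).toMonoidHom) := by
  have e : M.map (MulAut.conj g).toMonoidHom =
      M.comap ((MulAut.conj g⁻¹ : H ≃* H) : H →* H) := by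
    ext x
    rw [mem_map_conj, Subgroup.mem_comap]
    simp
  rw [e]
  exact (Subgroup.isCoatom_comap (MulAut.conj g⁻¹ : H ≃* H)).mpr hM

theorem LLData.om_coatom (D : LLData T M) {K : Subgroup H} (hK : K ∈ llOm M) : IsCoatom K := by
  obtain ⟨g, rfl⟩ := hK
  exact ll_isCoatom_map_conj D.coatom g

theorem LLData.om_eq_of_le (D : LLData T M) {K K' : Subgroup H} (hK : K ∈ llOm M)
    (hK' : K' ∈ llOm M) (h : K ≤ K') : K = K' := by
  by_contra hne
  exact (D.om_coatom hK').1 ((D.om_coatom hK).2 K' (lt_of_le_of_ne h hne))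

theorem LLData.sylow_om [Finite H] [Fact p.Prime] (D : LLData T M) (S : Sylow p H) :
    ∃ K ∈ llOm M, (S : Subgroup H) ≤ K ∧
      ∀ X : Subgroup H, (S : Subgroup H) ≤ X → X ≠ ⊤ → X ≤ K := by
  obtain ⟨g, hg⟩ := MulAction.exists_smul_eq H T S
  have hS : (S : Subgroup H) = (T : Subgroup H).map (MulAut.conj g).toMonoidHom := by
    rw [← hg, sylow_smul_coe]
  refine ⟨M.map (MulAut.conj g).toMonoidHom, ⟨g, rfl⟩, ?_, ?_⟩
  · rw [hS]; exact Subgroup.map_mono D.le
  · intro X hSX hX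
    obtain ⟨C, hC, hXC⟩ := (eq_top_or_exists_le_coatom X).resolve_left hX
    have h1 : (T : Subgroup H) ≤ C.map (MulAut.conj g⁻¹).toMonoidHom := by
      rw [← map_conj_le_iff, ← hS]
      exact hSX.trans hXC
    have h2 := D.uniq _ (ll_isCoatom_map_conj hC g⁻¹) h1
    have h3 : C = M.map (MulAut.conj g).toMonoidHom := by
      rw [← h2, map_conj_map_conj, mul_inv_cancel, map_conj_one]
    rw [← h3]; exact hXC

theorem LLData.om_eq_of_sylow [Finite H] [Fact p.Prime] (D : LLData T M) (S : Sylow p H)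
    {K K' : Subgroup H} (hK : K ∈ llOm M) (hK' : K' ∈ llOm M) (h : (S : Subgroup H) ≤ K)
    (h' : (S : Subgroup H) ≤ K') : K = K' := by
  obtain ⟨K₀, hK₀, -, hX⟩ := D.sylow_om S
  have e1 := D.om_eq_of_le hK hK₀ (hX K h (D.om_coatom hK).1)
  have e2 := D.om_eq_of_le hK' hK₀ (hX K' h' (D.om_coatom hK').1)
  rw [e1, e2]

theorem LLData.le_om_of_sylow [Finite H] [Fact p.Prime] (D : LLData T M) (S : Sylow p H)
    {K : Subgroup H} (hK : K ∈ llOm M) (h : (S : Subgroup H) ≤ K) {X : Subgroup H}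
    (hSX : (S : Subgroup H) ≤ X) (hX : X ≠ ⊤) : X ≤ K := by
  obtain ⟨K₀, hK₀, -, hX₀⟩ := D.sylow_om S
  have e1 := D.om_eq_of_le hK hK₀ (hX₀ K h (D.om_coatom hK).1)
  rw [e1]; exact hX₀ X hSX hX

theorem LLData.exists_om_of_isPGroup [Finite H] [Fact p.Prime] (D : LLData T M)
    {B : Subgroup H} (hB : IsPGroup p B) : ∃ K ∈ llOm M, B ≤ K := by
  obtain ⟨S, hS⟩ := hB.exists_le_sylow
  obtain ⟨K, hK, hSK, -⟩ := D.sylow_om S
  exact ⟨K, hK, hS.trans hSK⟩

theorem LLData.exists_sylow_between [Finite H] [hp : Fact p.Prime] (D : LLData T M)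
    {B : Subgroup H} (hB : IsPGroup p B) {K : Subgroup H} (hK : K ∈ llOm M) (hBK : B ≤ K) :
    ∃ S : Sylow p H, B ≤ (S : Subgroup H) ∧ (S : Subgroup H) ≤ K := by
  obtain ⟨g, hg⟩ := hK
  obtain ⟨Q, hQ⟩ := (hB.comap_subtype (K := K)).exists_le_sylow
  have hQp : IsPGroup p ((Q : Subgroup ↥K).map K.subtype) := Q.2.map _
  have hTK : ((g • T : Sylow p H) : Subgroup H) ≤ K := by
    rw [sylow_smul_coe, hg]; exact Subgroup.map_mono D.le
  have hidx : ¬ p ∣ ((Q : Subgroup ↥K).map K.subtype).index := by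
    rw [Subgroup.index_map_subtype]
    intro hd
    rcases (Nat.Prime.dvd_mul hp.out).mp hd with h1 | h1
    · exact Q.not_dvd_index h1
    · exact (g • T).not_dvd_index (dvd_trans h1 (Subgroup.index_dvd_of_le hTK))
  refine ⟨hQp.toSylow hidx, ?_, ?_⟩
  · rw [IsPGroup.toSylow_coe]
    have := Subgroup.map_mono (f := K.subtype) (show B.subgroupOf K ≤ Q from hQ)
    rwa [Subgroup.map_subgroupOf_eq_of_le hBK] at this
  · rw [IsPGroup.toSylow_coe]; exact Subgroup.map_subtype_le _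

theorem LLData.mem_of_map_conj_eq (D : LLData T M) {K : Subgroup H} (hK : K ∈ llOm M) {y : H}
    (h : K.map (MulAut.conj y).toMonoidHom = K) : y ∈ K := by
  have hy : y ∈ Subgroup.normalizer (K : Set H) := mem_normalizer_of_map_conj_eq h
  by_contra hyK
  have hlt : K < Subgroup.normalizer (K : Set H) :=
    lt_of_le_of_ne Subgroup.le_normalizer (fun e => hyK (e ▸ hy))
  have htop := (D.om_coatom hK).2 _ hlt
  have hn : K.Normal := Subgroup.normalizer_eq_top_iff.mp htop
  obtain ⟨g, rfl⟩ := hK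
  apply D.not_normal
  have e : M = (M.map (MulAut.conj g).toMonoidHom).map (MulAut.conj g⁻¹).toMonoidHom := by
    rw [map_conj_map_conj, inv_mul_cancel, map_conj_one]
  have e2 : (M.map (MulAut.conj g).toMonoidHom).map (MulAut.conj g⁻¹).toMonoidHom =
      M.map (MulAut.conj g).toMonoidHom :=
    map_conj_eq_of_mem_normalizer _ (by rw [htop]; exact Subgroup.mem_top _)
  rw [e, e2]; exact hn

theorem LLData.exists_om_ne (D : LLData T M) : ∃ K ∈ llOm M, K ≠ M := by
  by_contra hcon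
  apply D.not_normal
  rw [← Subgroup.normalizer_eq_top_iff, eq_top_iff]
  intro g _
  apply mem_normalizer_of_map_conj_eq
  by_contra hne
  exact hcon ⟨_, ⟨g, rfl⟩, hne⟩

theorem LLData.pCore_le_om [Finite H] [Fact p.Prime] (D : LLData T M) {K : Subgroup H}
    (hK : K ∈ llOm M) : pCore p H ≤ K := by
  obtain ⟨g, rfl⟩ := hK
  intro x hx
  rw [mem_map_conj]
  have h1 : g⁻¹ * x * g ∈ pCore p H := by
    simpa using (pCore_normal p H).conj_mem x hx g⁻¹
  exact D.le (pCore_le_sylow T h1)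

theorem ll_conj_le_wc {A S : Subgroup H} {g : H}
    (h : A.map (MulAut.conj g).toMonoidHom ≤ S) :
    A.map (MulAut.conj g).toMonoidHom ≤ weakClosure A S := by
  unfold weakClosure
  exact le_iSup_of_le (⟨g, h⟩ : {g : H // A.map (MulAut.conj g).toMonoidHom ≤ S}) le_rfl

theorem ll_wc_le {A S R : Subgroup H}
    (h : ∀ g : H, A.map (MulAut.conj g).toMonoidHom ≤ S →
      A.map (MulAut.conj g).toMonoidHom ≤ R) : weakClosure A S ≤ R := by
  unfold weakClosure
  exact iSup_le (fun g => h g.1 g.2)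

theorem ll_wc_le_self (A S : Subgroup H) : weakClosure A S ≤ S := ll_wc_le (fun _ h => h)

theorem ll_wc_mono (A : Subgroup H) {S S' : Subgroup H} (h : S ≤ S') :
    weakClosure A S ≤ weakClosure A S' :=
  ll_wc_le (fun _ hg => ll_conj_le_wc (hg.trans h))

theorem ll_wc_map_conj_le {A S S' : Subgroup H} (x : H)
    (h : S.map (MulAut.conj x).toMonoidHom ≤ S') :
    (weakClosure A S).map (MulAut.conj x).toMonoidHom ≤ weakClosure A S' := by
  unfold weakClosure
  rw [Subgroup.map_iSup]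
  apply iSup_le
  intro g
  rw [map_conj_map_conj]
  have h1 : A.map (MulAut.conj (x * g.1)).toMonoidHom ≤ S' := by
    rw [← map_conj_map_conj]; exact (Subgroup.map_mono g.2).trans h
  exact le_iSup_of_le (⟨x * g.1, h1⟩ : {g : H // A.map (MulAut.conj g).toMonoidHom ≤ S'}) le_rfl

theorem LLData.wc_unique [Finite H] [Fact p.Prime] (D : LLData T M) {A : Subgroup H}
    (hAp : IsPGroup p A) (hA : ¬ A ≤ pCore p H) (S : Sylow p H) {K K' : Subgroup H}
    (hK : K ∈ llOm M) (hK' : K' ∈ llOm M) (hSK : (S : Subgroup H) ≤ K)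
    (hW : weakClosure A (S : Subgroup H) ≤ K') : K' = K := by
  have hWS : weakClosure A (S : Subgroup H) ≤ S := ll_wc_le_self A S
  have hWp : IsPGroup p (weakClosure A (S : Subgroup H)) := S.2.to_le hWS
  obtain ⟨S', hWS', hS'K'⟩ := D.exists_sylow_between hWp hK' hW
  obtain ⟨u, hu⟩ := MulAction.exists_smul_eq H S S'
  have hS' : (S' : Subgroup H) = (S : Subgroup H).map (MulAut.conj u).toMonoidHom := by
    rw [← hu, sylow_smul_coe]
  have h0 : (weakClosure A (S : Subgroup H)).map (MulAut.conj u⁻¹).toMonoidHom ≤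
      (S : Subgroup H) := by
    rw [map_conj_le_iff, inv_inv, ← hS']; exact hWS'
  have h1 : (weakClosure A (S : Subgroup H)).map (MulAut.conj u⁻¹).toMonoidHom ≤
      weakClosure A (S : Subgroup H) := by
    have h1' : ∀ g : {g : H // A.map (MulAut.conj g).toMonoidHom ≤ (S : Subgroup H)},
        (A.map (MulAut.conj g.1).toMonoidHom).map (MulAut.conj u⁻¹).toMonoidHom ≤
          weakClosure A (S : Subgroup H) := by
      intro g
      rw [map_conj_map_conj]
      apply ll_conj_le_wc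
      rw [← map_conj_map_conj]
      exact (Subgroup.map_mono (ll_conj_le_wc g.2)).trans h0
    unfold weakClosure at h1' ⊢
    rw [Subgroup.map_iSup]
    exact iSup_le h1'
  have h2 : u⁻¹ ∈ Subgroup.normalizer ((weakClosure A (S : Subgroup H) : Subgroup H) : Set H) :=
    mem_normalizer_of_map_conj_eq (map_conj_eq_of_le h1)
  have h3 : (S : Subgroup H) ≤
      Subgroup.normalizer ((weakClosure A (S : Subgroup H) : Subgroup H) : Set H) := by
    intro s hs
    apply mem_normalizer_of_map_conj_eq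
    apply map_conj_eq_of_le
    apply ll_wc_map_conj_le
    rw [map_conj_eq_of_mem_normalizer _ (Subgroup.le_normalizer hs)]
  by_cases htop : Subgroup.normalizer ((weakClosure A (S : Subgroup H) : Subgroup H) : Set H) = ⊤
  · exfalso
    have hWn : (weakClosure A (S : Subgroup H)).Normal := Subgroup.normalizer_eq_top_iff.mp htop
    have hWle : weakClosure A (S : Subgroup H) ≤ pCore p H := le_pCore hWn hWp
    obtain ⟨g, hg⟩ := exists_conj_le_sylow S A hAp
    apply hA
    intro a ha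
    have h4 : g * a * g⁻¹ ∈ pCore p H := hWle (ll_conj_le_wc hg (conj_mem_map_conj A g ha))
    have h5 := (pCore_normal p H).conj_mem _ h4 g⁻¹
    simpa [mul_assoc] using h5
  · have h4 := D.le_om_of_sylow S hK hSK h3 htop
    have h5 : u ∈ K := by
      have := K.inv_mem (h4 h2)
      simpa using this
    have h6 : (S' : Subgroup H) ≤ K := by
      rw [hS']
      intro x hx
      rw [mem_map_conj] at hx
      have := K.mul_mem (K.mul_mem h5 (hSK hx)) (K.inv_mem h5)
      simpa [mul_assoc] using this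
    exact D.om_eq_of_sylow S' hK' hK hS'K' h6

/-- `O_p(H)` times the weak closure of `A` in `P` -/
def llW (p : ℕ) (A P : Subgroup H) : Subgroup H := pCore p H ⊔ weakClosure A P

/-- `p`-subgroups generated by `O_p(H)` and conjugates of `A`, lying in two conjugates of `M` -/
def llFam (p : ℕ) (M A : Subgroup H) : Set (Subgroup H) :=
  {P | IsPGroup p P ∧ pCore p H ≤ P ∧ P ≤ llW p A P ∧
    ∃ K ∈ llOm M, ∃ K' ∈ llOm M, K ≠ K' ∧ P ≤ K ∧ P ≤ K'}

theorem LLData.exists_conj_normalizer [Finite H] [Fact p.Prime] (D : LLData T M)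
    {A : Subgroup H} (hAp : IsPGroup p A) (hA : ¬ A ≤ pCore p H) {P : Subgroup H}
    (hP : P ∈ llFam p M A) (hmax : ∀ P' ∈ llFam p M A, Nat.card P' ≤ Nat.card P)
    (S : Sylow p H) (hPS : P ≤ (S : Subgroup H)) {K : Subgroup H} (hK : K ∈ llOm M)
    (hSK : (S : Subgroup H) ≤ K) :
    ∃ k : H, A.map (MulAut.conj k).toMonoidHom ≤ Subgroup.normalizer (P : Set H) ∧
      IsPGroup p (P ⊔ A.map (MulAut.conj k).toMonoidHom : Subgroup H) ∧
      ∀ K' ∈ llOm M, P ⊔ A.map (MulAut.conj k).toMonoidHom ≤ K' → K' = K := by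
  obtain ⟨hPp, hRP, hPW, K₁, hK₁, K₂, hK₂, hne, hPK₁, hPK₂⟩ := hP
  have hPN₁ : P ≤ (S : Subgroup H) ⊓ Subgroup.normalizer (P : Set H) :=
    le_inf hPS Subgroup.le_normalizer
  have hex : ∃ k : H, A.map (MulAut.conj k).toMonoidHom ≤
      (S : Subgroup H) ⊓ Subgroup.normalizer (P : Set H) ∧
      ¬ A.map (MulAut.conj k).toMonoidHom ≤ P := by
    by_contra hcon
    have hcon' : ∀ k : H, A.map (MulAut.conj k).toMonoidHom ≤
        (S : Subgroup H) ⊓ Subgroup.normalizer (P : Set H) →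
        A.map (MulAut.conj k).toMonoidHom ≤ P := by
      intro k hk
      by_contra hk2
      exact hcon ⟨k, hk, hk2⟩
    have hW1 : llW p A ((S : Subgroup H) ⊓ Subgroup.normalizer (P : Set H)) ≤ P :=
      sup_le hRP (ll_wc_le hcon')
    have hNN : ∀ s ∈ (S : Subgroup H),
        s ∈ Subgroup.normalizer
          ((((S : Subgroup H) ⊓ Subgroup.normalizer (P : Set H) : Subgroup H)) : Set H) →
        s ∈ (S : Subgroup H) ⊓ Subgroup.normalizer (P : Set H) := by
      intro s hs hsN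
      refine ⟨hs, ?_⟩
      apply mem_normalizer_of_map_conj_eq
      apply map_conj_eq_of_le
      refine (Subgroup.map_mono hPW).trans ?_
      refine le_trans ?_ hW1
      unfold llW
      rw [Subgroup.map_sup]
      apply sup_le_sup
      · apply le_of_eq
        apply map_conj_eq_of_mem_normalizer
        rw [Subgroup.normalizer_eq_top_iff.mpr (pCore_normal p H)]
        exact Subgroup.mem_top _
      · apply ll_wc_map_conj_le
        calc P.map (MulAut.conj s).toMonoidHom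
            ≤ ((S : Subgroup H) ⊓ Subgroup.normalizer (P : Set H)).map
                (MulAut.conj s).toMonoidHom := Subgroup.map_mono hPN₁
          _ = (S : Subgroup H) ⊓ Subgroup.normalizer (P : Set H) :=
              map_conj_eq_of_mem_normalizer _ hsN
    have hN₁S : (S : Subgroup H) ⊓ Subgroup.normalizer (P : Set H) = (S : Subgroup H) := by
      by_contra hne'
      obtain ⟨x, hxS, hxN, hxn⟩ := exists_normalizer_mem_not_mem
        ((S : Subgroup H) ⊓ Subgroup.normalizer (P : Set H)) (S : Subgroup H) S.2 inf_le_left hne'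
      exact hxN (hNN x hxS hxn)
    have hwS : weakClosure A (S : Subgroup H) ≤ P := by
      rw [hN₁S] at hW1
      exact le_sup_right.trans hW1
    have e1 := D.wc_unique hAp hA S hK hK₁ hSK (hwS.trans hPK₁)
    have e2 := D.wc_unique hAp hA S hK hK₂ hSK (hwS.trans hPK₂)
    exact hne (e1.trans e2.symm)
  obtain ⟨k, hk1, hk2⟩ := hex
  have hP'S : P ⊔ A.map (MulAut.conj k).toMonoidHom ≤ (S : Subgroup H) :=
    sup_le hPS (hk1.trans inf_le_left)
  have hP'p : IsPGroup p (P ⊔ A.map (MulAut.conj k).toMonoidHom : Subgroup H) := S.2.to_le hP'S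
  refine ⟨k, hk1.trans inf_le_right, hP'p, ?_⟩
  intro K' hK' hle
  by_contra hKK'
  have hmem : P ⊔ A.map (MulAut.conj k).toMonoidHom ∈ llFam p M A := by
    refine ⟨hP'p, hRP.trans le_sup_left, ?_, K, hK, K', hK', fun e => hKK' e.symm,
      hP'S.trans hSK, hle⟩
    apply sup_le
    · exact hPW.trans (sup_le_sup le_rfl (ll_wc_mono A le_sup_left))
    · exact (ll_conj_le_wc le_sup_right).trans le_sup_right
  have hcard := hmax _ hmem
  have heq : P = P ⊔ A.map (MulAut.conj k).toMonoidHom :=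
    Subgroup.eq_of_le_of_card_ge le_sup_left hcard
  apply hk2
  rw [heq]
  exact le_sup_right

theorem LLData.normalizer_not_le [Finite H] [Fact p.Prime] (D : LLData T M)
    {A : Subgroup H} (hAp : IsPGroup p A) (hA : ¬ A ≤ pCore p H) {P : Subgroup H}
    (hP : P ∈ llFam p M A) (hmax : ∀ P' ∈ llFam p M A, Nat.card P' ≤ Nat.card P)
    {K₀ : Subgroup H} (hK₀ : K₀ ∈ llOm M) : ¬ Subgroup.normalizer (P : Set H) ≤ K₀ := by
  intro hle
  obtain ⟨hPp, hRP, hPW, K₁, hK₁, K₂, hK₂, hne, hPK₁, hPK₂⟩ := id hP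
  have key : ∀ K ∈ llOm M, P ≤ K → K₀ = K := by
    intro K hK hPK
    obtain ⟨S, hPS, hSK⟩ := D.exists_sylow_between hPp hK hPK
    obtain ⟨k, hk1, -, hk2⟩ := D.exists_conj_normalizer hAp hA hP hmax S hPS hK hSK
    exact hk2 K₀ hK₀ ((sup_le Subgroup.le_normalizer hk1).trans hle)
  exact hne ((key K₁ hK₁ hPK₁).symm.trans (key K₂ hK₂ hPK₂))

theorem LLData.exists_good [Finite H] [Fact p.Prime] (D : LLData T M)
    {A : Subgroup H} (hAp : IsPGroup p A) (hA : ¬ A ≤ pCore p H) :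
    ∃ (P K : Subgroup H), IsPGroup p P ∧ pCore p H ≤ P ∧ K ∈ llOm M ∧
      A ≤ Subgroup.normalizer (P : Set H) ∧
      (∀ K' ∈ llOm M, P ⊔ A ≤ K' → K' = K) ∧
      (∀ K' ∈ llOm M, ¬ Subgroup.normalizer (P : Set H) ≤ K') := by
  have hne : (llFam p M A).Nonempty := by
    obtain ⟨K, hK, hKM⟩ := D.exists_om_ne
    exact ⟨pCore p H, pCore_isPGroup p H, le_rfl, le_sup_left, K, hK, M,
      ⟨1, (map_conj_one M).symm⟩, hKM, D.pCore_le_om hK, D.pCore_le_om ⟨1, (map_conj_one M).symm⟩⟩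
  obtain ⟨P, hP, hmax⟩ := Set.exists_max_image (llFam p M A) (fun P => Nat.card P)
    (Set.toFinite _) hne
  obtain ⟨hPp, hRP, hPW, K₁, hK₁, K₂, hK₂, hne12, hPK₁, hPK₂⟩ := id hP
  obtain ⟨S, hPS, hSK⟩ := D.exists_sylow_between hPp hK₁ hPK₁
  obtain ⟨k, hk1, hk3, hk2⟩ := D.exists_conj_normalizer hAp hA hP hmax S hPS hK₁ hSK
  have hAk : (A.map (MulAut.conj k).toMonoidHom).map (MulAut.conj k⁻¹).toMonoidHom = A := by
    rw [map_conj_map_conj, inv_mul_cancel, map_conj_one]
  refine ⟨P.map (MulAut.conj k⁻¹).toMonoidHom, K₁.map (MulAut.conj k⁻¹).toMonoidHom,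
    hPp.map _, ?_, llOm_conj hK₁ k⁻¹, ?_, ?_, ?_⟩
  · intro x hx
    rw [mem_map_conj, inv_inv]
    exact hRP ((pCore_normal p H).conj_mem x hx k)
  · rw [normalizer_map_conj, ← hAk]
    exact Subgroup.map_mono hk1
  · intro K' hK' hle
    have h1 : (P.map (MulAut.conj k⁻¹).toMonoidHom ⊔ A).map (MulAut.conj k).toMonoidHom ≤
        K'.map (MulAut.conj k).toMonoidHom := Subgroup.map_mono hle
    rw [Subgroup.map_sup, map_conj_map_conj, mul_inv_cancel, map_conj_one] at h1
    have h2 := hk2 _ (llOm_conj hK' k) h1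
    rw [← h2, map_conj_map_conj, inv_mul_cancel, map_conj_one]
  · intro K' hK' hle
    rw [normalizer_map_conj, map_conj_le_iff, inv_inv] at hle
    exact D.normalizer_not_le hAp hA hP hmax (llOm_conj hK' k) hle

theorem LLData.l_lemma [Finite H] [Fact p.Prime] (D : LLData T M)
    {A : Subgroup H} (hAp : IsPGroup p A) (hA : ¬ A ≤ pCore p H) :
    ∃ L : Subgroup H, A ⊔ pCore p H ≤ L ∧ ∃ L₀ : Subgroup H, A ⊔ pCoreOf p L ≤ L₀ ∧ L₀ < L ∧
      (∀ X : Subgroup H, A ⊔ pCoreOf p L ≤ X → X < L → X ≤ L₀) ∧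
      (∃ g : H, L₀ = L ⊓ M.map (MulAut.conj g).toMonoidHom) ∧
      ∀ x ∈ L, x ∉ L₀ → (A ⊔ A.map (MulAut.conj x).toMonoidHom) ⊔ pCoreOf p L = L := by
  obtain ⟨P, K, hPp, hRP, hK, hAN, huniq, hfpf⟩ := D.exists_good hAp hA
  have hN : Subgroup.normalizer (P : Set H) ∈
      {L : Subgroup H | P ⊔ A ≤ L ∧ L ≤ Subgroup.normalizer (P : Set H) ∧
        ∀ K' ∈ llOm M, ¬ L ≤ K'} :=
    ⟨sup_le Subgroup.le_normalizer hAN, le_rfl, hfpf⟩
  obtain ⟨L, hL, hmin⟩ := Set.exists_min_image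
    {L : Subgroup H | P ⊔ A ≤ L ∧ L ≤ Subgroup.normalizer (P : Set H) ∧
        ∀ K' ∈ llOm M, ¬ L ≤ K'} (fun L => Nat.card L) (Set.toFinite _) ⟨_, hN⟩
  obtain ⟨hPAL, hLN, hLfpf⟩ := hL
  have hPL : P ≤ L := le_sup_left.trans hPAL
  have hAL : A ≤ L := le_sup_right.trans hPAL
  have hPO : P ≤ pCoreOf p L := le_pCoreOf hPL hLN hPp
  have hPAB : P ⊔ A ≤ A ⊔ pCoreOf p L := sup_le (hPO.trans le_sup_right) le_sup_left
  have hBL : A ⊔ pCoreOf p L ≤ L := sup_le hAL (pCoreOf_le p L)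
  have hBp : IsPGroup p (A ⊔ pCoreOf p L : Subgroup H) :=
    IsPGroup.to_sup_of_normal_right' hAp (isPGroup_pCoreOf p L)
      (hAL.trans (le_normalizer_pCoreOf p L))
  obtain ⟨K₁, hK₁, hBK₁⟩ := D.exists_om_of_isPGroup hBp
  have hK₁K : K₁ = K := huniq K₁ hK₁ (hPAB.trans hBK₁)
  rw [hK₁K] at hBK₁
  have hmax : ∀ X : Subgroup H, A ⊔ pCoreOf p L ≤ X → X < L → X ≤ L ⊓ K := by
    intro X hBX hXL
    have hX : ∃ K' ∈ llOm M, X ≤ K' := by
      by_contra hcon
      have hXmem : X ∈ {L : Subgroup H | P ⊔ A ≤ L ∧ L ≤ Subgroup.normalizer (P : Set H) ∧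
          ∀ K' ∈ llOm M, ¬ L ≤ K'} :=
        ⟨hPAB.trans hBX, hXL.le.trans hLN, fun K' hK' hle => hcon ⟨K', hK', hle⟩⟩
      have h1 := hmin X hXmem
      exact hXL.ne (Subgroup.eq_of_le_of_card_ge hXL.le h1)
    obtain ⟨K', hK', hXK'⟩ := hX
    have h2 := huniq K' hK' ((hPAB.trans hBX).trans hXK')
    rw [h2] at hXK'
    exact le_inf hXL.le hXK'
  refine ⟨L, sup_le hAL (hRP.trans hPL), L ⊓ K, le_inf hBL hBK₁, ?_, hmax, ?_, ?_⟩
  · refine lt_of_le_of_ne inf_le_left (fun e => hLfpf K hK ?_)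
    rw [← e]; exact inf_le_right
  · obtain ⟨g, hg⟩ := hK
    exact ⟨g, by rw [hg]⟩
  · intro x hxL hx0
    by_contra hne
    have hAx : A.map (MulAut.conj x).toMonoidHom ≤ L := by
      intro y hy
      rw [mem_map_conj] at hy
      have := L.mul_mem (L.mul_mem hxL (hAL hy)) (L.inv_mem hxL)
      simpa [mul_assoc] using this
    have hYL : (A ⊔ A.map (MulAut.conj x).toMonoidHom) ⊔ pCoreOf p L ≤ L :=
      sup_le (sup_le hAL hAx) (pCoreOf_le p L)
    have hBY : A ⊔ pCoreOf p L ≤ (A ⊔ A.map (MulAut.conj x).toMonoidHom) ⊔ pCoreOf p L :=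
      sup_le (le_sup_left.trans le_sup_left) le_sup_right
    have hYK := (hmax _ hBY (lt_of_le_of_ne hYL hne)).trans inf_le_right
    have hBx : (A ⊔ pCoreOf p L).map (MulAut.conj x).toMonoidHom ≤ K := by
      rw [Subgroup.map_sup]
      apply sup_le
      · exact (le_sup_right.trans le_sup_left).trans hYK
      · rw [map_conj_eq_of_mem_normalizer _ (le_normalizer_pCoreOf p L hxL)]
        exact le_sup_right.trans hYK
    have hB2 : A ⊔ pCoreOf p L ≤ K.map (MulAut.conj x⁻¹).toMonoidHom := map_conj_le_iff.mp hBx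
    have e := huniq _ (llOm_conj hK x⁻¹) (hPAB.trans hB2)
    have hxK : x⁻¹ ∈ K := D.mem_of_map_conj_eq hK e
    exact hx0 ⟨hxL, by simpa using K.inv_mem hxK⟩

end Cfsg.Agent.Helper16
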