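import Cfsg.Prelude.Def_LocalStructure
import Mathlib.Order.Atoms.Finite
import Cfsg.Agent.Helper16.PCore

set_option autoImplicit false

namespace Cfsg.Agent.Helper16

open Cfsg

theorem isCoatom_map_of_surjective {G H : Type*} [Group G] [Group H] (f : G →* H)
    (hf : Function.Surjective f) {M : Subgroup G} (hker : f.ker ≤ M) (hM : IsCoatom M) :
    IsCoatom (M.map f) := by
  constructor
  · intro h
    apply hM.1
    have := congrArg (Subgroup.comap f) h
    rwa [Subgroup.comap_map_eq_self hker, Subgroup.comap_top] at this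
  · intro K hK
    have h1 : M < K.comap f := by
      refine lt_of_le_of_ne ?_ ?_
      · rw [← Subgroup.map_le_iff_le_comap]; exact hK.le
      · intro h
        apply hK.ne
        rw [h, Subgroup.map_comap_eq_self_of_surjective hf]
    have h2 := hM.2 _ h1
    rw [← Subgroup.map_comap_eq_self_of_surjective hf K, h2, Subgroup.map_top_of_surjective f hf]

/-- If `T` lies in a unique coatom `M`, and `N ≤ M` is normal, then `N` lies in every coatom
containing a conjugate of `T`. -/
theorem normal_le_coatom_of_conj {H : Type*} [Group H] {T M : Subgroup H}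
    (hMu : ∀ K : Subgroup H, IsCoatom K ∧ T ≤ K → K = M) {N : Subgroup H} (hN : N.Normal)
    (hNM : N ≤ M) (g : H) {C : Subgroup H} (hC : IsCoatom C)
    (hTC : T.map (MulAut.conj g).toMonoidHom ≤ C) : N ≤ C := by
  have hC' : IsCoatom (C.comap ((MulAut.conj g : H ≃* H) : H →* H)) :=
    (Subgroup.isCoatom_comap (MulAut.conj g : H ≃* H)).mpr hC
  have hT : T ≤ C.comap ((MulAut.conj g : H ≃* H) : H →* H) :=
    Subgroup.map_le_iff_le_comap.mp hTC
  have hM := hMu _ ⟨hC', hT⟩
  intro n hn
  have h1 : g⁻¹ * n * g ∈ N := by simpa using hN.conj_mem n hn g⁻¹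
  have h2 := hNM h1
  rw [← hM, Subgroup.mem_comap] at h2
  have e : ((MulAut.conj g : H ≃* H) : H →* H) (g⁻¹ * n * g) = n := by
    simp only [MonoidHom.coe_coe, MulAut.conj_apply]
    group
  rwa [e] at h2

/-- if a Sylow `p`-subgroup together with the normal subgroup `N` generates `H`, the quotient
is a `p`-group -/
theorem isPGroup_quotient_of_sup_eq_top {H : Type*} [Group H] {p : ℕ} (T : Subgroup H)
    (hT : IsPGroup p T) (N : Subgroup H) [N.Normal] (hTN : T ⊔ N = ⊤) : IsPGroup p (H ⧸ N) := by
  have hsurj := QuotientGroup.mk'_surjective N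
  have h1 : T.map (QuotientGroup.mk' N) = ⊤ := by
    have := congrArg (Subgroup.map (QuotientGroup.mk' N)) hTN
    rw [Subgroup.map_sup, Subgroup.map_top_of_surjective _ hsurj, QuotientGroup.map_mk'_self,
      sup_bot_eq] at this
    exact this
  have hp : IsPGroup p ↥(T.map (QuotientGroup.mk' N)) := hT.map (QuotientGroup.mk' N)
  rw [h1] at hp
  exact IsPGroup.of_equiv hp Subgroup.topEquiv

/-- `O^p(H) ≤ N` whenever `H ⧸ N` is a `p`-group -/
theorem pResidual_le_of_isPGroup_quotient {H : Type*} [Group H] {p : ℕ} (N : Subgroup H)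
    [N.Normal] (h : IsPGroup p (H ⧸ N)) : pResidual p H ≤ N := by
  show Subgroup.closure {g : H | Nat.Coprime (orderOf g) p} ≤ N
  rw [Subgroup.closure_le]
  intro x hx
  obtain ⟨k, hk⟩ := h (QuotientGroup.mk' N x)
  have h1 : (orderOf (QuotientGroup.mk' N x)).Coprime p :=
    Nat.Coprime.coprime_dvd_left (orderOf_map_dvd _ x) hx
  have h2 := eq_one_of_coprime_of_pow h1 hk
  exact (QuotientGroup.eq_one_iff x).mp h2

end Cfsg.Agent.Helper16
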