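import Mathlib
import Cfsg.Prelude.Def_LocalEven

set_option autoImplicit false

namespace Cfsg.Agent.Helper16

open Cfsg Matrix

open scoped commutatorElement

section NatSL2

/-- the upper unitriangular subgroup of `SL₂(F)` -/
def upperUni (F : Type*) [Field F] : Subgroup (Matrix.SpecialLinearGroup (Fin 2) F) where
  carrier := {M | M.1 0 0 = 1 ∧ M.1 1 0 = 0 ∧ M.1 1 1 = 1}
  mul_mem' := by
    rintro A B ⟨h1, h2, h3⟩ ⟨h4, h5, h6⟩
    simp only [Set.mem_setOf_eq, Matrix.SpecialLinearGroup.coe_mul, Matrix.mul_apply,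
      Fin.sum_univ_two] at *
    simp [h1, h2, h3, h4, h5, h6]
  one_mem' := by simp
  inv_mem' := by
    rintro A ⟨h1, h2, h3⟩
    simp only [Set.mem_setOf_eq, Matrix.SpecialLinearGroup.coe_inv, Matrix.adjugate_fin_two] at *
    simp [h1, h2, h3]

variable {F : Type*} [Field F]

theorem mem_upperUni_iff (M : Matrix.SpecialLinearGroup (Fin 2) F) :
    M ∈ upperUni F ↔ M.1 0 0 = 1 ∧ M.1 1 0 = 0 ∧ M.1 1 1 = 1 := Iff.rfl

theorem sl2_det_eq (M : Matrix.SpecialLinearGroup (Fin 2) F) :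
    M.1 0 0 * M.1 1 1 - M.1 0 1 * M.1 1 0 = 1 := by
  have h := M.2
  rw [Matrix.det_fin_two] at h
  exact h

theorem sl2_inv_mulVec (A : Matrix.SpecialLinearGroup (Fin 2) F) (w : Fin 2 → F) :
    (A⁻¹).1 *ᵥ (A.1 *ᵥ w) = w := by
  rw [Matrix.mulVec_mulVec, ← Matrix.SpecialLinearGroup.coe_mul, inv_mul_cancel]
  simp

theorem sl2_mulVec_inv (A : Matrix.SpecialLinearGroup (Fin 2) F) (w : Fin 2 → F) :
    A.1 *ᵥ ((A⁻¹).1 *ᵥ w) = w := by
  rw [Matrix.mulVec_mulVec, ← Matrix.SpecialLinearGroup.coe_mul, mul_inv_cancel]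
  simp

theorem sl2_mulVec_apply (A : Matrix.SpecialLinearGroup (Fin 2) F) (w : Fin 2 → F) (i : Fin 2) :
    (A.1 *ᵥ w) i = A.1 i 0 * w 0 + A.1 i 1 * w 1 := by
  simp [Matrix.mulVec, dotProduct, Fin.sum_univ_two]

theorem sl2_inv_apply (A : Matrix.SpecialLinearGroup (Fin 2) F) :
    (A⁻¹).1 0 0 = A.1 1 1 ∧ (A⁻¹).1 0 1 = - A.1 0 1 ∧ (A⁻¹).1 1 0 = - A.1 1 0 ∧
      (A⁻¹).1 1 1 = A.1 0 0 := by
  simp [Matrix.SpecialLinearGroup.coe_inv, Matrix.adjugate_fin_two]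

theorem sl2_mul_apply (A B : Matrix.SpecialLinearGroup (Fin 2) F) (i j : Fin 2) :
    (A * B).1 i j = A.1 i 0 * B.1 0 j + A.1 i 1 * B.1 1 j := by
  simp [Matrix.SpecialLinearGroup.coe_mul, Matrix.mul_apply, Fin.sum_univ_two]

theorem sl2_ext {A B : Matrix.SpecialLinearGroup (Fin 2) F} (h00 : A.1 0 0 = B.1 0 0)
    (h01 : A.1 0 1 = B.1 0 1) (h10 : A.1 1 0 = B.1 1 0) (h11 : A.1 1 1 = B.1 1 1) : A = B := by
  apply Subtype.ext
  ext i j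
  fin_cases i <;> fin_cases j <;> assumption

theorem sl2_mem_upperUni_of_fix (M : Matrix.SpecialLinearGroup (Fin 2) F)
    (h : M.1 *ᵥ ![1, 0] = ![1, 0]) : M ∈ upperUni F := by
  have h0 := congrFun h 0
  have h1 := congrFun h 1
  rw [sl2_mulVec_apply] at h0 h1
  simp at h0 h1
  have hd := sl2_det_eq M
  rw [h0, h1] at hd
  refine ⟨h0, h1, ?_⟩
  simpa using hd

theorem sl2_exists_col (w : Fin 2 → F) (hw : w ≠ 0) :
    ∃ h : Matrix.SpecialLinearGroup (Fin 2) F, h.1 *ᵥ ![1, 0] = w := by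
  by_cases ha : w 0 = 0
  · have hc : w 1 ≠ 0 := by
      intro hc
      apply hw
      funext i
      fin_cases i
      · exact ha
      · exact hc
    refine ⟨⟨!![0, -(w 1)⁻¹; w 1, 0], ?_⟩, ?_⟩
    · rw [Matrix.det_fin_two]
      simp [hc]
    · funext i
      fin_cases i
      · simp [Matrix.mulVec, dotProduct, Fin.sum_univ_two, ha]
      · simp [Matrix.mulVec, dotProduct, Fin.sum_univ_two]
  · refine ⟨⟨!![w 0, 0; w 1, (w 0)⁻¹], ?_⟩, ?_⟩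
    · rw [Matrix.det_fin_two]
      simp [ha]
    · funext i
      fin_cases i
      · simp [Matrix.mulVec, dotProduct, Fin.sum_univ_two]
      · simp [Matrix.mulVec, dotProduct, Fin.sum_univ_two]

theorem upperUni_pow (M : Matrix.SpecialLinearGroup (Fin 2) F) (hM : M ∈ upperUni F) (k : ℕ) :
    (M ^ k).1 0 0 = 1 ∧ (M ^ k).1 0 1 = k * M.1 0 1 ∧ (M ^ k).1 1 0 = 0 ∧ (M ^ k).1 1 1 = 1 := by
  induction k with
  | zero => simp
  | succ k ih =>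
    obtain ⟨h1, h2, h3⟩ := hM
    obtain ⟨i1, i2, i3, i4⟩ := ih
    rw [pow_succ]
    refine ⟨?_, ?_, ?_, ?_⟩
    · rw [sl2_mul_apply, i1, h1, h2]; ring
    · rw [sl2_mul_apply, i1, i2, h3]; push_cast; ring
    · rw [sl2_mul_apply, i3, i4, h1, h2]; ring
    · rw [sl2_mul_apply, i3, i4, h3]; ring

theorem upperUni_pow_char {p : ℕ} (hp0 : (p : F) = 0) (M : Matrix.SpecialLinearGroup (Fin 2) F)
    (hM : M ∈ upperUni F) : M ^ p = 1 := by
  obtain ⟨i1, i2, i3, i4⟩ := upperUni_pow M hM p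
  apply sl2_ext
  · simpa using i1
  · rw [i2, hp0]; simp
  · simpa using i3
  · simpa using i4

theorem natCast_eq_zero_of_card [Fintype F] {p n : ℕ} (hF : Fintype.card F = p ^ n) :
    (p : F) = 0 := by
  have h := FiniteField.cast_card_eq_zero F
  rw [hF, Nat.cast_pow] at h
  have hn : n ≠ 0 := by
    rintro rfl
    have := Fintype.one_lt_card (α := F)
    rw [hF, pow_zero] at this
    omega
  exact (pow_eq_zero_iff hn).mp h

/-- the action of a subgroup of `SL₂(F)` on column vectors -/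
@[reducible] def vecAct (P : Subgroup (Matrix.SpecialLinearGroup (Fin 2) F)) : MulAction P (Fin 2 → F) where
  smul g w := (g : Matrix.SpecialLinearGroup (Fin 2) F).1 *ᵥ w
  one_smul w := by
    show ((1 : P) : Matrix.SpecialLinearGroup (Fin 2) F).1 *ᵥ w = w
    simp
  mul_smul g h w := by
    show ((g * h : P) : Matrix.SpecialLinearGroup (Fin 2) F).1 *ᵥ w =
      (g : Matrix.SpecialLinearGroup (Fin 2) F).1 *ᵥ
        ((h : Matrix.SpecialLinearGroup (Fin 2) F).1 *ᵥ w)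
    rw [Matrix.mulVec_mulVec]
    simp

/-- coordinates on a natural `SL₂(F)`-module `V` for `L`, adapted to the `p`-subgroup `T` -/
def IsNatCoord {G : Type*} [Group G] (V L T : Subgroup G)
    (ρ : L →* Matrix.SpecialLinearGroup (Fin 2) F) (ψ : V → Fin 2 → F) : Prop :=
  Function.Bijective ρ ∧ Function.Bijective ψ ∧ (∀ v w : V, ψ (v * w) = ψ v + ψ w) ∧
    (∀ (l : L) (v : V), ∃ w : V, (w : G) = (l : G) * (v : G) * (l : G)⁻¹ ∧
      ψ w = (ρ l).1 *ᵥ ψ v) ∧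
    (∀ l : L, (l : G) ∈ T ↔ ρ l ∈ upperUni F) ∧ T ≤ L

theorem exists_isNatCoord {G : Type*} [Group G] [Finite G] {p : ℕ} [Fact p.Prime] [Fintype F]
    (n : ℕ) (hF : Fintype.card F = p ^ n) (V L : Subgroup G)
    (hnat : Cfsg.IsNaturalSL2Module F V L)
    (hf : L ⊓ Subgroup.centralizer (V : Set G) = ⊥) (S : Sylow p ↥L) :
    ∃ (ρ : L →* Matrix.SpecialLinearGroup (Fin 2) F) (ψ : V → Fin 2 → F),
      IsNatCoord V L ((S : Subgroup ↥L).map L.subtype) ρ ψ := by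
  obtain ⟨hLV, ρ₀, ψ₀, hsurj, hker, heq⟩ := hnat
  have hinj : Function.Injective ρ₀ := by
    rw [← MonoidHom.ker_eq_bot_iff, hker, Subgroup.subgroupOf_eq_bot, disjoint_iff, inf_comm]
    exact hf
  have hp0 : (p : F) = 0 := natCast_eq_zero_of_card hF
  have hn : n ≠ 0 := by
    rintro rfl
    have := Fintype.one_lt_card (α := F)
    rw [hF, pow_zero] at this
    omega
  let P : Subgroup (Matrix.SpecialLinearGroup (Fin 2) F) := (S : Subgroup L).map ρ₀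
  have hP : IsPGroup p P := S.isPGroup'.map ρ₀
  letI := vecAct P
  have hdvd : p ∣ Nat.card (Fin 2 → F) := by
    rw [Nat.card_eq_fintype_card, Fintype.card_fun, hF, Fintype.card_fin]
    exact dvd_pow (dvd_pow_self p hn) (by norm_num)
  have h0 : (0 : Fin 2 → F) ∈ MulAction.fixedPoints P (Fin 2 → F) := by
    intro g
    show (g : Matrix.SpecialLinearGroup (Fin 2) F).1 *ᵥ (0 : Fin 2 → F) = 0
    simp
  obtain ⟨w₀, hw₀, hne⟩ := hP.exists_fixed_point_of_prime_dvd_card_of_fixed_point (Fin 2 → F) hdvd h0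
  obtain ⟨h, hh⟩ := sl2_exists_col w₀ (Ne.symm hne)
  have hfix : ∀ l : L, l ∈ S → (ρ₀ l).1 *ᵥ w₀ = w₀ := by
    intro l hl
    exact hw₀ ⟨ρ₀ l, Subgroup.mem_map_of_mem ρ₀ hl⟩
  let ρ : L →* Matrix.SpecialLinearGroup (Fin 2) F := (MulAut.conj h⁻¹).toMonoidHom.comp ρ₀
  have hρ : ∀ l, ρ l = h⁻¹ * ρ₀ l * h := by
    intro l
    simp [ρ, MulAut.conj_apply]
  have hρbij : Function.Bijective ρ := by
    constructor
    · intro a b hab
      rw [hρ, hρ] at hab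
      apply hinj
      simpa using hab
    · intro M
      obtain ⟨l, hl⟩ := hsurj (h * M * h⁻¹)
      refine ⟨l, ?_⟩
      rw [hρ, hl]
      group
  have hSup : ∀ l : L, l ∈ S → ρ l ∈ upperUni F := by
    intro l hl
    apply sl2_mem_upperUni_of_fix
    rw [hρ, Matrix.SpecialLinearGroup.coe_mul, Matrix.SpecialLinearGroup.coe_mul,
      ← Matrix.mulVec_mulVec, ← Matrix.mulVec_mulVec, hh, hfix l hl, ← hh, sl2_inv_mulVec]
  have hQ : IsPGroup p ((upperUni F).comap ρ) := by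
    intro g
    refine ⟨1, ?_⟩
    rw [pow_one]
    apply Subtype.ext
    apply hρbij.1
    rw [Subgroup.coe_pow, map_pow, Subgroup.coe_one, map_one]
    exact upperUni_pow_char hp0 _ g.2
  have hQS : (upperUni F).comap ρ = S := S.is_maximal' hQ (fun l hl => hSup l hl)
  refine ⟨ρ, fun v => (h⁻¹).1 *ᵥ ψ₀ (Additive.ofMul v), hρbij, ?_, ?_, ?_, ?_, ?_⟩
  · constructor
    · intro a b hab
      have := congrArg (fun w => h.1 *ᵥ w) hab
      simp only [sl2_mulVec_inv] at this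
      have h2 := ψ₀.injective this
      exact h2
    · intro w
      obtain ⟨v, hv⟩ := ψ₀.surjective (h.1 *ᵥ w)
      refine ⟨Additive.toMul v, ?_⟩
      show (h⁻¹).1 *ᵥ ψ₀ v = w
      rw [hv, sl2_inv_mulVec]
  · intro v w
    show (h⁻¹).1 *ᵥ ψ₀ (Additive.ofMul v + Additive.ofMul w) = _
    rw [map_add, Matrix.mulVec_add]
  · intro l v
    obtain ⟨w, hw1, hw2⟩ := heq l v
    refine ⟨w, hw1, ?_⟩
    show (h⁻¹).1 *ᵥ ψ₀ (Additive.ofMul w) = (ρ l).1 *ᵥ ((h⁻¹).1 *ᵥ ψ₀ (Additive.ofMul v))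
    rw [hw2, hρ, Matrix.mulVec_mulVec, Matrix.mulVec_mulVec,
      ← Matrix.SpecialLinearGroup.coe_mul, ← Matrix.SpecialLinearGroup.coe_mul]
    have e : h⁻¹ * ρ₀ l * h * h⁻¹ = h⁻¹ * ρ₀ l := by group
    rw [e]
  · intro l
    constructor
    · rintro ⟨l', hl', hll⟩
      have : l' = l := Subtype.ext hll
      subst this
      exact hSup _ hl'
    · intro hl
      have : l ∈ (upperUni F).comap ρ := hl
      rw [hQS] at this
      exact ⟨l, this, rfl⟩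
  · rintro _ ⟨l, _, rfl⟩
    exact l.2

theorem upperUni_conj (A U : Matrix.SpecialLinearGroup (Fin 2) F) (hA : A.1 1 0 = 0)
    (hU : U ∈ upperUni F) : A * U * A⁻¹ ∈ upperUni F := by
  obtain ⟨h1, h2, h3⟩ := hU
  have hd := sl2_det_eq A
  rw [hA, mul_zero, sub_zero] at hd
  obtain ⟨i1, i2, i3, i4⟩ := sl2_inv_apply A
  refine ⟨?_, ?_, ?_⟩
  · rw [sl2_mul_apply, sl2_mul_apply, sl2_mul_apply, i1, i3, h1, h2, hA]
    linear_combination hd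
  · rw [sl2_mul_apply, sl2_mul_apply, sl2_mul_apply, i1, i3, h1, h2, hA]
    ring
  · rw [sl2_mul_apply, sl2_mul_apply, sl2_mul_apply, i2, i4, h2, h3, hA]
    linear_combination hd

theorem sl2_pow_char_of_fix {p : ℕ} (hp0 : (p : F) = 0)
    (M : Matrix.SpecialLinearGroup (Fin 2) F) {w : Fin 2 → F} (hw : w ≠ 0)
    (hM : M.1 *ᵥ w = w) : M ^ p = 1 := by
  obtain ⟨h, hh⟩ := sl2_exists_col w hw
  have hN : h⁻¹ * M * h ∈ upperUni F := by
    apply sl2_mem_upperUni_of_fix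
    rw [Matrix.SpecialLinearGroup.coe_mul, Matrix.SpecialLinearGroup.coe_mul,
      ← Matrix.mulVec_mulVec, ← Matrix.mulVec_mulVec, hh, hM, ← hh, sl2_inv_mulVec]
  have h1 := upperUni_pow_char hp0 _ hN
  have e : M = h * (h⁻¹ * M * h) * h⁻¹ := by group
  rw [e, conj_pow, h1]
  group

section Coord

variable {G : Type*} [Group G] {V L T : Subgroup G}
  {ρ : L →* Matrix.SpecialLinearGroup (Fin 2) F} {ψ : V → Fin 2 → F}

theorem IsNatCoord.psi_one (hc : IsNatCoord V L T ρ ψ) : ψ 1 = 0 := by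
  have := hc.2.2.1 1 1
  rw [mul_one] at this
  simpa using this

theorem IsNatCoord.psi_ext (hc : IsNatCoord V L T ρ ψ) {v w : V} (h0 : ψ v 0 = ψ w 0)
    (h1 : ψ v 1 = ψ w 1) : v = w := by
  apply hc.2.1.1
  funext i
  fin_cases i
  · exact h0
  · exact h1

theorem IsNatCoord.eq_one_of (hc : IsNatCoord V L T ρ ψ) {g : G} (hg : g ∈ V)
    (h0 : ψ ⟨g, hg⟩ 0 = 0) (h1 : ψ ⟨g, hg⟩ 1 = 0) : g = 1 := by
  have : (⟨g, hg⟩ : V) = 1 :=
    hc.psi_ext (by rw [h0, hc.psi_one]; rfl) (by rw [h1, hc.psi_one]; rfl)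
  exact congrArg Subtype.val this

theorem IsNatCoord.exists_coord (hc : IsNatCoord V L T ρ ψ) (x y : F) :
    ∃ v : V, ψ v 0 = x ∧ ψ v 1 = y := by
  obtain ⟨v, hv⟩ := hc.2.1.2 ![x, y]
  exact ⟨v, by rw [hv]; rfl, by rw [hv]; rfl⟩

theorem IsNatCoord.psi_inv (hc : IsNatCoord V L T ρ ψ) (v : V) : ψ v⁻¹ = - ψ v := by
  have := hc.2.2.1 v v⁻¹
  rw [mul_inv_cancel, hc.psi_one] at this
  exact (neg_eq_of_add_eq_zero_right this.symm).symm

theorem IsNatCoord.comm (hc : IsNatCoord V L T ρ ψ) (v w : V) : v * w = w * v := by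
  apply hc.2.1.1
  rw [hc.2.2.1, hc.2.2.1, add_comm]

theorem IsNatCoord.act (hc : IsNatCoord V L T ρ ψ) (l : L) (v : V) :
    ∃ w : V, (w : G) = (l : G) * v * (l : G)⁻¹ ∧
      ψ w 0 = (ρ l).1 0 0 * ψ v 0 + (ρ l).1 0 1 * ψ v 1 ∧
      ψ w 1 = (ρ l).1 1 0 * ψ v 0 + (ρ l).1 1 1 * ψ v 1 := by
  obtain ⟨w, hw1, hw2⟩ := hc.2.2.2.1 l v
  exact ⟨w, hw1, by rw [hw2, sl2_mulVec_apply], by rw [hw2, sl2_mulVec_apply]⟩

theorem IsNatCoord.act_T (hc : IsNatCoord V L T ρ ψ) {t : G} (ht : t ∈ T) :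
    ∃ b : F, (t ≠ 1 → b ≠ 0) ∧ ∀ v : V, ∃ w : V, (w : G) = t * v * t⁻¹ ∧
      ψ w 0 = ψ v 0 + b * ψ v 1 ∧ ψ w 1 = ψ v 1 := by
  have htL : t ∈ L := hc.2.2.2.2.2 ht
  have hu : ρ ⟨t, htL⟩ ∈ upperUni F := (hc.2.2.2.2.1 ⟨t, htL⟩).mp ht
  obtain ⟨h1, h2, h3⟩ := hu
  refine ⟨(ρ ⟨t, htL⟩).1 0 1, ?_, ?_⟩
  · intro hne hb
    apply hne
    have : ρ ⟨t, htL⟩ = 1 :=
      sl2_ext (by simpa using h1) (by simpa using hb) (by simpa using h2) (by simpa using h3)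
    have h4 : (⟨t, htL⟩ : L) = 1 := hc.1.1 (by rw [this, map_one])
    exact congrArg Subtype.val h4
  · intro v
    obtain ⟨w, hw, hw0, hw1⟩ := hc.act ⟨t, htL⟩ v
    refine ⟨w, hw, ?_, ?_⟩
    · rw [hw0, h1, one_mul]
    · rw [hw1, h2, h3, zero_mul, zero_add, one_mul]

theorem IsNatCoord.exists_T (hc : IsNatCoord V L T ρ ψ) (b : F) :
    ∃ t ∈ T, ∀ v : V, ∃ w : V, (w : G) = t * v * t⁻¹ ∧
      ψ w 0 = ψ v 0 + b * ψ v 1 ∧ ψ w 1 = ψ v 1 := by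
  obtain ⟨l, hl⟩ := hc.1.2 ⟨!![1, b; 0, 1], by rw [Matrix.det_fin_two]; simp⟩
  have hu : ρ l ∈ upperUni F := by
    rw [hl]
    exact ⟨by simp, by simp, by simp⟩
  refine ⟨l, (hc.2.2.2.2.1 l).mpr hu, ?_⟩
  intro v
  obtain ⟨w, hw, hw0, hw1⟩ := hc.act l v
  refine ⟨w, hw, ?_, ?_⟩
  · rw [hw0, hl]; simp
  · rw [hw1, hl]; simp

theorem IsNatCoord.comm_T (hc : IsNatCoord V L T ρ ψ) {t : G} {b : F}
    (ht : ∀ v : V, ∃ w : V, (w : G) = t * v * t⁻¹ ∧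
      ψ w 0 = ψ v 0 + b * ψ v 1 ∧ ψ w 1 = ψ v 1) (v : V) :
    ∃ w : V, (w : G) = v * t * (v : G)⁻¹ * t⁻¹ ∧ ψ w 0 = - (b * ψ v 1) ∧ ψ w 1 = 0 := by
  obtain ⟨u, hu, hu0, hu1⟩ := ht v
  refine ⟨v * u⁻¹, ?_, ?_, ?_⟩
  · rw [Subgroup.coe_mul, Subgroup.coe_inv, hu]
    group
  · rw [hc.2.2.1, hc.psi_inv]
    simp [hu0]
  · rw [hc.2.2.1, hc.psi_inv]
    simp [hu1]

theorem IsNatCoord.coord_zero_of_comm (hc : IsNatCoord V L T ρ ψ) {t : G} {b : F} (hb : b ≠ 0)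
    (ht : ∀ v : V, ∃ w : V, (w : G) = t * v * t⁻¹ ∧
      ψ w 0 = ψ v 0 + b * ψ v 1 ∧ ψ w 1 = ψ v 1) (v : V) (h : t * (v : G) = v * t) :
    ψ v 1 = 0 := by
  obtain ⟨w, hw, hw0, hw1⟩ := ht v
  have : w = v := Subtype.ext (by rw [hw, h]; group)
  rw [this] at hw0
  have h2 : b * ψ v 1 = 0 := by linear_combination -hw0
  exact (mul_eq_zero.mp h2).resolve_left hb

theorem IsNatCoord.comm_of_coord_zero (hc : IsNatCoord V L T ρ ψ) {t : G} {b : F}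
    (ht : ∀ v : V, ∃ w : V, (w : G) = t * v * t⁻¹ ∧
      ψ w 0 = ψ v 0 + b * ψ v 1 ∧ ψ w 1 = ψ v 1) (v : V) (h : ψ v 1 = 0) :
    t * (v : G) = v * t := by
  obtain ⟨w, hw, hw0, hw1⟩ := ht v
  have : w = v := hc.psi_ext (by rw [hw0, h, mul_zero, add_zero]) hw1
  rw [this] at hw
  calc t * (v : G) = (t * v * t⁻¹) * t := by group
    _ = v * t := by rw [← hw]

theorem IsNatCoord.mem_inf_centralizer_singleton (hc : IsNatCoord V L T ρ ψ) {s : G}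
    (hs : s ∈ T) (hs1 : s ≠ 1) (g : G) :
    g ∈ V ⊓ Subgroup.centralizer ({s} : Set G) ↔ ∃ hv : g ∈ V, ψ ⟨g, hv⟩ 1 = 0 := by
  obtain ⟨b, hb, hact⟩ := hc.act_T hs
  rw [Subgroup.mem_inf, Subgroup.mem_centralizer_iff]
  constructor
  · rintro ⟨hv, hcomm⟩
    exact ⟨hv, hc.coord_zero_of_comm (hb hs1) hact ⟨g, hv⟩ (hcomm s rfl)⟩
  · rintro ⟨hv, h⟩
    refine ⟨hv, ?_⟩
    intro h' hh'
    rw [Set.mem_singleton_iff] at hh'
    subst hh'
    exact hc.comm_of_coord_zero hact ⟨g, hv⟩ h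

theorem IsNatCoord.mem_inf_centralizer (hc : IsNatCoord V L T ρ ψ) (g : G) :
    g ∈ V ⊓ Subgroup.centralizer (T : Set G) ↔ ∃ hv : g ∈ V, ψ ⟨g, hv⟩ 1 = 0 := by
  rw [Subgroup.mem_inf, Subgroup.mem_centralizer_iff]
  constructor
  · rintro ⟨hv, hcomm⟩
    obtain ⟨t, ht, hact⟩ := hc.exists_T 1
    exact ⟨hv, hc.coord_zero_of_comm one_ne_zero hact ⟨g, hv⟩ (hcomm t ht)⟩
  · rintro ⟨hv, h⟩
    refine ⟨hv, fun t ht => ?_⟩
    obtain ⟨b, hb, hact⟩ := hc.act_T ht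
    exact hc.comm_of_coord_zero hact ⟨g, hv⟩ h

theorem IsNatCoord.card_V (hc : IsNatCoord V L T ρ ψ) [Fintype F] {p n : ℕ}
    (hF : Fintype.card F = p ^ n) : Nat.card V = p ^ (2 * n) := by
  rw [Nat.card_eq_of_bijective ψ hc.2.1, Nat.card_eq_fintype_card, Fintype.card_fun, hF,
    Fintype.card_fin, ← pow_mul, mul_comm]

theorem IsNatCoord.card_line (hc : IsNatCoord V L T ρ ψ) [Fintype F] {p n : ℕ}
    (hF : Fintype.card F = p ^ n) :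
    Nat.card ↥(V ⊓ Subgroup.centralizer (T : Set G)) = p ^ n := by
  rw [← hF, ← Nat.card_eq_fintype_card]
  apply Nat.card_eq_of_bijective
    (fun g : ↥(V ⊓ Subgroup.centralizer (T : Set G)) => ψ ⟨g.1, g.2.1⟩ 0)
  constructor
  · intro a b hab
    obtain ⟨hva, ha1⟩ := (hc.mem_inf_centralizer a.1).mp a.2
    obtain ⟨hvb, hb1⟩ := (hc.mem_inf_centralizer b.1).mp b.2
    have : (⟨a.1, hva⟩ : V) = ⟨b.1, hvb⟩ := hc.psi_ext hab (by rw [ha1, hb1])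
    have h3 := congrArg Subtype.val this
    exact Subtype.ext h3
  · intro x
    obtain ⟨v, hv0, hv1⟩ := hc.exists_coord x 0
    exact ⟨⟨v.1, (hc.mem_inf_centralizer v.1).mpr ⟨v.2, hv1⟩⟩, hv0⟩

theorem IsNatCoord.commutator_le (hc : IsNatCoord V L T ρ ψ) :
    ⁅V, T⁆ ≤ V ⊓ Subgroup.centralizer (T : Set G) := by
  rw [Subgroup.commutator_le]
  intro v hv t ht
  obtain ⟨b, hb, hact⟩ := hc.act_T ht
  obtain ⟨w, hw, hw0, hw1⟩ := hc.comm_T hact ⟨v, hv⟩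
  have : ⁅v, t⁆ = (w : G) := by rw [commutatorElement_def]; exact hw.symm
  rw [this, hc.mem_inf_centralizer]
  exact ⟨w.2, hw1⟩

theorem IsNatCoord.le_commutator_zpowers (hc : IsNatCoord V L T ρ ψ) {s : G} (hs : s ∈ T)
    (hs1 : s ≠ 1) : V ⊓ Subgroup.centralizer (T : Set G) ≤ ⁅V, Subgroup.zpowers s⁆ := by
  intro g hg
  obtain ⟨hv, h1⟩ := (hc.mem_inf_centralizer g).mp hg
  obtain ⟨b, hb, hact⟩ := hc.act_T hs
  have hb0 := hb hs1
  obtain ⟨v, hv0, hv1⟩ := hc.exists_coord 0 (-(ψ ⟨g, hv⟩ 0) / b)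
  obtain ⟨w, hw, hw0, hw1⟩ := hc.comm_T hact v
  have : w = ⟨g, hv⟩ := hc.psi_ext (by rw [hw0, hv1]; field_simp) (by rw [hw1, h1])
  have hg' : g = ⁅(v : G), s⁆ := by
    rw [commutatorElement_def, ← hw, this]
  rw [hg']
  exact Subgroup.commutator_mem_commutator v.2 (Subgroup.mem_zpowers s)

theorem IsNatCoord.closure_eq (hc : IsNatCoord V L T ρ ψ) {v : G} (hv : v ∈ V)
    (hvT : v ∉ Subgroup.centralizer (T : Set G)) :
    Subgroup.closure {x : G | ∃ t ∈ T, x = v * t * v⁻¹ * t⁻¹} =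
      V ⊓ Subgroup.centralizer (T : Set G) := by
  have hy : ψ ⟨v, hv⟩ 1 ≠ 0 := by
    intro h
    exact hvT ((hc.mem_inf_centralizer v).mpr ⟨hv, h⟩).2
  apply le_antisymm
  · rw [Subgroup.closure_le]
    rintro x ⟨t, ht, rfl⟩
    obtain ⟨b, hb, hact⟩ := hc.act_T ht
    obtain ⟨w, hw, hw0, hw1⟩ := hc.comm_T hact ⟨v, hv⟩
    have : v * t * v⁻¹ * t⁻¹ = (w : G) := hw.symm
    rw [SetLike.mem_coe, this, hc.mem_inf_centralizer]
    exact ⟨w.2, hw1⟩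
  · intro g hg
    obtain ⟨hgv, h1⟩ := (hc.mem_inf_centralizer g).mp hg
    obtain ⟨t, ht, hact⟩ := hc.exists_T (-(ψ ⟨g, hgv⟩ 0) / ψ ⟨v, hv⟩ 1)
    obtain ⟨w, hw, hw0, hw1⟩ := hc.comm_T hact ⟨v, hv⟩
    have : w = ⟨g, hgv⟩ := hc.psi_ext (by rw [hw0]; field_simp) (by rw [hw1, h1])
    apply Subgroup.subset_closure
    refine ⟨t, ht, ?_⟩
    rw [← hw, this]

theorem IsNatCoord.exists_ne_one (hc : IsNatCoord V L T ρ ψ) : ∃ s ∈ T, s ≠ 1 := by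
  obtain ⟨t, ht, hact⟩ := hc.exists_T 1
  refine ⟨t, ht, ?_⟩
  rintro rfl
  obtain ⟨v, hv0, hv1⟩ := hc.exists_coord 0 1
  obtain ⟨w, hw, hw0, hw1⟩ := hact v
  have : w = v := Subtype.ext (by rw [hw]; group)
  rw [this, hv0, hv1] at hw0
  simp at hw0

theorem IsNatCoord.commutator_zpowers_eq (hc : IsNatCoord V L T ρ ψ) {s : G} (hs : s ∈ T)
    (hs1 : s ≠ 1) : ⁅V, Subgroup.zpowers s⁆ = V ⊓ Subgroup.centralizer (T : Set G) :=
  le_antisymm ((Subgroup.commutator_mono le_rfl (Subgroup.zpowers_le.mpr hs)).trans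
    hc.commutator_le) (hc.le_commutator_zpowers hs hs1)

theorem IsNatCoord.commutator_eq (hc : IsNatCoord V L T ρ ψ) :
    ⁅V, T⁆ = V ⊓ Subgroup.centralizer (T : Set G) := by
  obtain ⟨s, hs, hs1⟩ := hc.exists_ne_one
  exact le_antisymm hc.commutator_le ((hc.le_commutator_zpowers hs hs1).trans
    (Subgroup.commutator_mono le_rfl (Subgroup.zpowers_le.mpr hs)))

theorem IsNatCoord.commutator_commutator_eq_bot (hc : IsNatCoord V L T ρ ψ) :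
    ⁅⁅V, T⁆, T⁆ = ⊥ := by
  rw [hc.commutator_eq, Subgroup.commutator_eq_bot_iff_le_centralizer]
  exact inf_le_right

theorem IsNatCoord.inf_centralizer_singleton_eq (hc : IsNatCoord V L T ρ ψ) {s : G}
    (hs : s ∈ T) (hs1 : s ≠ 1) :
    V ⊓ Subgroup.centralizer ({s} : Set G) = V ⊓ Subgroup.centralizer (T : Set G) := by
  ext g
  rw [hc.mem_inf_centralizer_singleton hs hs1, hc.mem_inf_centralizer]

theorem IsNatCoord.mem_normalizer_of (hc : IsNatCoord V L T ρ ψ) (g : L)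
    (h10 : (ρ g).1 1 0 = 0) : (g : G) ∈ Subgroup.normalizer (T : Set G) := by
  have key : ∀ (g : L), (ρ g).1 1 0 = 0 → ∀ t ∈ T, (g : G) * t * (g : G)⁻¹ ∈ T := by
    intro g h10 t ht
    have htL := hc.2.2.2.2.2 ht
    have hu := (hc.2.2.2.2.1 ⟨t, htL⟩).mp ht
    have : (g : G) * t * (g : G)⁻¹ = ((g * ⟨t, htL⟩ * g⁻¹ : L) : G) := rfl
    rw [this, hc.2.2.2.2.1, map_mul, map_mul, map_inv]
    exact upperUni_conj (ρ g) _ h10 hu
  rw [Subgroup.mem_normalizer_iff]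
  intro t
  constructor
  · exact key g h10 t
  · intro h
    have := key g⁻¹ (by rw [map_inv, (sl2_inv_apply _).2.2.1, h10, neg_zero]) _ h
    have e : ((g⁻¹ : L) : G) * ((g : G) * t * (g : G)⁻¹) * ((g⁻¹ : L) : G)⁻¹ = t := by
      rw [Subgroup.coe_inv]
      group
    rwa [e] at this

theorem IsNatCoord.mem_inf_centralizer_conj (hc : IsNatCoord V L T ρ ψ) (g : L) (x : G) :
    x ∈ V ⊓ Subgroup.centralizer
        ((T.map (MulAut.conj (g : G)).toMonoidHom : Subgroup G) : Set G) ↔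
      ∃ hv : x ∈ V, (ρ g).1 0 0 * ψ ⟨x, hv⟩ 1 = (ρ g).1 1 0 * ψ ⟨x, hv⟩ 0 := by
  have hcoord : ∀ hv : x ∈ V, ∃ w : V, (w : G) = (g : G)⁻¹ * x * g ∧
      ψ w 1 = - (ρ g).1 1 0 * ψ ⟨x, hv⟩ 0 + (ρ g).1 0 0 * ψ ⟨x, hv⟩ 1 := by
    intro hv
    obtain ⟨w, hw, hw0, hw1⟩ := hc.act g⁻¹ ⟨x, hv⟩
    refine ⟨w, ?_, ?_⟩
    · rw [hw, Subgroup.coe_inv, inv_inv]
    · rw [hw1, map_inv, (sl2_inv_apply _).2.2.1, (sl2_inv_apply _).2.2.2]
  rw [Subgroup.mem_inf, Subgroup.mem_centralizer_iff]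
  constructor
  · rintro ⟨hv, hcomm⟩
    refine ⟨hv, ?_⟩
    obtain ⟨w, hw, hw1⟩ := hcoord hv
    have hwC : (w : G) ∈ V ⊓ Subgroup.centralizer (T : Set G) := by
      refine ⟨w.2, Subgroup.mem_centralizer_iff.mpr ?_⟩
      intro t ht
      have h1 := hcomm ((g : G) * t * (g : G)⁻¹) ⟨t, ht, rfl⟩
      rw [hw]
      calc t * ((g : G)⁻¹ * x * g) = (g : G)⁻¹ * ((g : G) * t * (g : G)⁻¹ * x) * g := by group
        _ = (g : G)⁻¹ * (x * ((g : G) * t * (g : G)⁻¹)) * g := by rw [h1]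
        _ = (g : G)⁻¹ * x * g * t := by group
    obtain ⟨hv', h0⟩ := (hc.mem_inf_centralizer _).mp hwC
    rw [hw1] at h0
    linear_combination h0
  · rintro ⟨hv, h⟩
    refine ⟨hv, ?_⟩
    obtain ⟨w, hw, hw1⟩ := hcoord hv
    have hwC : (w : G) ∈ V ⊓ Subgroup.centralizer (T : Set G) := by
      rw [hc.mem_inf_centralizer]
      refine ⟨w.2, ?_⟩
      rw [hw1]
      linear_combination h
    rintro _ ⟨t, ht, rfl⟩
    have h1 := (Subgroup.mem_centralizer_iff.mp hwC.2) t ht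
    rw [hw] at h1
    show (g : G) * t * (g : G)⁻¹ * x = x * ((g : G) * t * (g : G)⁻¹)
    calc (g : G) * t * (g : G)⁻¹ * x = g * (t * ((g : G)⁻¹ * x * g)) * (g : G)⁻¹ := by group
      _ = g * ((g : G)⁻¹ * x * g * t) * (g : G)⁻¹ := by rw [h1]
      _ = x * ((g : G) * t * (g : G)⁻¹) := by group

theorem IsNatCoord.isInternalDirectProduct (hc : IsNatCoord V L T ρ ψ) {g : G} (hg : g ∈ L)
    (hgN : g ∉ Subgroup.normalizer (T : Set G)) :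
    Cfsg.IsInternalDirectProduct (V ⊓ Subgroup.centralizer (T : Set G))
      (V ⊓ Subgroup.centralizer ((T.map (MulAut.conj g).toMonoidHom : Subgroup G) : Set G))
      V := by
  have hc10 : (ρ ⟨g, hg⟩).1 1 0 ≠ 0 := fun h => hgN (hc.mem_normalizer_of ⟨g, hg⟩ h)
  refine ⟨inf_le_left, inf_le_left, ?_, ?_, ?_⟩
  · intro a ha b hb
    have := hc.comm ⟨a, ha.1⟩ ⟨b, hb.1⟩
    exact congrArg Subtype.val this
  · rw [eq_bot_iff]
    intro x hx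
    obtain ⟨hx1, hx2⟩ := hx
    obtain ⟨hv, h1⟩ := (hc.mem_inf_centralizer x).mp hx1
    obtain ⟨hv', h2⟩ := (hc.mem_inf_centralizer_conj ⟨g, hg⟩ x).mp hx2
    rw [h1, mul_zero] at h2
    have h0 : ψ ⟨x, hv⟩ 0 = 0 := (mul_eq_zero.mp h2.symm).resolve_left hc10
    rw [Subgroup.mem_bot]
    exact hc.eq_one_of hv h0 h1
  · apply le_antisymm (sup_le inf_le_left inf_le_left)
    intro x hx
    obtain ⟨v₂, h20, h21⟩ := hc.exists_coord
      ((ρ ⟨g, hg⟩).1 0 0 * ψ ⟨x, hx⟩ 1 / (ρ ⟨g, hg⟩).1 1 0) (ψ ⟨x, hx⟩ 1)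
    obtain ⟨v₁, h10, h11⟩ := hc.exists_coord
      (ψ ⟨x, hx⟩ 0 - (ρ ⟨g, hg⟩).1 0 0 * ψ ⟨x, hx⟩ 1 / (ρ ⟨g, hg⟩).1 1 0) 0
    have : (⟨x, hx⟩ : V) = v₁ * v₂ :=
      hc.psi_ext (by rw [hc.2.2.1]; simp [h10, h20]) (by rw [hc.2.2.1]; simp [h11, h21])
    have hx' := congrArg Subtype.val this
    have hx'' : x = (v₁ : G) * (v₂ : G) := hx'
    rw [hx'']
    apply Subgroup.mul_mem_sup
    · exact (hc.mem_inf_centralizer _).mpr ⟨v₁.2, h11⟩
    · exact (hc.mem_inf_centralizer_conj ⟨g, hg⟩ _).mpr ⟨v₂.2, by rw [h20, h21]; field_simp⟩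

theorem IsNatCoord.fixed_point_free (hc : IsNatCoord V L T ρ ψ) [Fintype F] {p n : ℕ}
    (hF : Fintype.card F = p ^ n) {x : G} (hx : x ∈ L) (hx1 : x ≠ 1)
    (hcop : (orderOf x).Coprime p) : V ⊓ Subgroup.centralizer ({x} : Set G) = ⊥ := by
  rw [eq_bot_iff]
  intro v hv
  obtain ⟨hvV, hvC⟩ := hv
  have hcomm : x * v = v * x := (Subgroup.mem_centralizer_iff.mp hvC) x rfl
  rw [Subgroup.mem_bot]
  by_contra hv1
  apply hx1
  have hp0 : (p : F) = 0 := natCast_eq_zero_of_card hF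
  obtain ⟨w, hw, hw2⟩ := hc.2.2.2.1 ⟨x, hx⟩ ⟨v, hvV⟩
  have hwv : w = ⟨v, hvV⟩ := Subtype.ext (by
    rw [hw]
    show x * v * x⁻¹ = v
    rw [hcomm]
    group)
  rw [hwv] at hw2
  have hne : ψ ⟨v, hvV⟩ ≠ 0 := by
    intro h0
    apply hv1
    have : (⟨v, hvV⟩ : V) = 1 := hc.2.1.1 (by rw [h0, hc.psi_one])
    exact congrArg Subtype.val this
  have hpow : ρ ⟨x, hx⟩ ^ p = 1 := sl2_pow_char_of_fix hp0 _ hne hw2.symm
  have hxp : (⟨x, hx⟩ : L) ^ p = 1 := hc.1.1 (by rw [map_pow, hpow, map_one])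
  have hxp' : x ^ p = 1 := congrArg Subtype.val hxp
  have hdvd : orderOf x ∣ p := orderOf_dvd_of_pow_eq_one hxp'
  exact orderOf_eq_one_iff.mp (Nat.Coprime.eq_one_of_dvd hcop hdvd)

theorem IsNatCoord.exists_torus (hc : IsNatCoord V L T ρ ψ) {a : F} (ha : a ≠ 0) :
    ∃ l ∈ L ⊓ Subgroup.normalizer (T : Set G), ∀ v : V, ∃ w : V, (w : G) = l * v * l⁻¹ ∧
      ψ w 0 = a * ψ v 0 ∧ ψ w 1 = a⁻¹ * ψ v 1 := by
  obtain ⟨l, hl⟩ := hc.1.2 ⟨!![a, 0; 0, a⁻¹], by rw [Matrix.det_fin_two]; simp [ha]⟩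
  refine ⟨l, ⟨l.2, hc.mem_normalizer_of l (by rw [hl]; simp)⟩, ?_⟩
  intro v
  obtain ⟨w, hw, hw0, hw1⟩ := hc.act l v
  refine ⟨w, hw, ?_, ?_⟩
  · rw [hw0, hl]; simp
  · rw [hw1, hl]; simp

theorem IsNatCoord.irred_line (hc : IsNatCoord V L T ρ ψ) (U : Subgroup G)
    (hU : U ≤ V ⊓ Subgroup.centralizer (T : Set G))
    (hN : L ⊓ Subgroup.normalizer (T : Set G) ≤ Subgroup.normalizer (U : Set G)) :
    U = ⊥ ∨ U = V ⊓ Subgroup.centralizer (T : Set G) := by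
  by_cases hbot : U = ⊥
  · exact Or.inl hbot
  right
  obtain ⟨u, hu, hu1⟩ : ∃ u ∈ U, u ≠ 1 := by
    by_contra hcon
    apply hbot
    rw [Subgroup.eq_bot_iff_forall]
    intro u hu
    by_contra h1
    exact hcon ⟨u, hu, h1⟩
  apply le_antisymm hU
  intro g hg
  obtain ⟨hgV, hg1⟩ := (hc.mem_inf_centralizer g).mp hg
  obtain ⟨huV, hu1'⟩ := (hc.mem_inf_centralizer u).mp (hU hu)
  have hx0 : ψ ⟨u, huV⟩ 0 ≠ 0 := fun h0 => hu1 (hc.eq_one_of huV h0 hu1')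
  by_cases hg0 : ψ ⟨g, hgV⟩ 0 = 0
  · rw [hc.eq_one_of hgV hg0 hg1]
    exact U.one_mem
  · obtain ⟨l, hl, hact⟩ := hc.exists_torus (a := ψ ⟨g, hgV⟩ 0 / ψ ⟨u, huV⟩ 0)
      (div_ne_zero hg0 hx0)
    obtain ⟨w, hw, hw0, hw1⟩ := hact ⟨u, huV⟩
    have hwg : w = ⟨g, hgV⟩ :=
      hc.psi_ext (by rw [hw0]; field_simp) (by rw [hw1, hu1', hg1, mul_zero])
    have hmem : l * u * l⁻¹ ∈ U := (Subgroup.mem_normalizer_iff.mp (hN hl) u).mp hu
    have : g = l * u * l⁻¹ := by rw [← hw, hwg]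
    rw [this]
    exact hmem

theorem IsNatCoord.irred_quot (hc : IsNatCoord V L T ρ ψ) (U : Subgroup G)
    (hCU : V ⊓ Subgroup.centralizer (T : Set G) ≤ U) (hUV : U ≤ V)
    (hN : L ⊓ Subgroup.normalizer (T : Set G) ≤ Subgroup.normalizer (U : Set G)) :
    U = V ⊓ Subgroup.centralizer (T : Set G) ∨ U = V := by
  by_cases hUC : U ≤ V ⊓ Subgroup.centralizer (T : Set G)
  · exact Or.inl (le_antisymm hUC hCU)
  right
  obtain ⟨u, hu, huC⟩ := SetLike.not_le_iff_exists.mp hUC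
  have huV := hUV hu
  have hy0 : ψ ⟨u, huV⟩ 1 ≠ 0 := fun h => huC ((hc.mem_inf_centralizer u).mpr ⟨huV, h⟩)
  apply le_antisymm hUV
  intro g hgV
  by_cases hg1 : ψ ⟨g, hgV⟩ 1 = 0
  · exact hCU ((hc.mem_inf_centralizer g).mpr ⟨hgV, hg1⟩)
  · obtain ⟨l, hl, hact⟩ := hc.exists_torus (a := ψ ⟨u, huV⟩ 1 / ψ ⟨g, hgV⟩ 1)
      (div_ne_zero hy0 hg1)
    obtain ⟨w, hw, hw0, hw1⟩ := hact ⟨u, huV⟩
    have hmem : l * u * l⁻¹ ∈ U := (Subgroup.mem_normalizer_iff.mp (hN hl) u).mp hu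
    obtain ⟨c, hc0, hc1⟩ := hc.exists_coord (ψ ⟨g, hgV⟩ 0 - ψ w 0) 0
    have hcU : (c : G) ∈ U := hCU ((hc.mem_inf_centralizer c).mpr ⟨c.2, hc1⟩)
    have hg : (⟨g, hgV⟩ : V) = w * c :=
      hc.psi_ext (by rw [hc.2.2.1]; simp [hc0])
        (by rw [hc.2.2.1]; simp [hc1, hw1]; field_simp)
    have h3 := congrArg Subtype.val hg
    have h4 : g = (w : G) * (c : G) := h3
    rw [h4, hw]
    exact U.mul_mem hmem hcU

end Coord

end NatSL2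

end Cfsg.Agent.Helper16
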