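import Cfsg.Agent.Helper16.BasicProperty
import Cfsg.Agent.Helper16.Large3
import Cfsg.Agent.Helper16.FStarAction
import Cfsg.Agent.Helper16.FrattiniResidual
import Cfsg.Agent.Helper16.AvgApps
import Cfsg.Agent.Helper16.PReducedSubnormal

set_option autoImplicit false

namespace Cfsg.Agent.Helper16

open Cfsg

variable {G : Type*} [Group G] {p : ℕ}

theorem commutator_map_conj_le {E Y R : Subgroup G} {l : G}
    (hlE : l ∈ Subgroup.normalizer (E : Set G)) (hlR : l ∈ Subgroup.normalizer (R : Set G))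
    (h : ⁅E, Y⁆ ≤ R) : ⁅E, Y.map (MulAut.conj l).toMonoidHom⁆ ≤ R := by
  rw [commutator_le_iff']
  rintro e he _ ⟨y, hy, rfl⟩
  have he' : l⁻¹ * e * l ∈ E := by
    have h0 := (Subgroup.mem_normalizer_iff.mp (Subgroup.inv_mem _ hlE) e).mp he
    simpa using h0
  have h1 : (l⁻¹ * e * l) * y * (l⁻¹ * e * l)⁻¹ * y⁻¹ ∈ R := h (comm_mem_commutator he' hy)
  have h2 := (Subgroup.mem_normalizer_iff.mp hlR _).mp h1
  have e1 : e * (MulAut.conj l).toMonoidHom y * e⁻¹ * ((MulAut.conj l).toMonoidHom y)⁻¹ =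
      l * ((l⁻¹ * e * l) * y * (l⁻¹ * e * l)⁻¹ * y⁻¹) * l⁻¹ := by
    show e * (l * y * l⁻¹) * e⁻¹ * (l * y * l⁻¹)⁻¹ = _
    group
  rw [e1]; exact h2

/-- a `p'`-element normalizing the `p`-group `A` and acting trivially on `A/A'` centralizes `A` -/
theorem centralizes_of_coprime_of_commutator_le [Finite G] [Fact p.Prime] {A : Subgroup G}
    (hAp : IsPGroup p A) {x : G} (hx : (orderOf x).Coprime p)
    (hxA : x ∈ Subgroup.normalizer (A : Set G))
    (h : ⁅A, Subgroup.zpowers x⁆ ≤ ⁅A, A⁆) : x ∈ Subgroup.centralizer (A : Set G) := by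
  have hXA : Subgroup.zpowers x ≤ Subgroup.normalizer (A : Set G) := by
    rw [Subgroup.zpowers_le]; exact hxA
  have hcop : (Nat.card (Subgroup.zpowers x)).Coprime (Nat.card A) := by
    obtain ⟨k, hk⟩ := (IsPGroup.iff_card).mp hAp
    rw [Nat.card_zpowers, hk]; exact Nat.Coprime.pow_right k hx
  haveI : Group.IsNilpotent ↥A := hAp.isNilpotent
  have hsolv : Group.IsSolvable ↥(Subgroup.zpowers x) ∨ Group.IsSolvable ↥A := Or.inr inferInstance
  have h1 := coprime_le_commutator_sup_centralizer A (Subgroup.zpowers x) hXA hcop hsolv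
  set C := A ⊓ Subgroup.centralizer ((Subgroup.zpowers x : Subgroup G) : Set G) with hC
  have h2 : A ≤ ⁅A, A⁆ ⊔ C := h1.trans (sup_le_sup_right h _)
  have hAA : ⁅A, A⁆ ≤ A := Subgroup.commutator_le_self A
  have h3 : C.subgroupOf A ⊔ frattini ↥A = ⊤ := by
    rw [eq_top_iff]
    have h4 : (⁅A, A⁆).subgroupOf A ≤ frattini ↥A := by
      have h5 := commutator_le_frattini_of_nilpotent (N := ↥A)
      have h6 : (⁅A, A⁆).subgroupOf A = commutator ↥A := by
        rw [← Subgroup.map_subtype_commutator, map_subtype_subgroupOf]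
      rw [h6]; exact h5
    have h7 : (⊤ : Subgroup ↥A) ≤ (⁅A, A⁆ ⊔ C).subgroupOf A := by
      intro a _
      exact Subgroup.mem_subgroupOf.mpr (h2 a.2)
    rw [Subgroup.subgroupOf_sup hAA inf_le_left] at h7
    exact h7.trans (by rw [sup_comm]; exact sup_le_sup_left h4 _)
  have h5 := frattini_nongenerating h3
  have h6 : A ≤ C := Subgroup.subgroupOf_eq_top.mp h5
  rw [Subgroup.mem_centralizer_iff]
  intro a ha
  have h7 := (h6 ha).2
  exact (Subgroup.mem_centralizer_iff.mp h7 x (Subgroup.mem_zpowers x)).symm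

theorem normalizer_le_normalizer_map_pResidual (p : ℕ) (D : Subgroup G) :
    Subgroup.normalizer (D : Set G) ≤
      Subgroup.normalizer (((pResidual p ↥D).map D.subtype : Subgroup G) : Set G) := by
  apply le_normalizer_of_conj_mem
  intro g hg u hu
  have key : (pResidual p ↥D).map D.subtype ≤
      ((pResidual p ↥D).map D.subtype).comap (MulAut.conj g).toMonoidHom := by
    rw [Subgroup.map_le_iff_le_comap]
    unfold pResidual
    rw [Subgroup.closure_le]
    intro x hx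
    have hx' : (orderOf x).Coprime p := hx
    have hmem : g * (x : G) * g⁻¹ ∈ D := (Subgroup.mem_normalizer_iff.mp hg x).mp x.2
    show g * (x : G) * g⁻¹ ∈ Subgroup.map D.subtype (Subgroup.closure _)
    refine ⟨⟨g * x * g⁻¹, hmem⟩, Subgroup.subset_closure ?_, rfl⟩
    show (orderOf (⟨g * (x : G) * g⁻¹, hmem⟩ : ↥D)).Coprime p
    have h1 : orderOf (⟨g * (x : G) * g⁻¹, hmem⟩ : ↥D) = orderOf x := by
      rw [← Subgroup.orderOf_coe, ← Subgroup.orderOf_coe x]
      show orderOf (g * (x : G) * g⁻¹) = orderOf (x : G)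
      have h2 : g * (x : G) * g⁻¹ = MulAut.conj g (x : G) := by simp
      rw [h2, MulEquiv.orderOf_eq]
    rw [h1]; exact hx'
  exact key hu

/-- criterion for `Y ≤ O_p(L)` -/
theorem le_pCoreOf_of_commutator_le [Finite G] [Fact p.Prime] (S : Sylow p G) (Q : Subgroup G)
    (hQp : IsPGroup p ↥Q) (hQ1 : Q ≠ ⊥) (hQ : IsLarge Q) (M : Subgroup G)
    (hSM : (S : Subgroup G) ≤ M) (hM : IsInFrakM p M) (I : Subgroup G) (hI1 : I ≠ ⊥)
    (hIp : IsPGroup p ↥I) (hIM : I ≤ M ∧ M ≤ Subgroup.normalizer ((I : Subgroup G) : Set G))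
    (Y : Subgroup G)
    (hY : Y ≤ pCoreOf p (M ⊔ Subgroup.centralizer ((largestPReducedOf p M : Subgroup G) : Set G)))
    (L : Subgroup G) (hYL : Y ≤ L) (A : Subgroup G) (hAp : IsPGroup p ↥A)
    (hAL : A ≤ L ∧ L ≤ Subgroup.normalizer ((A : Subgroup G) : Set G)) (hIA : I ≤ A)
    (hc : ⁅Y, A⁆ ≤ ⁅I, A⁆) : Y ≤ pCoreOf p L := by
  generalize hMd : M ⊔ Subgroup.centralizer ((largestPReducedOf p M : Subgroup G) : Set G) = Md
    at hY
  have hYp : IsPGroup p ↥Y := (isPGroup_pCoreOf p Md).to_le hY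
  -- step 1
  have hNI : Subgroup.normalizer (I : Set G) ≤ Md := by
    have hpar : IsParabolic p (Subgroup.normalizer (I : Set G)) := ⟨S, hSM.trans hIM.2⟩
    have hIR : I ≤ pCoreOf p (Subgroup.normalizer (I : Set G)) :=
      le_pCoreOf Subgroup.le_normalizer le_rfl hIp
    have hP1 : pCoreOf p (Subgroup.normalizer (I : Set G)) ≠ ⊥ :=
      fun h => hI1 (le_bot_iff.mp (h ▸ hIR))
    have hRmem : Subgroup.normalizer (I : Set G) ∈ charPSubgroups p G :=
      ⟨pCore_ne_bot_of_pCoreOf hP1, large_parabolic_centralizer_le hQp hQ1 hQ hpar hP1⟩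
    obtain ⟨X, hRX, hXS, hmax⟩ :=
      Set.Finite.exists_le_maximal (Set.toFinite (charPSubgroups p G)) hRmem
    have hXmax : X ∈ maxCharPSubgroups p G :=
      ⟨hXS, fun Z hZ hXZ => le_antisymm (hmax hZ hXZ) hXZ⟩
    have h1 := hM.2.2.1 X hXmax (hIM.2.trans hRX)
    rw [← hMd, ← h1]; exact hRX
  -- the normal closure of Y in L
  set D : Subgroup G := ⨆ l : ↥L, Y.map (MulAut.conj (l : G)).toMonoidHom with hD
  have hYlD : ∀ l : ↥L, Y.map (MulAut.conj (l : G)).toMonoidHom ≤ D := fun l =>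
    le_iSup (fun l : ↥L => Y.map (MulAut.conj (l : G)).toMonoidHom) l
  have hYD : Y ≤ D := by
    refine le_trans ?_ (hYlD 1)
    intro y hy
    exact ⟨y, hy, by simp⟩
  have hDL : D ≤ L := by
    apply iSup_le
    rintro ⟨l, hl⟩ _ ⟨y, hy, rfl⟩
    exact L.mul_mem (L.mul_mem hl (hYL hy)) (L.inv_mem hl)
  have hLD : L ≤ Subgroup.normalizer (D : Set G) := by
    apply le_normalizer_of_conj_mem
    intro l' hl' d hd
    have key : D.map (MulAut.conj l').toMonoidHom ≤ D := by
      rw [hD, Subgroup.map_iSup]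
      apply iSup_le
      rintro ⟨l, hl⟩
      rw [Subgroup.map_map]
      refine le_trans ?_ (hYlD ⟨l' * l, L.mul_mem hl' hl⟩)
      rintro _ ⟨u, hu, rfl⟩
      exact ⟨u, hu, by simp [mul_assoc]⟩
    exact key ⟨d, hd, rfl⟩
  -- D acts trivially on A / A'
  have hLAA : L ≤ Subgroup.normalizer ((⁅A, A⁆ : Subgroup G) : Set G) :=
    Helper1.le_normalizer_commutator A A L hAL.2 hAL.2
  have hAY : ⁅A, Y⁆ ≤ ⁅A, A⁆ := by
    rw [Subgroup.commutator_comm]
    exact hc.trans (Subgroup.commutator_mono hIA le_rfl)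
  have hAD : ⁅A, D⁆ ≤ ⁅A, A⁆ :=
    commutator_iSup_le (fun l => ((hYlD l).trans hDL).trans hLAA)
      (fun l => commutator_map_conj_le (hAL.2 l.2) (hLAA l.2) hAY)
  -- E = O^p(D) centralizes A
  set E : Subgroup G := (pResidual p ↥D).map D.subtype with hE
  have hED : E ≤ D := map_pResidual_le p D
  have hDE : D ≤ Subgroup.normalizer (E : Set G) := le_normalizer_map_pResidual p D
  have hEA : E ≤ Subgroup.centralizer (A : Set G) := by
    rw [hE, Subgroup.map_le_iff_le_comap]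
    unfold pResidual
    rw [Subgroup.closure_le]
    intro g hg
    have hg' : (orderOf g).Coprime p := hg
    show (g : G) ∈ Subgroup.centralizer (A : Set G)
    apply centralizes_of_coprime_of_commutator_le hAp
      (by rw [Subgroup.orderOf_coe]; exact hg') (hAL.2 (hDL g.2))
    exact (Subgroup.commutator_mono le_rfl (by rw [Subgroup.zpowers_le]; exact g.2)).trans hAD
  have hEM : E ≤ Md :=
    ((hEA.trans (Subgroup.centralizer_le hIA)).trans (Subgroup.centralizer_le_normalizer _)).trans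
      hNI
  have hEY : ⁅E, Y⁆ ≤ pCoreOf p Md := by
    rw [Subgroup.commutator_comm]
    exact (Subgroup.commutator_mono hY le_rfl).trans
      (commutator_le_of_le_normalizer (hEM.trans (le_normalizer_pCoreOf p Md)))
  have hEYE : ⁅E, Y⁆ ≤ pCoreOf p E :=
    le_pCoreOf (commutator_le_of_le_normalizer (hYD.trans hDE)) (le_normalizer_commutator_left E Y)
      ((isPGroup_pCoreOf p Md).to_le hEY)
  have hRE : pCoreOf p E ≤ pCoreOf p D :=
    le_pCoreOf ((pCoreOf_le p E).trans hED) (hDE.trans (normalizer_le_normalizer_pCoreOf p E))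
      (isPGroup_pCoreOf p E)
  have hLE : L ≤ Subgroup.normalizer (E : Set G) :=
    hLD.trans (normalizer_le_normalizer_map_pResidual p D)
  have hLR : L ≤ Subgroup.normalizer ((pCoreOf p D : Subgroup G) : Set G) :=
    hLD.trans (normalizer_le_normalizer_pCoreOf p D)
  have hED' : ⁅E, D⁆ ≤ pCoreOf p D :=
    commutator_iSup_le (fun l => (hYlD l).trans (le_normalizer_pCoreOf p D))
      (fun l => commutator_map_conj_le (hLE l.2) (hLR l.2) (hEYE.trans hRE))
  -- the Sylow p-subgroups of D are normal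
  have hsyl : ∀ T : Sylow p ↥D, (T : Subgroup ↥D).Normal := by
    intro T
    rw [← Subgroup.normalizer_eq_top_iff, eq_top_iff]
    intro y _
    obtain ⟨o, ho, t, ht, rfl⟩ := exists_pResidual_mul_sylow T y
    refine Subgroup.mul_mem _ ?_ (Subgroup.le_normalizer ht)
    have hres : pResidual p ↥D ≤ Subgroup.normalizer ((T : Subgroup ↥D) : Set ↥D) := by
      apply le_normalizer_of_conj_mem
      intro o ho u hu
      have h1 : (o : G) * (u : G) * (o : G)⁻¹ * (u : G)⁻¹ ∈ pCoreOf p D :=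
        hED' (comm_mem_commutator (Subgroup.mem_map_of_mem D.subtype ho) u.2)
      obtain ⟨r, hr, hre⟩ := h1
      have h2 : r = o * u * o⁻¹ * u⁻¹ := Subtype.ext hre
      have h3 : o * u * o⁻¹ * u⁻¹ ∈ (T : Subgroup ↥D) := h2 ▸ pCore_le_sylow T hr
      have h4 : o * u * o⁻¹ = (o * u * o⁻¹ * u⁻¹) * u := by group
      rw [h4]; exact Subgroup.mul_mem _ h3 hu
    exact hres ho
  obtain ⟨T, hT⟩ := (hYp.comap_subtype : IsPGroup p (Y.subgroupOf D)).exists_le_sylow
  have hTcore : (T : Subgroup ↥D) ≤ pCore p ↥D := le_pCore (hsyl T) T.isPGroup'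
  have hYcore : Y ≤ pCoreOf p D := by
    intro y hy
    exact ⟨⟨y, hYD hy⟩, hTcore (hT (Subgroup.mem_subgroupOf.mpr hy)), rfl⟩
  exact hYcore.trans (le_pCoreOf ((pCoreOf_le p D).trans hDL) hLR (isPGroup_pCoreOf p D))

end Cfsg.Agent.Helper16
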