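import Cfsg.Agent.Helper16.WCProd
import Cfsg.Agent.Helper16.FStarY
import Cfsg.Agent.Helper9.PComp3

set_option autoImplicit false

namespace Cfsg.Agent.Helper16

open Cfsg
open Cfsg.Agent.Helper17 (mem_map_conj map_conj_map_conj map_conj_one
  map_conj_eq_of_mem_normalizer conj_mem_map_conj isPGroup_mem_pow)

section QC

variable {K : Type*} [Group K] {p : ℕ}

theorem conj_pow_eq (x t : K) (n : ℕ) : (x * t * x⁻¹) ^ n = x * t ^ n * x⁻¹ := by
  induction n with
  | zero => simp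
  | succ n ih => rw [pow_succ, ih, pow_succ]; group

theorem pow_prime_pow_add_left {z : K} {i : ℕ} (h : z ^ (p ^ i) = 1) (j : ℕ) :
    z ^ (p ^ (i + j)) = 1 := by
  rw [pow_add, pow_mul, h, one_pow]

theorem pow_prime_pow_add_right {z : K} {i : ℕ} (h : z ^ (p ^ i) = 1) (j : ℕ) :
    z ^ (p ^ (j + i)) = 1 := by
  rw [add_comm]; exact pow_prime_pow_add_left h j

/-- In a finite group with `O_p = 1`, a `p`-subgroup centralizing a normal subgroup `N` with
`K / N` a `p`-group is trivial. -/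
theorem pgroup_centralizing_eq_bot [Fact p.Prime] [Finite K] (hO : pCore p K = ⊥)
    (N : Subgroup K) [hN : N.Normal] (hidx : ∀ x : K, ∃ k : ℕ, x ^ (p ^ k) ∈ N)
    {Y : Subgroup K} (hY : IsPGroup p Y) (hYN : Y ≤ Subgroup.centralizer (N : Set K)) :
    Y = ⊥ := by
  obtain ⟨P, hYP⟩ := hY.exists_le_sylow
  haveI hBn : (Subgroup.centralizer (N : Set K)).Normal := Subgroup.normal_centralizer
  obtain ⟨B, hB⟩ : ∃ B, B = Subgroup.centralizer (N : Set K) := ⟨_, rfl⟩
  haveI hBn' : B.Normal := by rw [hB]; exact hBn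
  have hBle : B ≤ ((P : Subgroup K) ⊓ B) ⊔ N :=
    normal_le_sylow_inf_sup P B N (fun x _ => hidx x)
  -- the `p`-elements of the abelian normal subgroup `N ⊓ B`
  let Ap : Subgroup K :=
    { carrier := {z | z ∈ N ⊓ B ∧ ∃ j : ℕ, z ^ (p ^ j) = 1}
      one_mem' := ⟨Subgroup.one_mem _, 0, by simp⟩
      mul_mem' := by
        rintro a b ⟨ha, j₁, hj₁⟩ ⟨hb, j₂, hj₂⟩
        refine ⟨Subgroup.mul_mem _ ha hb, j₁ + j₂, ?_⟩
        have hcomm : Commute a b := by
          have hb' : b ∈ Subgroup.centralizer (N : Set K) := by rw [← hB]; exact hb.2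
          exact Subgroup.mem_centralizer_iff.mp hb' a ha.1
        rw [hcomm.mul_pow, pow_prime_pow_add_left hj₁, pow_prime_pow_add_right hj₂, one_mul]
      inv_mem' := by
        rintro a ⟨ha, j, hj⟩
        exact ⟨Subgroup.inv_mem _ ha, j, by rw [inv_pow, hj, inv_one]⟩ }
  have hApn : Ap.Normal := by
    constructor
    rintro z ⟨hz, j, hj⟩ x
    have hNB : (N ⊓ B).Normal := inferInstance
    exact ⟨hNB.conj_mem z hz x, j, by rw [conj_pow_eq, hj]; group⟩
  have hApp : IsPGroup p Ap := by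
    rintro ⟨z, hz, j, hj⟩
    exact ⟨j, Subtype.ext hj⟩
  have hAp : Ap = ⊥ := by
    have := le_pCore hApn hApp
    rw [hO] at this
    exact le_bot_iff.mp this
  -- `P ⊓ B` is normal
  have hTn : ((P : Subgroup K) ⊓ B).Normal := by
    constructor
    intro t ht x
    have hs : x * t * x⁻¹ ∈ B := hBn'.conj_mem t ht.2 x
    have hTN : (P : Subgroup K) ⊓ B ≤ Subgroup.normalizer (N : Set K) := by
      rw [Subgroup.normalizer_eq_top]; exact le_top
    obtain ⟨t₁, ht₁, k, hk, e⟩ := mem_sup_of_le_normalizer hTN (hBle hs)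
    have hcomm : Commute t₁ k := by
      have h1 : t₁ ∈ Subgroup.centralizer (N : Set K) := by rw [← hB]; exact ht₁.2
      exact (Subgroup.mem_centralizer_iff.mp h1 k hk).symm
    obtain ⟨a, ha⟩ := isPGroup_mem_pow P.2 ht₁.1
    obtain ⟨b, hb⟩ := isPGroup_mem_pow P.2 ht.1
    have hk1 : k ^ (p ^ (a + b)) = 1 := by
      have h2 : (x * t * x⁻¹) ^ (p ^ (a + b)) = 1 := by
        rw [conj_pow_eq, pow_prime_pow_add_right hb]; group
      rw [e, hcomm.mul_pow, pow_prime_pow_add_left ha, one_mul] at h2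
      exact h2
    have hkB : k ∈ B := by
      have e' : k = t₁⁻¹ * (x * t * x⁻¹) := by rw [e]; group
      rw [e']; exact B.mul_mem (B.inv_mem ht₁.2) hs
    have hkA : k ∈ Ap := ⟨⟨hk, hkB⟩, a + b, hk1⟩
    rw [hAp, Subgroup.mem_bot] at hkA
    rw [e, hkA, mul_one]
    exact ht₁
  have hT : (P : Subgroup K) ⊓ B = ⊥ := by
    have := le_pCore hTn (P.2.to_le inf_le_left)
    rw [hO] at this
    exact le_bot_iff.mp this
  rw [eq_bot_iff, ← hT]
  exact le_inf hYP (by rw [hB]; exact hYN)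

end QC

section Core

variable {X : Type*} [Group X] {p : ℕ}

theorem le_normalizer_of_normal' (A : Subgroup X) {N : Subgroup X} (hN : N.Normal) :
    A ≤ Subgroup.normalizer (N : Set X) := by
  rw [Subgroup.normalizer_eq_top]; exact le_top

/-- a `p`-subgroup normal modulo `C` lies in `C` when `O_p(X / C) = 1` -/
theorem le_of_pCore_quot_eq_bot (C : Subgroup X) [C.Normal] (hred : pCore p (X ⧸ C) = ⊥)
    {P : Subgroup X} (hP : IsPGroup p P) (hn : (P ⊔ C).Normal) : P ≤ C := by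
  have h1 : ((P ⊔ C).map (QuotientGroup.mk' C)).Normal :=
    hn.map _ (QuotientGroup.mk'_surjective C)
  have h2 : (P ⊔ C).map (QuotientGroup.mk' C) = P.map (QuotientGroup.mk' C) := by
    rw [Subgroup.map_sup, QuotientGroup.map_mk'_self, sup_bot_eq]
  rw [h2] at h1
  have h3 := le_pCore h1 (hP.map _)
  rw [hred, le_bot_iff, Subgroup.map_eq_bot_iff, QuotientGroup.ker_mk'] at h3
  exact h3

/-- normal subgroups of a quasisimple section -/
theorem quasi_map_dichotomy (C K : Subgroup X) [C.Normal]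
    (hqs : IsQuasisimple ↥(K.map (QuotientGroup.mk' C))) {D : Subgroup X} (hCD : C ≤ D)
    (hDK : D ≤ K) (hKD : K ≤ Subgroup.normalizer (D : Set X)) : D = K ∨ ⁅D, K⁆ ≤ C := by
  have hle : D.map (QuotientGroup.mk' C) ≤ K.map (QuotientGroup.mk' C) := Subgroup.map_mono hDK
  have hn : ((D.map (QuotientGroup.mk' C)).subgroupOf (K.map (QuotientGroup.mk' C))).Normal := by
    rw [Subgroup.normal_subgroupOf_iff_le_normalizer hle]
    exact (Subgroup.map_mono hKD).trans (Subgroup.le_normalizer_map _)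
  by_cases htop : (D.map (QuotientGroup.mk' C)).subgroupOf (K.map (QuotientGroup.mk' C)) = ⊤
  · left
    rw [Subgroup.subgroupOf_eq_top] at htop
    have h1 := (Subgroup.map_le_map_iff (f := QuotientGroup.mk' C)).mp htop
    rw [QuotientGroup.ker_mk', sup_eq_left.mpr hCD] at h1
    exact le_antisymm hDK h1
  · right
    have hc := Helper9.quasi_normal_le_center hqs _ hn htop
    rw [commutator_le_iff']
    intro d hd k hk
    have hd' : (⟨QuotientGroup.mk' C d, Subgroup.mem_map_of_mem _ (hDK hd)⟩ :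
        ↥(K.map (QuotientGroup.mk' C))) ∈
        (D.map (QuotientGroup.mk' C)).subgroupOf (K.map (QuotientGroup.mk' C)) :=
      Subgroup.mem_subgroupOf.mpr (Subgroup.mem_map_of_mem _ hd)
    have h2 := Subgroup.mem_center_iff.mp (hc hd')
      (⟨QuotientGroup.mk' C k, Subgroup.mem_map_of_mem _ hk⟩ : ↥(K.map (QuotientGroup.mk' C)))
    have h3 : QuotientGroup.mk' C k * QuotientGroup.mk' C d =
        QuotientGroup.mk' C d * QuotientGroup.mk' C k := congrArg Subtype.val h2
    rw [← QuotientGroup.eq_one_iff (N := C), ← QuotientGroup.mk'_apply, map_mul, map_mul, map_mul,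
      map_inv, map_inv, ← h3]
    group

theorem quasi_map_perfect (C K : Subgroup X) [C.Normal]
    (hqs : IsQuasisimple ↥(K.map (QuotientGroup.mk' C))) : K ≤ ⁅K, K⁆ ⊔ C := by
  haveI := hqs.1
  have h1 : ⁅K.map (QuotientGroup.mk' C), K.map (QuotientGroup.mk' C)⁆ =
      K.map (QuotientGroup.mk' C) := Subgroup.isPerfect_iff.mp hqs.1
  rw [← Subgroup.map_commutator] at h1
  have h2 := (Subgroup.map_le_map_iff (f := QuotientGroup.mk' C)).mp h1.ge
  rwa [QuotientGroup.ker_mk'] at h2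

/-- a `p`-subgroup not inside `C` acts nontrivially on the quasisimple section -/
theorem qs_stepA [Finite X] [Fact p.Prime] (C : Subgroup X) [hC : C.Normal]
    (hred : pCore p (X ⧸ C) = ⊥) {K : Subgroup X} [hKn : K.Normal] (hCK : C ≤ K)
    (hres : pResidual p X ≤ K)
    (hqs : IsQuasisimple ↥(K.map (QuotientGroup.mk' C)))
    {Y : Subgroup X} (hY : IsPGroup p Y) (hYC : ¬ Y ≤ C) : K ≤ ⁅K, Y⁆ ⊔ C := by
  have hDK : ⁅K, Y⁆ ⊔ C ≤ K := sup_le (Subgroup.commutator_le_left K Y) hCK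
  have hKD : K ≤ Subgroup.normalizer ((⁅K, Y⁆ ⊔ C : Subgroup X) : Set X) :=
    le_normalizer_sup' (le_normalizer_commutator_left K Y) (le_normalizer_of_normal' K hC)
  rcases quasi_map_dichotomy C K hqs le_sup_right hDK hKD with h | h
  · exact h.ge
  · exfalso
    have h1 : ⁅⁅K, Y⁆, K⁆ ≤ C := (Subgroup.commutator_mono le_sup_left le_rfl).trans h
    have h2 : ⁅⁅Y, K⁆, K⁆ ≤ C := by rw [Subgroup.commutator_comm Y K]; exact h1
    have h3 : ⁅⁅K, K⁆, Y⁆ ≤ C := commutator_commutator_le_of_rotate h1 h2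
    have h4 : ⁅K, Y⁆ ≤ C := by
      have h5 := quasi_map_perfect C K hqs
      have h6 : ⁅Y, ⁅K, K⁆ ⊔ C⁆ ≤ C :=
        commutator_sup_le (le_normalizer_of_normal' _ hC) (le_normalizer_of_normal' _ hC)
          (by rw [Subgroup.commutator_comm]; exact h3) (Subgroup.commutator_le_right Y C)
      rw [Subgroup.commutator_comm]
      exact (Subgroup.commutator_mono le_rfl h5).trans h6
    have h7 : Y.map (QuotientGroup.mk' C) ≤
        Subgroup.centralizer ((K.map (QuotientGroup.mk' C) : Subgroup (X ⧸ C)) : Set (X ⧸ C)) := by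
      rintro _ ⟨y, hy, rfl⟩
      rw [Subgroup.mem_centralizer_iff]
      rintro _ ⟨k, hk, rfl⟩
      have h8 : k * y * k⁻¹ * y⁻¹ ∈ C := h4 (comm_mem_commutator hk hy)
      rw [← QuotientGroup.eq_one_iff (N := C), ← QuotientGroup.mk'_apply, map_mul, map_mul,
        map_mul, map_inv, map_inv] at h8
      have e : QuotientGroup.mk' C k * QuotientGroup.mk' C y =
          (QuotientGroup.mk' C k * QuotientGroup.mk' C y * (QuotientGroup.mk' C k)⁻¹ *
            (QuotientGroup.mk' C y)⁻¹) * (QuotientGroup.mk' C y * QuotientGroup.mk' C k) := by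
        group
      rw [e, h8, one_mul]
    haveI hKbar : (K.map (QuotientGroup.mk' C)).Normal :=
      hKn.map _ (QuotientGroup.mk'_surjective C)
    have hidx : ∀ x : X ⧸ C, ∃ k : ℕ, x ^ (p ^ k) ∈ K.map (QuotientGroup.mk' C) := by
      intro x
      obtain ⟨x, rfl⟩ := QuotientGroup.mk'_surjective C x
      obtain ⟨k, hk⟩ := exists_pow_mem_pResidual (p := p) x
      exact ⟨k, ⟨x ^ (p ^ k), hres hk, by rw [map_pow]⟩⟩
    have h9 := pgroup_centralizing_eq_bot hred (K.map (QuotientGroup.mk' C)) hidx (hY.map _) h7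
    apply hYC
    rw [Subgroup.map_eq_bot_iff, QuotientGroup.ker_mk'] at h9
    exact h9

theorem mem_inf_of_mem_sup_normal {A R C : Subgroup X} (hAR : A ≤ R) (hC : C.Normal) {r : X}
    (hr : r ∈ R) (h : r ∈ A ⊔ C) : r ∈ A ⊔ (R ⊓ C) := by
  obtain ⟨a, ha, c, hc, rfl⟩ := mem_sup_of_le_normalizer (le_normalizer_of_normal' A hC) h
  have hcR : c ∈ R := by
    have e : c = a⁻¹ * (a * c) := by group
    rw [e]; exact R.mul_mem (R.inv_mem (hAR ha)) hr
  exact Subgroup.mul_mem_sup ha (Subgroup.mem_inf.mpr ⟨hcR, hc⟩)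

/-- the abstract core of the quasisimple action lemma -/
theorem qs_core [Finite X] [Fact p.Prime] (C : Subgroup X) [hC : C.Normal]
    (hred : pCore p (X ⧸ C) = ⊥)
    (hqs : IsQuasisimple ↥((pResidual p X ⊔ C).map (QuotientGroup.mk' C)))
    {Q W R : Subgroup X} (hQp : IsPGroup p Q) (hQC : ¬ Q ≤ C)
    [hWn : W.Normal] [hRn : R.Normal] (hQW : Q ≤ W) (hRW : R ≤ W) (hWQR : W ≤ Q ⊔ R)
    (hCW : ⁅C, W⁆ ≤ pCore p X) (hRres : R ≤ pResidual p X) (hRQ : ⁅R, Q⁆ = R)
    (hRgen : ∀ Z : Subgroup X, (∀ x ∈ R, (orderOf x).Coprime p → x ∈ Z) → R ≤ Z) :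
    pResidual p X ⊔ C = R ⊔ C ∧ ⁅R, R⁆ = R ∧
      ∀ Y : Subgroup X, IsPGroup p Y → ¬ Y ≤ C → ⁅R, Y⁆ = R := by
  haveI hResn : (pResidual p X).Normal := pResidual_normal p X
  obtain ⟨K, hK⟩ : ∃ K, K = pResidual p X ⊔ C := ⟨_, rfl⟩
  rw [← hK] at hqs ⊢
  haveI hKn : K.Normal := by rw [hK]; infer_instance
  have hCK : C ≤ K := by rw [hK]; exact le_sup_right
  have hresK : pResidual p X ≤ K := by rw [hK]; exact le_sup_left
  haveI hOn : (pCore p X).Normal := pCore_normal p X
  have hOp : IsPGroup p (pCore p X) := pCore_isPGroup p X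
  haveI hRCn : (R ⊔ C).Normal := inferInstance
  -- (1)
  have h1a : pResidual p X ≤ R ⊔ C := by
    show Subgroup.closure _ ≤ _
    rw [Subgroup.closure_le]
    intro x hx
    have hxK : x ∈ K := hresK (mem_pResidual_of_coprime hx)
    have h2 : x ∈ ⁅K, Q⁆ ⊔ C := qs_stepA C hred hCK hresK hqs hQp hQC hxK
    have h3 : ⁅K, Q⁆ ⊔ C ≤ Q ⊔ (R ⊔ C) := by
      apply sup_le _ (le_sup_right.trans le_sup_right)
      calc ⁅K, Q⁆ ≤ ⁅K, W⁆ := Subgroup.commutator_mono le_rfl hQW
        _ ≤ W := Subgroup.commutator_le_right K W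
        _ ≤ Q ⊔ R := hWQR
        _ ≤ Q ⊔ (R ⊔ C) := sup_le_sup_left le_sup_left Q
    exact mem_of_mem_sup_pgroup_coprime hQp (le_normalizer_of_normal' Q hRCn) (h3 h2) hx
  have h1 : K = R ⊔ C := by
    apply le_antisymm
    · rw [hK]; exact sup_le h1a le_sup_right
    · exact sup_le (hRres.trans hresK) hCK
  have hRK : R ≤ K := hRres.trans hresK
  haveI hRRn : (⁅R, R⁆ : Subgroup X).Normal := inferInstance
  -- `[R ⊓ C, anything in W] ≤ O ⊓ R`
  have hRCW : ∀ A : Subgroup X, A ≤ W → ⁅R ⊓ C, A⁆ ≤ pCore p X ⊓ R := by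
    intro A hA
    apply le_inf ((Subgroup.commutator_mono inf_le_right hA).trans hCW)
    exact (Subgroup.commutator_mono inf_le_left le_rfl).trans (Subgroup.commutator_le_left R A)
  haveI hORn : (pCore p X ⊓ R).Normal := inferInstance
  have hORp : IsPGroup p ↥(pCore p X ⊓ R) := hOp.to_le inf_le_left
  -- (2)
  have h2 : ⁅R, R⁆ = R := by
    apply le_antisymm (Subgroup.commutator_le_left R R)
    have hKK : ⁅K, K⁆ ≤ ⁅R, R⁆ ⊔ C := by
      haveI hNn : (⁅R, R⁆ ⊔ C).Normal := inferInstance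
      have hN := fun A : Subgroup X => le_normalizer_of_normal' A hNn
      have ha : ⁅R ⊔ C, R⁆ ≤ ⁅R, R⁆ ⊔ C := by
        rw [Subgroup.commutator_comm]
        exact commutator_sup_le (hN R) (hN C) le_sup_left
          ((Subgroup.commutator_le_right R C).trans le_sup_right)
      have hb : ⁅R ⊔ C, C⁆ ≤ ⁅R, R⁆ ⊔ C :=
        (Subgroup.commutator_le_right (R ⊔ C) C).trans le_sup_right
      rw [h1]
      exact commutator_sup_le (hN R) (hN C) ha hb
    have hR1 : R ≤ ⁅R, R⁆ ⊔ (R ⊓ C) := by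
      intro r hr
      apply mem_inf_of_mem_sup_normal (Subgroup.commutator_le_left R R) hC hr
      have h3 := quasi_map_perfect C K hqs (hRK hr)
      exact (sup_le (hKK) le_sup_right) h3
    have hR2 : R ≤ (pCore p X ⊓ R) ⊔ ⁅R, R⁆ := by
      conv_lhs => rw [← hRQ]
      haveI hUn : ((pCore p X ⊓ R) ⊔ ⁅R, R⁆).Normal := inferInstance
      have hN := fun A : Subgroup X => le_normalizer_of_normal' A hUn
      have h4 : ⁅Q, ⁅R, R⁆ ⊔ (R ⊓ C)⁆ ≤ (pCore p X ⊓ R) ⊔ ⁅R, R⁆ := by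
        apply commutator_sup_le (hN _) (hN _)
        · exact (Subgroup.commutator_le_right Q ⁅R, R⁆).trans le_sup_right
        · rw [Subgroup.commutator_comm]
          exact (hRCW Q hQW).trans le_sup_left
      rw [Subgroup.commutator_comm]
      exact (Subgroup.commutator_mono le_rfl hR1).trans h4
    apply hRgen
    intro x hx hc
    exact mem_of_mem_sup_pgroup_coprime hORp (le_normalizer_of_normal' _ hRRn) (hR2 hx) hc
  refine ⟨h1, h2, ?_⟩
  -- (6)
  intro Y hY hYC
  apply le_antisymm (Subgroup.commutator_le_left R Y)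
  have hBR : ⁅R, Y⁆ ≤ R := Subgroup.commutator_le_left R Y
  have hRB : R ≤ Subgroup.normalizer ((⁅R, Y⁆ : Subgroup X) : Set X) :=
    le_normalizer_commutator_left R Y
  have hKY : ⁅K, Y⁆ ≤ ⁅R, Y⁆ ⊔ C := by
    rw [h1, Subgroup.commutator_comm]
    apply commutator_sup_le
    · exact le_normalizer_sup' hRB (le_normalizer_of_normal' R hC)
    · exact le_sup_right.trans Subgroup.le_normalizer
    · rw [Subgroup.commutator_comm]; exact le_sup_left
    · exact (Subgroup.commutator_le_right Y C).trans le_sup_right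
  have hR1 : R ≤ ⁅R, Y⁆ ⊔ (R ⊓ C) := by
    intro r hr
    apply mem_inf_of_mem_sup_normal hBR hC hr
    have h3 := qs_stepA C hred hCK hresK hqs hY hYC (hRK hr)
    exact (sup_le hKY le_sup_right) h3
  have hRU : R ≤ Subgroup.normalizer (((pCore p X ⊓ R) ⊔ ⁅R, Y⁆ : Subgroup X) : Set X) :=
    le_normalizer_sup' (le_normalizer_of_normal' R hORn) hRB
  have hR2 : R ≤ (pCore p X ⊓ R) ⊔ ⁅R, Y⁆ := by
    conv_lhs => rw [← h2]
    have h4 : ⁅R, ⁅R, Y⁆ ⊔ (R ⊓ C)⁆ ≤ (pCore p X ⊓ R) ⊔ ⁅R, Y⁆ := by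
      apply commutator_sup_le (hBR.trans hRU) (inf_le_left.trans hRU)
      · rw [Subgroup.commutator_comm]
        exact (commutator_le_of_le_normalizer hRB).trans le_sup_right
      · rw [Subgroup.commutator_comm]
        exact (hRCW R hRW).trans le_sup_left
    exact (Subgroup.commutator_mono le_rfl hR1).trans h4
  apply hRgen
  intro x hx hc
  exact mem_of_mem_sup_pgroup_coprime hORp (inf_le_right.trans hRB) (hR2 hx) hc

end Core

end Cfsg.Agent.Helper16
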