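import Cfsg.Agent.Helper16.QSCore

set_option autoImplicit false

namespace Cfsg.Agent.Helper16

open Cfsg
open Cfsg.Agent.Helper17 (mem_map_conj map_conj_map_conj map_conj_one
  map_conj_eq_of_mem_normalizer conj_mem_map_conj isPGroup_mem_pow)

variable {G : Type*} [Group G] {p : ℕ}

/-- Large `Q ≤ E ≤ N(U)`, `Q` not normal in `E`, `O_p(E / C_E(U)) = 1`,
`O^p(E) C_E(U) / C_E(U)` quasisimple: the structure of `E_∘ = O^p(⟨Q^E⟩)`. -/
theorem qs_main [Finite G] [Fact p.Prime] (Q : Subgroup G) (hQp : IsPGroup p Q) (hQ1 : Q ≠ ⊥)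
    (hQ : IsLarge Q) (U : Subgroup G) (hU : IsElementaryAbelian p U) (hU1 : U ≠ ⊥)
    (E : Subgroup G) (hQE : Q ≤ E) (hEU : E ≤ Subgroup.normalizer (U : Set G))
    (hQn : ¬ E ≤ Subgroup.normalizer (Q : Set G))
    [hn : ((Subgroup.centralizer (U : Set G)).subgroupOf E).Normal]
    (hred : pCore p (↥E ⧸ (Subgroup.centralizer (U : Set G)).subgroupOf E) = ⊥)
    (hqs : IsQuasisimple
      ↥((pResidual p ↥E ⊔ (Subgroup.centralizer (U : Set G)).subgroupOf E).map
        (QuotientGroup.mk' ((Subgroup.centralizer (U : Set G)).subgroupOf E))))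
    (Er : Subgroup G)
    (hEr : Er = (pResidual p ↥(weakClosure Q E)).map (weakClosure Q E).subtype)
    [hn2 : ((Subgroup.centralizer (U : Set G)).subgroupOf Er).Normal] :
    (pResidual p ↥E).map E.subtype ⊔ (E ⊓ Subgroup.centralizer (U : Set G)) =
        Er ⊔ (E ⊓ Subgroup.centralizer (U : Set G)) ∧
      ⁅Er, Er⁆ = Er ∧ (pResidual p ↥Er).map Er.subtype = Er ∧
      IsQuasisimple (↥Er ⧸ (Subgroup.centralizer (U : Set G)).subgroupOf Er) ∧
      IsQuasisimple (↥Er ⧸ pCore p ↥Er) ∧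
      ∀ Y : Subgroup G, Y ≤ E → IsPGroup p ↥Y → ¬ Y ≤ Subgroup.centralizer (U : Set G) →
        ⁅Er, Y⁆ = Er := by
  have hwc := large_wc hQp hQ1 hQ
  have hUp : IsPGroup p U := by
    rintro ⟨a, ha⟩
    exact ⟨1, Subtype.ext (by simpa using hU.2 a ha)⟩
  have hWE : weakClosure Q E ≤ E := weakClosure_le Q E
  have hQW : Q ≤ weakClosure Q E := le_weakClosure hQE
  have hEW : E ≤ Subgroup.normalizer ((weakClosure Q E : Subgroup G) : Set G) :=
    le_normalizer_weakClosure hQp hwc hQE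
  obtain ⟨hQK, hKQ⟩ := wc_residual_facts hQp hwc hQE
  have hcop : ∀ x ∈ weakClosure Q E, (orderOf x).Coprime p → x ∈ Er := by
    intro x hx hc; rw [hEr]; exact mem_map_pResidual_of_coprime hx hc
  have hgen : ∀ Z : Subgroup G,
      (∀ x ∈ weakClosure Q E, (orderOf x).Coprime p → x ∈ Z) → Er ≤ Z := by
    intro Z hZ
    rw [hEr, map_pResidual_eq, Subgroup.closure_le]
    intro x hx; exact hZ x hx.1 hx.2
  have hEEr : E ≤ Subgroup.normalizer (Er : Set G) := by
    rw [hEr]; exact hEW.trans (normalizer_le_normalizer_opRes p _)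
  rw [← hEr] at hQK hKQ
  have hErW : Er ≤ weakClosure Q E := by rw [hEr]; exact map_pResidual_le p _
  have hErE : Er ≤ E := hErW.trans hWE
  obtain ⟨-, hLC, -⟩ := large_weakClosure_centralizer hQp hQ1 hQ hQE hUp hU1 hEU
  have hOWE : pCoreOf p (weakClosure Q E) ≤ pCoreOf p E :=
    le_pCoreOf ((pCoreOf_le p _).trans hWE)
      (hEW.trans (normalizer_le_normalizer_pCoreOf p _)) (isPGroup_pCoreOf p _)
  -- objects inside `↥E`
  haveI hWn' : ((weakClosure Q E).subgroupOf E).Normal :=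
    (Subgroup.normal_subgroupOf_iff_le_normalizer hWE).mpr hEW
  haveI hRn' : (Er.subgroupOf E).Normal :=
    (Subgroup.normal_subgroupOf_iff_le_normalizer hErE).mpr hEEr
  have hQC' : ¬ Q.subgroupOf E ≤ (Subgroup.centralizer (U : Set G)).subgroupOf E := by
    intro h
    apply hQn
    have hQCU : Q ≤ Subgroup.centralizer (U : Set G) := by
      intro q hq
      have h1 : (⟨q, hQE hq⟩ : ↥E) ∈ Q.subgroupOf E := Subgroup.mem_subgroupOf.mpr hq
      exact Subgroup.mem_subgroupOf.mp (h h1)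
    have hUCQ : U ≤ Subgroup.centralizer (Q : Set G) := Subgroup.le_centralizer_iff.mp hQCU
    exact hEU.trans (hQ.2 U hUCQ hU1)
  have hQW' : Q.subgroupOf E ≤ (weakClosure Q E).subgroupOf E := fun x hx =>
    Subgroup.mem_subgroupOf.mpr (hQW (Subgroup.mem_subgroupOf.mp hx))
  have hRW' : Er.subgroupOf E ≤ (weakClosure Q E).subgroupOf E := fun x hx =>
    Subgroup.mem_subgroupOf.mpr (hErW (Subgroup.mem_subgroupOf.mp hx))
  have hWQR' : (weakClosure Q E).subgroupOf E ≤ Q.subgroupOf E ⊔ Er.subgroupOf E := by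
    rw [← Subgroup.subgroupOf_sup hQE hErE, hQK]
  have hCW' : ⁅(Subgroup.centralizer (U : Set G)).subgroupOf E,
      (weakClosure Q E).subgroupOf E⁆ ≤ pCore p ↥E := by
    have h1 : (⁅(Subgroup.centralizer (U : Set G)).subgroupOf E,
        (weakClosure Q E).subgroupOf E⁆).map E.subtype ≤ (pCore p ↥E).map E.subtype := by
      rw [Subgroup.map_commutator, Subgroup.subgroupOf_map_subtype,
        Subgroup.map_subgroupOf_eq_of_le hWE, Subgroup.commutator_comm]
      exact ((Subgroup.commutator_mono le_rfl inf_le_left).trans hLC).trans hOWE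
    exact (Subgroup.map_le_map_iff_of_injective E.subtype_injective).mp h1
  have hRres' : Er.subgroupOf E ≤ pResidual p ↥E := by
    have h1 : Er ≤ (pResidual p ↥E).map E.subtype := by
      apply hgen; intro x hx hc; exact mem_map_pResidual_of_coprime (hWE hx) hc
    intro x hx
    obtain ⟨y, hy, e⟩ := h1 (Subgroup.mem_subgroupOf.mp hx)
    have e' : y = x := Subtype.ext e
    rwa [← e']
  have hRQ' : ⁅Er.subgroupOf E, Q.subgroupOf E⁆ = Er.subgroupOf E := by
    apply Subgroup.map_injective E.subtype_injective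
    rw [Subgroup.map_commutator, Subgroup.map_subgroupOf_eq_of_le hErE,
      Subgroup.map_subgroupOf_eq_of_le hQE]
    exact hKQ
  have hRgen' : ∀ Z : Subgroup ↥E,
      (∀ x ∈ Er.subgroupOf E, (orderOf x).Coprime p → x ∈ Z) → Er.subgroupOf E ≤ Z := by
    intro Z hZ
    have h1 : Er ≤ Z.map E.subtype := by
      apply hgen
      intro x hx hc
      have hxE : x ∈ E := hWE hx
      refine ⟨⟨x, hxE⟩, hZ ⟨x, hxE⟩ (Subgroup.mem_subgroupOf.mpr (hcop x hx hc)) ?_, rfl⟩
      rw [Subgroup.orderOf_mk]; exact hc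
    intro x hx
    obtain ⟨y, hy, e⟩ := h1 (Subgroup.mem_subgroupOf.mp hx)
    have e' : y = x := Subtype.ext e
    rwa [← e']
  obtain ⟨c1, c2, c6⟩ := qs_core ((Subgroup.centralizer (U : Set G)).subgroupOf E) hred hqs
    hQp.comap_subtype hQC' hQW' hRW' hWQR' hCW' hRres' hRQ' hRgen'
  have g2 : ⁅Er, Er⁆ = Er := by
    have h := congrArg (Subgroup.map E.subtype) c2
    rwa [Subgroup.map_commutator, Subgroup.map_subgroupOf_eq_of_le hErE] at h
  have g1 : (pResidual p ↥E).map E.subtype ⊔ (E ⊓ Subgroup.centralizer (U : Set G)) =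
      Er ⊔ (E ⊓ Subgroup.centralizer (U : Set G)) := by
    have h := congrArg (Subgroup.map E.subtype) c1
    rwa [Subgroup.map_sup, Subgroup.map_sup, Subgroup.subgroupOf_map_subtype,
      Subgroup.map_subgroupOf_eq_of_le hErE, inf_comm] at h
  have g3 : (pResidual p ↥Er).map Er.subtype = Er := by
    apply le_antisymm (map_pResidual_le p Er)
    apply hgen; intro x hx hc
    exact mem_map_pResidual_of_coprime (hcop x hx hc) hc
  have g6 : ∀ Y : Subgroup G, Y ≤ E → IsPGroup p ↥Y →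
      ¬ Y ≤ Subgroup.centralizer (U : Set G) → ⁅Er, Y⁆ = Er := by
    intro Y hYE hYp hYC
    have hYC' : ¬ Y.subgroupOf E ≤ (Subgroup.centralizer (U : Set G)).subgroupOf E := by
      intro h; apply hYC
      intro y hy
      have h1 : (⟨y, hYE hy⟩ : ↥E) ∈ Y.subgroupOf E := Subgroup.mem_subgroupOf.mpr hy
      exact Subgroup.mem_subgroupOf.mp (h h1)
    have h := congrArg (Subgroup.map E.subtype) (c6 (Y.subgroupOf E) hYp.comap_subtype hYC')
    rwa [Subgroup.map_commutator, Subgroup.map_subgroupOf_eq_of_le hErE,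
      Subgroup.map_subgroupOf_eq_of_le hYE] at h
  have g4 : IsQuasisimple (↥Er ⧸ (Subgroup.centralizer (U : Set G)).subgroupOf Er) := by
    obtain ⟨φ, hφ⟩ : ∃ φ : ↥Er →* ↥E ⧸ (Subgroup.centralizer (U : Set G)).subgroupOf E,
        φ = (QuotientGroup.mk' ((Subgroup.centralizer (U : Set G)).subgroupOf E)).comp
          (Subgroup.inclusion hErE) := ⟨_, rfl⟩
    have hker : φ.ker = (Subgroup.centralizer (U : Set G)).subgroupOf Er := by
      ext x
      rw [hφ, MonoidHom.mem_ker, MonoidHom.comp_apply, QuotientGroup.mk'_apply,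
        QuotientGroup.eq_one_iff]
      rfl
    have hrange : φ.range =
        (pResidual p ↥E ⊔ (Subgroup.centralizer (U : Set G)).subgroupOf E).map
          (QuotientGroup.mk' ((Subgroup.centralizer (U : Set G)).subgroupOf E)) := by
      rw [hφ, MonoidHom.range_comp, Subgroup.inclusion_range, c1, Subgroup.map_sup,
        QuotientGroup.map_mk'_self, sup_bot_eq]
    haveI hkn : (φ.ker).Normal := inferInstance
    have e1 : ↥Er ⧸ (Subgroup.centralizer (U : Set G)).subgroupOf Er ≃* ↥Er ⧸ φ.ker :=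
      QuotientGroup.quotientMulEquivOfEq hker.symm
    have e2 : ↥Er ⧸ φ.ker ≃* ↥φ.range := QuotientGroup.quotientKerEquivRange φ
    have e3 := MulEquiv.subgroupCongr hrange
    exact Helper9.quasi_of_mulEquiv ((e1.trans e2).trans e3).symm hqs
  refine ⟨g1, g2, g3, g4, ?_, g6⟩
  -- `E_∘ / O_p(E_∘)` is quasisimple
  haveI hpn : (pCore p ↥Er).Normal := pCore_normal p ↥Er
  have hle : pCore p ↥Er ≤ (Subgroup.centralizer (U : Set G)).subgroupOf Er := by
    haveI hP'n : ((pCoreOf p Er).subgroupOf E).Normal :=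
      (Subgroup.normal_subgroupOf_iff_le_normalizer ((pCoreOf_le p Er).trans hErE)).mpr
        (hEEr.trans (normalizer_le_normalizer_pCoreOf p Er))
    have hP'p : IsPGroup p ↥((pCoreOf p Er).subgroupOf E) :=
      (isPGroup_pCoreOf p Er).comap_subtype
    have h1 := le_of_pCore_quot_eq_bot ((Subgroup.centralizer (U : Set G)).subgroupOf E) hred
      hP'p inferInstance
    intro x hx
    have hx' : (x : G) ∈ pCoreOf p Er := ⟨x, hx, rfl⟩
    have h2 : (⟨(x : G), hErE x.2⟩ : ↥E) ∈ (pCoreOf p Er).subgroupOf E :=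
      Subgroup.mem_subgroupOf.mpr hx'
    exact Subgroup.mem_subgroupOf.mpr (Subgroup.mem_subgroupOf.mp (h1 h2))
  have hcentral : ⁅Er ⊓ Subgroup.centralizer (U : Set G), Er⁆ ≤ pCoreOf p Er := by
    have h1 : ⁅Er ⊓ Subgroup.centralizer (U : Set G), Er⁆ ≤
        pCoreOf p (weakClosure Q E) ⊓ Er := by
      apply le_inf
      · rw [Subgroup.commutator_comm]
        exact (Subgroup.commutator_mono hErW inf_le_right).trans hLC
      · exact (Subgroup.commutator_mono inf_le_left le_rfl).trans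
          (commutator_le_of_le_normalizer Subgroup.le_normalizer)
    apply h1.trans
    exact le_pCoreOf inf_le_right
      (le_normalizer_inf' (hErW.trans (le_normalizer_pCoreOf p _)) Subgroup.le_normalizer)
      ((isPGroup_pCoreOf p _).to_le inf_le_left)
  haveI hNn : (((Subgroup.centralizer (U : Set G)).subgroupOf Er).map
      (QuotientGroup.mk' (pCore p ↥Er))).Normal :=
    hn2.map _ (QuotientGroup.mk'_surjective _)
  have hQ' : IsQuasisimple ((↥Er ⧸ pCore p ↥Er) ⧸
      ((Subgroup.centralizer (U : Set G)).subgroupOf Er).map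
        (QuotientGroup.mk' (pCore p ↥Er))) :=
    Helper9.quasi_of_mulEquiv (QuotientGroup.quotientQuotientEquivQuotient (pCore p ↥Er)
      ((Subgroup.centralizer (U : Set G)).subgroupOf Er) hle).symm g4
  haveI hperf : Group.IsPerfect ↥Er := Subgroup.isPerfect_iff.mpr g2
  have hperf' : commutator (↥Er ⧸ pCore p ↥Er) = ⊤ := Group.IsPerfect.commutator_eq_top
  apply Helper9.quasi_of_central_quotient _ hperf' _ hQ'
  rintro _ ⟨c, hc, rfl⟩
  rw [Subgroup.mem_center_iff]
  intro g
  obtain ⟨r, rfl⟩ := QuotientGroup.mk'_surjective (pCore p ↥Er) g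
  have hcomm : c * r * c⁻¹ * r⁻¹ ∈ pCore p ↥Er := by
    have h1 : (c : G) * (r : G) * (c : G)⁻¹ * (r : G)⁻¹ ∈ pCoreOf p Er :=
      hcentral (comm_mem_commutator (Subgroup.mem_inf.mpr ⟨c.2, Subgroup.mem_subgroupOf.mp hc⟩)
        r.2)
    obtain ⟨y, hy, e⟩ := h1
    have e' : y = c * r * c⁻¹ * r⁻¹ := Subtype.ext (e.trans (by simp))
    rwa [← e']
  rw [← QuotientGroup.eq_one_iff (N := pCore p ↥Er), ← QuotientGroup.mk'_apply, map_mul, map_mul,
    map_mul, map_inv, map_inv] at hcomm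
  have e : QuotientGroup.mk' (pCore p ↥Er) c * QuotientGroup.mk' (pCore p ↥Er) r =
      (QuotientGroup.mk' (pCore p ↥Er) c * QuotientGroup.mk' (pCore p ↥Er) r *
        (QuotientGroup.mk' (pCore p ↥Er) c)⁻¹ * (QuotientGroup.mk' (pCore p ↥Er) r)⁻¹) *
      (QuotientGroup.mk' (pCore p ↥Er) r * QuotientGroup.mk' (pCore p ↥Er) c) := by group
  rw [e, hcomm, one_mul]

end Cfsg.Agent.Helper16
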