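import Cfsg.Agent.Helper16.QdP
import Cfsg.Agent.Helper16.FrattiniResidual
import Cfsg.Agent.Helper24.Critical

set_option autoImplicit false

namespace Cfsg.Agent.Helper16

open Cfsg Matrix

open scoped commutatorElement

section QdExtra

variable {F : Type*} [Field F]

/-- Heisenberg elements as members of the unitriangular Sylow subgroup -/
def hs (b x y : F) : ↥(qdS0 F) := ⟨heis b x y, heis_mem b x y⟩

theorem exists_hs (M : ↥(qdS0 F)) : ∃ b x y : F, M = hs b x y := by
  obtain ⟨M, hM⟩ := M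
  obtain ⟨b, x, y, rfl⟩ := exists_heis hM
  exact ⟨b, x, y, rfl⟩

theorem hs_mul (b x y b' x' y' : F) :
    hs b x y * hs b' x' y' = hs (b + b') (x + x' + b * y') (y + y') :=
  Subtype.ext (heis_mul b x y b' x' y')

theorem hs_one : hs (0 : F) 0 0 = 1 := Subtype.ext heis_zero

theorem hs_inv (b x y : F) : (hs b x y)⁻¹ = hs (-b) (-x + b * y) (-y) :=
  Subtype.ext (heis_inv b x y)

theorem hs_congr {b b' x x' y y' : F} (hb : b = b') (hx : x = x') (hy : y = y') :
    hs b x y = hs b' x' y' := by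
  subst hb hx hy
  rfl

theorem hs_inj {b b' x x' y y' : F} (h : hs b x y = hs b' x' y') : b = b' ∧ x = x' ∧ y = y' := by
  have h1 : heis b x y = heis b' x' y' := congrArg Subtype.val h
  refine ⟨?_, ?_, ?_⟩
  · have := congrArg (fun M : ↥(Cfsg.qdOver F) => M.1.1 0 1) h1
    simpa using this
  · have := congrArg (fun M : ↥(Cfsg.qdOver F) => M.1.1 0 2) h1
    simpa using this
  · have := congrArg (fun M : ↥(Cfsg.qdOver F) => M.1.1 1 2) h1
    simpa using this

theorem hs_pow (b x y : F) (k : ℕ) :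
    hs b x y ^ k = hs (k * b) (k * x + (k.choose 2 : F) * b * y) (k * y) := by
  induction k with
  | zero =>
    rw [pow_zero, ← hs_one]
    exact hs_congr (by simp) (by simp) (by simp)
  | succ k ih =>
    rw [pow_succ, ih, hs_mul]
    have hch : ((k + 1).choose 2 : F) = k + (k.choose 2 : F) := by
      rw [Nat.choose_succ_succ' k 1, Nat.choose_one_right]
      push_cast
      ring
    apply hs_congr
    · push_cast; ring
    · rw [hch]; push_cast; ring
    · push_cast; ring

theorem hs_comm (b x y b' x' y' : F) :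
    ⁅hs b x y, hs b' x' y'⁆ = hs 0 (b * y' - b' * y) 0 := by
  rw [commutatorElement_def, hs_inv, hs_inv, hs_mul, hs_mul, hs_mul]
  exact hs_congr (by ring) (by ring) (by ring)

theorem hs_mem_center_iff (b x y : F) :
    hs b x y ∈ Subgroup.center ↥(qdS0 F) ↔ b = 0 ∧ y = 0 := by
  rw [Subgroup.mem_center_iff]
  constructor
  · intro h
    have h1 := h (hs 0 0 1)
    have h2 := h (hs 1 0 0)
    rw [hs_mul, hs_mul] at h1 h2
    obtain ⟨-, e1, -⟩ := hs_inj h1
    obtain ⟨-, e2, -⟩ := hs_inj h2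
    constructor
    · linear_combination -e1
    · linear_combination e2
  · rintro ⟨rfl, rfl⟩ g
    obtain ⟨b', x', y', rfl⟩ := exists_hs g
    rw [hs_mul, hs_mul]
    exact hs_congr (by ring) (by ring) (by ring)

theorem card_qdS0 [Finite F] : Nat.card ↥(qdS0 F) = Nat.card F ^ 3 := by
  have h1 : Nat.card (F × F × F) = Nat.card F ^ 3 := by
    rw [Nat.card_prod, Nat.card_prod]
    ring
  rw [← h1]
  symm
  apply Nat.card_eq_of_bijective (fun t : F × F × F => hs t.1 t.2.1 t.2.2)
  constructor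
  · rintro ⟨b, x, y⟩ ⟨b', x', y'⟩ h
    obtain ⟨e1, e2, e3⟩ := hs_inj h
    simp only at e1 e2 e3
    rw [e1, e2, e3]
  · intro M
    obtain ⟨b, x, y, rfl⟩ := exists_hs M
    exact ⟨⟨b, x, y⟩, rfl⟩

theorem card_center_qdS0 [Finite F] : Nat.card ↥(Subgroup.center ↥(qdS0 F)) = Nat.card F := by
  symm
  apply Nat.card_eq_of_bijective
    (fun x : F => (⟨hs 0 x 0, (hs_mem_center_iff 0 x 0).mpr ⟨rfl, rfl⟩⟩ :
      ↥(Subgroup.center ↥(qdS0 F))))
  constructor
  · intro x x' h
    have h1 : hs 0 x 0 = hs 0 x' 0 := congrArg Subtype.val h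
    exact (hs_inj h1).2.1
  · rintro ⟨M, hM⟩
    obtain ⟨b, x, y, rfl⟩ := exists_hs M
    obtain ⟨rfl, rfl⟩ := (hs_mem_center_iff b x y).mp hM
    exact ⟨x, rfl⟩

theorem commutator_qdS0 : commutator ↥(qdS0 F) = Subgroup.center ↥(qdS0 F) := by
  apply le_antisymm
  · rw [commutator_def, Subgroup.commutator_le]
    intro g _ h _
    obtain ⟨b, x, y, rfl⟩ := exists_hs g
    obtain ⟨b', x', y', rfl⟩ := exists_hs h
    rw [hs_comm]
    exact (hs_mem_center_iff _ _ _).mpr ⟨rfl, rfl⟩
  · intro M hM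
    obtain ⟨b, x, y, rfl⟩ := exists_hs M
    obtain ⟨rfl, rfl⟩ := (hs_mem_center_iff b x y).mp hM
    have e : hs 0 x 0 = ⁅hs (1 : F) 0 0, hs 0 0 x⁆ := by
      rw [hs_comm]
      exact hs_congr rfl (by ring) rfl
    rw [e, commutator_def]
    exact Subgroup.commutator_mem_commutator (Subgroup.mem_top _) (Subgroup.mem_top _)

theorem hs_pow_char {p : ℕ} [hp : Fact p.Prime] [CharP F p] (hp2 : p ≠ 2) (b x y : F) :
    hs b x y ^ p = 1 := by
  have h0 : (p : F) = 0 := CharP.cast_eq_zero F p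
  have h2 : ((p.choose 2 : ℕ) : F) = 0 := by
    rw [CharP.cast_eq_zero_iff F p]
    exact hp.out.dvd_choose_self (by norm_num) (lt_of_le_of_ne hp.out.two_le (Ne.symm hp2))
  rw [hs_pow, h0, h2, ← hs_one]
  exact hs_congr (by ring) (by ring) (by ring)

theorem frattini_qdS0 [Finite F] {p : ℕ} [hp : Fact p.Prime] [CharP F p] (hp2 : p ≠ 2) :
    frattini ↥(qdS0 F) = Subgroup.center ↥(qdS0 F) := by
  have : Finite (Matrix.SpecialLinearGroup (Fin 3) F) := by
    have := Fintype.ofFinite F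
    infer_instance
  have : Group.IsNilpotent ↥(qdS0 F) := (qdS0_isPGroup (F := F) (p := p)).isNilpotent
  apply le_antisymm
  · apply Helper24.frattini_le_of_elementary_quotient hp.out
    · intro g h
      obtain ⟨b, x, y, rfl⟩ := exists_hs g
      obtain ⟨b', x', y', rfl⟩ := exists_hs h
      rw [hs_comm]
      exact (hs_mem_center_iff _ _ _).mpr ⟨rfl, rfl⟩
    · intro g
      obtain ⟨b, x, y, rfl⟩ := exists_hs g
      rw [hs_pow_char hp2]
      exact Subgroup.one_mem _
  · rw [← commutator_qdS0]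
    exact commutator_le_frattini_of_nilpotent

theorem exponent_qdS0 {p : ℕ} [hp : Fact p.Prime] [CharP F p] (hp2 : p ≠ 2) :
    Monoid.exponent ↥(qdS0 F) = p := by
  have h1 : Monoid.exponent ↥(qdS0 F) ∣ p := by
    apply Monoid.exponent_dvd_of_forall_pow_eq_one
    intro g
    obtain ⟨b, x, y, rfl⟩ := exists_hs g
    exact hs_pow_char hp2 b x y
  rcases (Nat.dvd_prime hp.out).mp h1 with h | h
  · exfalso
    rw [Monoid.exp_eq_one_iff] at h
    have h2 : hs (1 : F) 0 0 = hs 0 0 0 := Subsingleton.elim _ _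
    exact one_ne_zero (hs_inj h2).1
  · exact h

theorem qdS0_extraspecial [Finite F] {p : ℕ} [hp : Fact p.Prime] [CharP F p] (hp2 : p ≠ 2)
    (hF : Nat.card F = p) :
    Cfsg.IsExtraspecial p ↥(qdS0 F) ∧ Nat.card ↥(qdS0 F) = p ^ 3 ∧
      Monoid.exponent ↥(qdS0 F) = p :=
  ⟨⟨⟨qdS0_isPGroup, frattini_qdS0 hp2, commutator_qdS0⟩, by rw [card_center_qdS0, hF]⟩,
    by rw [card_qdS0, hF], exponent_qdS0 hp2⟩

end QdExtra

section ExtraTransfer

theorem center_map_mulEquiv {A B : Type*} [Group A] [Group B] (e : A ≃* B) :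
    (Subgroup.center A).map e.toMonoidHom = Subgroup.center B := by
  ext x
  constructor
  · rintro ⟨a, ha, rfl⟩
    have ha' := Subgroup.mem_center_iff.mp ha
    apply Subgroup.mem_center_iff.mpr
    intro b
    have h1 := ha' (e.symm b)
    have h2 := congrArg e h1
    rw [map_mul, map_mul, e.apply_symm_apply] at h2
    exact h2
  · intro hx
    have hx' := Subgroup.mem_center_iff.mp hx
    refine ⟨e.symm x, Subgroup.mem_center_iff.mpr ?_, e.apply_symm_apply x⟩
    intro a
    have h1 := hx' (e a)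
    apply e.injective
    rw [map_mul, map_mul, e.apply_symm_apply]
    exact h1

theorem frattini_map_mulEquiv {A B : Type*} [Group A] [Group B] (e : A ≃* B) :
    (frattini A).map e.toMonoidHom = frattini B := by
  apply le_antisymm
  · rintro _ ⟨a, ha, rfl⟩
    exact frattini_le_comap_frattini_of_surjective (φ := e.toMonoidHom) e.surjective ha
  · intro x hx
    have h1 := frattini_le_comap_frattini_of_surjective (φ := e.symm.toMonoidHom)
      e.symm.surjective hx
    exact ⟨e.symm x, h1, e.apply_symm_apply x⟩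

theorem commutator_map_mulEquiv {A B : Type*} [Group A] [Group B] (e : A ≃* B) :
    (commutator A).map e.toMonoidHom = commutator B := by
  rw [commutator_def, commutator_def, Subgroup.map_commutator,
    Subgroup.map_top_of_surjective _ e.surjective]

theorem extraspecial_transfer {A B : Type*} [Group A] [Group B] (e : A ≃* B) {p : ℕ}
    (h : Cfsg.IsExtraspecial p A ∧ Nat.card A = p ^ 3 ∧ Monoid.exponent A = p) :
    Cfsg.IsExtraspecial p B ∧ Nat.card B = p ^ 3 ∧ Monoid.exponent B = p := by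
  obtain ⟨⟨⟨h1, h2, h3⟩, h4⟩, h5, h6⟩ := h
  refine ⟨⟨⟨h1.of_equiv e, ?_, ?_⟩, ?_⟩, ?_, ?_⟩
  · rw [← frattini_map_mulEquiv e, ← center_map_mulEquiv e, h2]
  · rw [← commutator_map_mulEquiv e, ← center_map_mulEquiv e, h3]
  · rw [← center_map_mulEquiv e, ← h4]
    exact Nat.card_congr ((Subgroup.center A).equivMapOfInjective e.toMonoidHom e.injective).symm.toEquiv
  · rw [← h5]
    exact Nat.card_congr e.symm.toEquiv
  · rw [← h6]
    exact (Monoid.exponent_eq_of_mulEquiv e).symm

end ExtraTransfer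

section QdExtraMain

theorem qdP_sylow_extraspecial (p : ℕ) [Fact p.Prime] (hp : p ≠ 2)
    (P : Sylow p ↥(Cfsg.qdOver (ZMod p))) :
    Cfsg.IsExtraspecial p ↥P ∧ Nat.card ↥P = p ^ 3 ∧ Monoid.exponent ↥P = p := by
  obtain ⟨g, hg⟩ := MulAction.exists_smul_eq ↥(Cfsg.qdOver (ZMod p)) (qdSylow (ZMod p) p) P
  subst hg
  have e : ↥(qdS0 (ZMod p)) ≃* ↥(g • qdSylow (ZMod p) p) :=
    (MulAut.conj g).subgroupMap (qdS0 (ZMod p))
  exact extraspecial_transfer e (qdS0_extraspecial hp (by rw [Nat.card_eq_fintype_card, ZMod.card]))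

end QdExtraMain

end Cfsg.Agent.Helper16
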