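import Cfsg.Agent.Helper16.NatSL2
import Cfsg.Agent.Helper16.PCore

set_option autoImplicit false

namespace Cfsg.Agent.Helper16

open Cfsg Matrix

section QdOver

variable {F : Type*} [Field F]

theorem qdOver_last_row (M : Matrix.SpecialLinearGroup (Fin 3) F) (hM : M ∈ Cfsg.qdOver F)
    (v : Fin 3 → F) : (M.1 *ᵥ v) 2 = v 2 := by
  unfold Cfsg.qdOver at hM
  induction hM using Subgroup.closure_induction generalizing v with
  | mem x hx =>
    obtain ⟨h0, h1, h2⟩ := hx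
    simp [Matrix.mulVec, dotProduct, Fin.sum_univ_three, h0, h1, h2]
  | one => simp
  | mul x y _ _ hx hy =>
    rw [Matrix.SpecialLinearGroup.coe_mul, ← Matrix.mulVec_mulVec, hx, hy]
  | inv x _ hx =>
    have h1 := hx ((x⁻¹).1 *ᵥ v)
    rw [Matrix.mulVec_mulVec, ← Matrix.SpecialLinearGroup.coe_mul, mul_inv_cancel,
      Matrix.SpecialLinearGroup.coe_one, Matrix.one_mulVec] at h1
    exact h1.symm

theorem mem_qdOver_iff (M : Matrix.SpecialLinearGroup (Fin 3) F) :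
    M ∈ Cfsg.qdOver F ↔ M.1 2 0 = 0 ∧ M.1 2 1 = 0 ∧ M.1 2 2 = 1 := by
  constructor
  · intro hM
    have e0 := qdOver_last_row M hM ![1, 0, 0]
    have e1 := qdOver_last_row M hM ![0, 1, 0]
    have e2 := qdOver_last_row M hM ![0, 0, 1]
    simp [Matrix.mulVec, dotProduct, Fin.sum_univ_three] at e0 e1 e2
    exact ⟨e0, e1, e2⟩
  · intro h
    exact Subgroup.subset_closure h

theorem qdOver_row (M : ↥(Cfsg.qdOver F)) :
    M.1.1 2 0 = 0 ∧ M.1.1 2 1 = 0 ∧ M.1.1 2 2 = 1 := (mem_qdOver_iff M.1).mp M.2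

theorem qdOver_mul_apply (M N : ↥(Cfsg.qdOver F)) (i j : Fin 3) :
    (M * N).1.1 i j = M.1.1 i 0 * N.1.1 0 j + M.1.1 i 1 * N.1.1 1 j + M.1.1 i 2 * N.1.1 2 j := by
  simp [Matrix.mul_apply, Fin.sum_univ_three]

theorem qdOver_ext {M N : ↥(Cfsg.qdOver F)} (h : ∀ i j : Fin 3, i ≠ 2 → M.1.1 i j = N.1.1 i j) :
    M = N := by
  apply Subtype.ext
  apply Subtype.ext
  obtain ⟨a0, a1, a2⟩ := qdOver_row M
  obtain ⟨b0, b1, b2⟩ := qdOver_row N
  ext i j
  fin_cases i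
  · exact h 0 j (by decide)
  · exact h 1 j (by decide)
  · fin_cases j
    · exact a0.trans b0.symm
    · exact a1.trans b1.symm
    · exact a2.trans b2.symm

/-- the linear part of an element of `Qd` -/
def qdPiFun (M : ↥(Cfsg.qdOver F)) : Matrix.SpecialLinearGroup (Fin 2) F :=
  ⟨!![M.1.1 0 0, M.1.1 0 1; M.1.1 1 0, M.1.1 1 1], by
    obtain ⟨h0, h1, h2⟩ := qdOver_row M
    have hd := M.1.2
    rw [Matrix.det_fin_three, h0, h1, h2] at hd
    rw [Matrix.det_fin_two]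
    simp only [Matrix.of_apply, Matrix.cons_val', Matrix.cons_val_zero, Matrix.cons_val_one,
      Matrix.cons_val_fin_one]
    linear_combination hd⟩

theorem qdPiFun_apply (M : ↥(Cfsg.qdOver F)) :
    (qdPiFun M).1 0 0 = M.1.1 0 0 ∧ (qdPiFun M).1 0 1 = M.1.1 0 1 ∧
      (qdPiFun M).1 1 0 = M.1.1 1 0 ∧ (qdPiFun M).1 1 1 = M.1.1 1 1 := ⟨rfl, rfl, rfl, rfl⟩

/-- the projection of `Qd` onto `SL₂(F)` -/
def qdPi (F : Type*) [Field F] : ↥(Cfsg.qdOver F) →* Matrix.SpecialLinearGroup (Fin 2) F where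
  toFun := qdPiFun
  map_one' := by
    obtain ⟨k1, k2, k3, k4⟩ := qdPiFun_apply (1 : ↥(Cfsg.qdOver F))
    apply sl2_ext
    · rw [k1]; simp
    · rw [k2]; simp
    · rw [k3]; simp
    · rw [k4]; simp
  map_mul' M N := by
    obtain ⟨h0, h1, h2⟩ := qdOver_row N
    obtain ⟨m1, m2, m3, m4⟩ := qdPiFun_apply M
    obtain ⟨n1, n2, n3, n4⟩ := qdPiFun_apply N
    obtain ⟨k1, k2, k3, k4⟩ := qdPiFun_apply (M * N)
    apply sl2_ext
    · rw [sl2_mul_apply, k1, m1, m2, n1, n3, qdOver_mul_apply, h0, mul_zero, add_zero]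
    · rw [sl2_mul_apply, k2, m1, m2, n2, n4, qdOver_mul_apply, h1, mul_zero, add_zero]
    · rw [sl2_mul_apply, k3, m3, m4, n1, n3, qdOver_mul_apply, h0, mul_zero, add_zero]
    · rw [sl2_mul_apply, k4, m3, m4, n2, n4, qdOver_mul_apply, h1, mul_zero, add_zero]

theorem qdPi_apply (M : ↥(Cfsg.qdOver F)) :
    (qdPi F M).1 0 0 = M.1.1 0 0 ∧ (qdPi F M).1 0 1 = M.1.1 0 1 ∧
      (qdPi F M).1 1 0 = M.1.1 1 0 ∧ (qdPi F M).1 1 1 = M.1.1 1 1 := ⟨rfl, rfl, rfl, rfl⟩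

/-- the element of `Qd` with linear part `A` and translation part `t` -/
def qdLift (A : Matrix.SpecialLinearGroup (Fin 2) F) (t : Fin 2 → F) : ↥(Cfsg.qdOver F) :=
  ⟨⟨!![A.1 0 0, A.1 0 1, t 0; A.1 1 0, A.1 1 1, t 1; 0, 0, 1], by
    rw [Matrix.det_fin_three]
    have := sl2_det_eq A
    simp
    linear_combination this⟩, (mem_qdOver_iff _).mpr ⟨rfl, rfl, rfl⟩⟩

theorem qdLift_apply (A : Matrix.SpecialLinearGroup (Fin 2) F) (t : Fin 2 → F) :
    (qdLift A t).1.1 0 0 = A.1 0 0 ∧ (qdLift A t).1.1 0 1 = A.1 0 1 ∧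
    (qdLift A t).1.1 0 2 = t 0 ∧ (qdLift A t).1.1 1 0 = A.1 1 0 ∧
    (qdLift A t).1.1 1 1 = A.1 1 1 ∧ (qdLift A t).1.1 1 2 = t 1 := ⟨rfl, rfl, rfl, rfl, rfl, rfl⟩

theorem qdPi_lift (A : Matrix.SpecialLinearGroup (Fin 2) F) (t : Fin 2 → F) :
    qdPi F (qdLift A t) = A := sl2_ext rfl rfl rfl rfl

theorem qdLift_pi (M : ↥(Cfsg.qdOver F)) :
    qdLift (qdPi F M) ![M.1.1 0 2, M.1.1 1 2] = M := by
  apply qdOver_ext
  intro i j hi
  fin_cases i
  · fin_cases j <;> rfl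
  · fin_cases j <;> rfl
  · exact absurd rfl hi

/-- the section of `qdPi`: block-diagonal matrices -/
def qdSec (F : Type*) [Field F] : Matrix.SpecialLinearGroup (Fin 2) F →* ↥(Cfsg.qdOver F) where
  toFun A := qdLift A 0
  map_one' := by
    obtain ⟨k1, k2, k3, k4, k5, k6⟩ := qdLift_apply (1 : Matrix.SpecialLinearGroup (Fin 2) F) 0
    apply qdOver_ext
    intro i j hi
    fin_cases i
    · fin_cases j
      · show (qdLift (1 : Matrix.SpecialLinearGroup (Fin 2) F) 0).1.1 0 0 = _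
        rw [k1]; simp
      · show (qdLift (1 : Matrix.SpecialLinearGroup (Fin 2) F) 0).1.1 0 1 = _
        rw [k2]; simp
      · show (qdLift (1 : Matrix.SpecialLinearGroup (Fin 2) F) 0).1.1 0 2 = _
        rw [k3]; simp
    · fin_cases j
      · show (qdLift (1 : Matrix.SpecialLinearGroup (Fin 2) F) 0).1.1 1 0 = _
        rw [k4]; simp
      · show (qdLift (1 : Matrix.SpecialLinearGroup (Fin 2) F) 0).1.1 1 1 = _
        rw [k5]; simp
      · show (qdLift (1 : Matrix.SpecialLinearGroup (Fin 2) F) 0).1.1 1 2 = _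
        rw [k6]; simp
    · exact absurd rfl hi
  map_mul' A B := by
    obtain ⟨k1, k2, k3, k4, k5, k6⟩ := qdLift_apply (A * B) 0
    obtain ⟨a1, a2, a3, a4, a5, a6⟩ := qdLift_apply A 0
    obtain ⟨b1, b2, b3, b4, b5, b6⟩ := qdLift_apply B 0
    obtain ⟨r0, r1, r2⟩ := qdOver_row (qdLift B 0)
    apply qdOver_ext
    intro i j hi
    fin_cases i
    · fin_cases j
      · show (qdLift (A * B) 0).1.1 0 0 = (qdLift A 0 * qdLift B 0).1.1 0 0
        rw [k1, qdOver_mul_apply, a1, a2, b1, b4, r0, sl2_mul_apply, mul_zero, add_zero]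
      · show (qdLift (A * B) 0).1.1 0 1 = (qdLift A 0 * qdLift B 0).1.1 0 1
        rw [k2, qdOver_mul_apply, a1, a2, b2, b5, r1, sl2_mul_apply, mul_zero, add_zero]
      · show (qdLift (A * B) 0).1.1 0 2 = (qdLift A 0 * qdLift B 0).1.1 0 2
        rw [k3, qdOver_mul_apply, a3, b3, b6]
        simp
    · fin_cases j
      · show (qdLift (A * B) 0).1.1 1 0 = (qdLift A 0 * qdLift B 0).1.1 1 0
        rw [k4, qdOver_mul_apply, a4, a5, b1, b4, r0, sl2_mul_apply, mul_zero, add_zero]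
      · show (qdLift (A * B) 0).1.1 1 1 = (qdLift A 0 * qdLift B 0).1.1 1 1
        rw [k5, qdOver_mul_apply, a4, a5, b2, b5, r1, sl2_mul_apply, mul_zero, add_zero]
      · show (qdLift (A * B) 0).1.1 1 2 = (qdLift A 0 * qdLift B 0).1.1 1 2
        rw [k6, qdOver_mul_apply, a6, b3, b6]
        simp
    · exact absurd rfl hi

theorem qdPi_sec (A : Matrix.SpecialLinearGroup (Fin 2) F) : qdPi F (qdSec F A) = A :=
  qdPi_lift A 0

theorem qdSec_injective : Function.Injective (qdSec F) := by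
  intro A B h
  rw [← qdPi_sec A, ← qdPi_sec B, h]

theorem mem_qdSec_range (M : ↥(Cfsg.qdOver F)) :
    M ∈ (qdSec F).range ↔ M.1.1 0 2 = 0 ∧ M.1.1 1 2 = 0 := by
  constructor
  · rintro ⟨A, rfl⟩
    exact ⟨rfl, rfl⟩
  · rintro ⟨h1, h2⟩
    refine ⟨qdPi F M, ?_⟩
    have := qdLift_pi M
    rw [h1, h2] at this
    have e : (![0, 0] : Fin 2 → F) = 0 := by
      funext i
      fin_cases i <;> rfl
    rw [e] at this
    exact this

theorem mem_qdPi_ker (M : ↥(Cfsg.qdOver F)) :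
    M ∈ (qdPi F).ker ↔ M.1.1 0 0 = 1 ∧ M.1.1 0 1 = 0 ∧ M.1.1 1 0 = 0 ∧ M.1.1 1 1 = 1 := by
  obtain ⟨k1, k2, k3, k4⟩ := qdPi_apply M
  rw [MonoidHom.mem_ker]
  constructor
  · intro h
    rw [h] at k1 k2 k3 k4
    refine ⟨?_, ?_, ?_, ?_⟩
    · rw [← k1]; simp
    · rw [← k2]; simp
    · rw [← k3]; simp
    · rw [← k4]; simp
  · rintro ⟨h1, h2, h3, h4⟩
    apply sl2_ext
    · rw [k1, h1]; simp
    · rw [k2, h2]; simp
    · rw [k3, h3]; simp
    · rw [k4, h4]; simp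

/-- the translation part, as an additive map on the translation subgroup -/
def qdPsi (F : Type*) [Field F] : Additive ↥(qdPi F).ker →+ (Fin 2 → F) where
  toFun v := ![(Additive.toMul v).1.1.1 0 2, (Additive.toMul v).1.1.1 1 2]
  map_zero' := by
    funext i
    fin_cases i
    · show ((1 : ↥(qdPi F).ker) : ↥(Cfsg.qdOver F)).1.1 0 2 = 0
      simp
    · show ((1 : ↥(qdPi F).ker) : ↥(Cfsg.qdOver F)).1.1 1 2 = 0
      simp
  map_add' v w := by
    obtain ⟨a1, a2, a3, a4⟩ := (mem_qdPi_ker _).mp (Additive.toMul v).2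
    obtain ⟨b0, b1, b2⟩ := qdOver_row (Additive.toMul w).1
    funext i
    fin_cases i
    · show ((Additive.toMul v).1 * (Additive.toMul w).1).1.1 0 2 =
        (Additive.toMul v).1.1.1 0 2 + (Additive.toMul w).1.1.1 0 2
      rw [qdOver_mul_apply, a1, a2, b2]
      ring
    · show ((Additive.toMul v).1 * (Additive.toMul w).1).1.1 1 2 =
        (Additive.toMul v).1.1.1 1 2 + (Additive.toMul w).1.1.1 1 2
      rw [qdOver_mul_apply, a3, a4, b2]
      ring

theorem qdPsi_apply (v : ↥(qdPi F).ker) :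
    qdPsi F (Additive.ofMul v) 0 = v.1.1.1 0 2 ∧ qdPsi F (Additive.ofMul v) 1 = v.1.1.1 1 2 :=
  ⟨rfl, rfl⟩

theorem qdPsi_bijective : Function.Bijective (qdPsi F) := by
  constructor
  · intro v w h
    have h0 := congrFun h 0
    have h1 := congrFun h 1
    obtain ⟨a1, a2, a3, a4⟩ := (mem_qdPi_ker _).mp (Additive.toMul v).2
    obtain ⟨b1, b2, b3, b4⟩ := (mem_qdPi_ker _).mp (Additive.toMul w).2
    have : Additive.toMul v = Additive.toMul w := by
      apply Subtype.ext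
      apply qdOver_ext
      intro i j hi
      fin_cases i
      · fin_cases j
        · exact a1.trans b1.symm
        · exact a2.trans b2.symm
        · exact h0
      · fin_cases j
        · exact a3.trans b3.symm
        · exact a4.trans b4.symm
        · exact h1
      · exact absurd rfl hi
    exact this
  · intro t
    have hmem : qdLift (1 : Matrix.SpecialLinearGroup (Fin 2) F) t ∈ (qdPi F).ker := by
      rw [MonoidHom.mem_ker, qdPi_lift]
    refine ⟨Additive.ofMul ⟨_, hmem⟩, ?_⟩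
    funext i
    fin_cases i <;> rfl

theorem qdPi_ker_isPGroup {p : ℕ} [CharP F p] : IsPGroup p ↥(qdPi F).ker := by
  intro g
  refine ⟨1, ?_⟩
  rw [pow_one]
  have h1 : qdPsi F (Additive.ofMul (g ^ p)) = 0 := by
    rw [ofMul_pow, map_nsmul]
    funext i
    simp [CharP.cast_eq_zero]
  have h2 : Additive.ofMul (g ^ p) = 0 := qdPsi_bijective.1 (by rw [h1, map_zero])
  exact h2

theorem sl2_eq_one_of_fix_all (A : Matrix.SpecialLinearGroup (Fin 2) F)
    (h : ∀ t : Fin 2 → F, A.1 *ᵥ t = t) : A = 1 := by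
  have e0 := h ![1, 0]
  have e1 := h ![0, 1]
  have e00 := congrFun e0 0
  have e10 := congrFun e0 1
  have e01 := congrFun e1 0
  have e11 := congrFun e1 1
  rw [sl2_mulVec_apply] at e00 e10 e01 e11
  simp at e00 e10 e01 e11
  apply sl2_ext
  · rw [e00]; simp
  · rw [e01]; simp
  · rw [e10]; simp
  · rw [e11]; simp

theorem sl2_normal_pgroup_eq_bot [Fintype F] {p : ℕ} [Fact p.Prime] [CharP F p]
    (N : Subgroup (Matrix.SpecialLinearGroup (Fin 2) F)) [hNn : N.Normal]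
    (hN : IsPGroup p N) : N = ⊥ := by
  obtain ⟨n, _, hn⟩ := FiniteField.card F p
  letI := vecAct N
  have hdvd : p ∣ Nat.card (Fin 2 → F) := by
    rw [Nat.card_eq_fintype_card, Fintype.card_fun, hn, Fintype.card_fin]
    exact dvd_pow (dvd_pow_self p n.ne_zero) (by norm_num)
  have h0 : (0 : Fin 2 → F) ∈ MulAction.fixedPoints N (Fin 2 → F) := by
    intro g
    show (g : Matrix.SpecialLinearGroup (Fin 2) F).1 *ᵥ (0 : Fin 2 → F) = 0
    simp
  obtain ⟨w₀, hw₀, hne⟩ :=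
    hN.exists_fixed_point_of_prime_dvd_card_of_fixed_point (Fin 2 → F) hdvd h0
  have hfix : ∀ g ∈ N, g.1 *ᵥ w₀ = w₀ := fun g hg => hw₀ ⟨g, hg⟩
  have hall : ∀ (w : Fin 2 → F), w ≠ 0 → ∀ g ∈ N, g.1 *ᵥ w = w := by
    intro w hw g hg
    obtain ⟨h₁, hh₁⟩ := sl2_exists_col w₀ (Ne.symm hne)
    obtain ⟨h₂, hh₂⟩ := sl2_exists_col w hw
    have hk : (h₂ * h₁⁻¹).1 *ᵥ w₀ = w := by
      rw [Matrix.SpecialLinearGroup.coe_mul, ← Matrix.mulVec_mulVec, ← hh₁, sl2_inv_mulVec, hh₂]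
    have hconj : (h₂ * h₁⁻¹)⁻¹ * g * (h₂ * h₁⁻¹) ∈ N := by
      have := hNn.conj_mem g hg (h₂ * h₁⁻¹)⁻¹
      rwa [inv_inv] at this
    have h3 := hfix _ hconj
    rw [Matrix.SpecialLinearGroup.coe_mul, Matrix.SpecialLinearGroup.coe_mul,
      ← Matrix.mulVec_mulVec, ← Matrix.mulVec_mulVec, hk] at h3
    have h4 := congrArg (fun u => (h₂ * h₁⁻¹).1 *ᵥ u) h3
    simp only [sl2_mulVec_inv] at h4
    rw [h4, hk]
  rw [eq_bot_iff]
  intro g hg
  rw [Subgroup.mem_bot]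
  apply sl2_eq_one_of_fix_all
  intro t
  by_cases ht : t = 0
  · rw [ht]; simp
  · exact hall t ht g hg

theorem qdOver_pCore [Fintype F] {p : ℕ} [Fact p.Prime] [CharP F p] :
    Cfsg.pCore p ↥(Cfsg.qdOver F) = (qdPi F).ker := by
  apply le_antisymm
  · have hsurj : Function.Surjective (qdPi F) := fun A => ⟨qdSec F A, qdPi_sec A⟩
    have hnorm : ((Cfsg.pCore p ↥(Cfsg.qdOver F)).map (qdPi F)).Normal := by
      have := pCore_normal p ↥(Cfsg.qdOver F)
      exact Subgroup.Normal.map inferInstance _ hsurj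
    have hp : IsPGroup p ((Cfsg.pCore p ↥(Cfsg.qdOver F)).map (qdPi F)) :=
      (pCore_isPGroup p _).map _
    have hbot := sl2_normal_pgroup_eq_bot _ hp
    exact (Subgroup.map_eq_bot_iff _).mp hbot
  · exact le_pCore (MonoidHom.normal_ker _) qdPi_ker_isPGroup

theorem qdOver_natural : Cfsg.IsNaturalSL2Module F (qdPi F).ker (qdSec F).range := by
  have hnorm : ((qdPi F).ker).Normal := MonoidHom.normal_ker _
  refine ⟨?_, (qdPi F).comp (qdSec F).range.subtype,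
    AddEquiv.ofBijective (qdPsi F) qdPsi_bijective, ?_, ?_, ?_⟩
  · rw [Subgroup.normalizer_eq_top]
    exact le_top
  · intro A
    exact ⟨⟨qdSec F A, ⟨A, rfl⟩⟩, qdPi_sec A⟩
  · ext k
    rw [MonoidHom.mem_ker, Subgroup.mem_subgroupOf]
    obtain ⟨A, hA⟩ := k.2
    constructor
    · intro hk
      have hA1 : A = 1 := by
        have : qdPi F (qdSec F A) = 1 := by rw [hA]; exact hk
        rwa [qdPi_sec] at this
      have hk1 : (k : ↥(Cfsg.qdOver F)) = 1 := by rw [← hA, hA1, map_one]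
      rw [hk1]
      exact Subgroup.one_mem _
    · intro hcomm
      have hc := Subgroup.mem_centralizer_iff.mp hcomm
      have key : ∀ t : Fin 2 → F, A.1 *ᵥ t = t := by
        intro t
        have hmem : qdLift (1 : Matrix.SpecialLinearGroup (Fin 2) F) t ∈ (qdPi F).ker := by
          rw [MonoidHom.mem_ker, qdPi_lift]
        have h1 := hc _ hmem
        rw [← hA] at h1
        obtain ⟨a1, a2, a3, a4, a5, a6⟩ := qdLift_apply A (0 : Fin 2 → F)
        obtain ⟨b1, b2, b3, b4, b5, b6⟩ :=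
          qdLift_apply (1 : Matrix.SpecialLinearGroup (Fin 2) F) t
        obtain ⟨r0, r1, r2⟩ := qdOver_row (qdLift A (0 : Fin 2 → F))
        obtain ⟨s0, s1, s2⟩ := qdOver_row (qdLift (1 : Matrix.SpecialLinearGroup (Fin 2) F) t)
        have e0 : (qdLift (1 : Matrix.SpecialLinearGroup (Fin 2) F) t * qdLift A 0).1.1 0 2 =
            (qdLift A 0 * qdLift (1 : Matrix.SpecialLinearGroup (Fin 2) F) t).1.1 0 2 := by
          have : qdLift (1 : Matrix.SpecialLinearGroup (Fin 2) F) t * qdLift A 0 =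
            qdLift A 0 * qdLift (1 : Matrix.SpecialLinearGroup (Fin 2) F) t := h1
          rw [this]
        have e1 : (qdLift (1 : Matrix.SpecialLinearGroup (Fin 2) F) t * qdLift A 0).1.1 1 2 =
            (qdLift A 0 * qdLift (1 : Matrix.SpecialLinearGroup (Fin 2) F) t).1.1 1 2 := by
          have : qdLift (1 : Matrix.SpecialLinearGroup (Fin 2) F) t * qdLift A 0 =
            qdLift A 0 * qdLift (1 : Matrix.SpecialLinearGroup (Fin 2) F) t := h1
          rw [this]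
        rw [qdOver_mul_apply, qdOver_mul_apply (qdLift A 0), a3, a6, r2, b3, b6, s2, a1, a2]
          at e0
        rw [qdOver_mul_apply, qdOver_mul_apply (qdLift A 0), a3, a6, r2, b3, b6, s2, a4, a5]
          at e1
        funext i
        rw [sl2_mulVec_apply]
        fin_cases i
        · show A.1 0 0 * t 0 + A.1 0 1 * t 1 = t 0
          simp at e0
          linear_combination -e0
        · show A.1 1 0 * t 0 + A.1 1 1 * t 1 = t 1
          simp at e1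
          linear_combination -e1
      have hA1 : A = 1 := sl2_eq_one_of_fix_all A key
      show qdPi F (k : ↥(Cfsg.qdOver F)) = 1
      rw [← hA, hA1, map_one, map_one]
  · intro l v
    have hw : (l : ↥(Cfsg.qdOver F)) * v * (l : ↥(Cfsg.qdOver F))⁻¹ ∈ (qdPi F).ker :=
      hnorm.conj_mem v v.2 l
    refine ⟨⟨_, hw⟩, rfl, ?_⟩
    show qdPsi F (Additive.ofMul ⟨_, hw⟩) = (qdPi F l.1).1 *ᵥ qdPsi F (Additive.ofMul v)
    have e : ((l : ↥(Cfsg.qdOver F)) * v * (l : ↥(Cfsg.qdOver F))⁻¹) * l = l * v := by group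
    obtain ⟨l1, l2⟩ := (mem_qdSec_range _).mp l.2
    obtain ⟨r0, r1, r2⟩ := qdOver_row (l : ↥(Cfsg.qdOver F))
    obtain ⟨s0, s1, s2⟩ := qdOver_row (v : ↥(Cfsg.qdOver F))
    have e0 : (((l : ↥(Cfsg.qdOver F)) * v * (l : ↥(Cfsg.qdOver F))⁻¹) * l).1.1 0 2 =
        ((l : ↥(Cfsg.qdOver F)) * v).1.1 0 2 := by rw [e]
    have e1 : (((l : ↥(Cfsg.qdOver F)) * v * (l : ↥(Cfsg.qdOver F))⁻¹) * l).1.1 1 2 =
        ((l : ↥(Cfsg.qdOver F)) * v).1.1 1 2 := by rw [e]
    rw [qdOver_mul_apply, qdOver_mul_apply (l : ↥(Cfsg.qdOver F)) v, l1, l2, r2, s2] at e0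
    rw [qdOver_mul_apply, qdOver_mul_apply (l : ↥(Cfsg.qdOver F)) v, l1, l2, r2, s2] at e1
    funext i
    rw [sl2_mulVec_apply]
    fin_cases i
    · show ((l : ↥(Cfsg.qdOver F)) * v * (l : ↥(Cfsg.qdOver F))⁻¹).1.1 0 2 =
        l.1.1.1 0 0 * v.1.1.1 0 2 + l.1.1.1 0 1 * v.1.1.1 1 2
      linear_combination e0
    · show ((l : ↥(Cfsg.qdOver F)) * v * (l : ↥(Cfsg.qdOver F))⁻¹).1.1 1 2 =
        l.1.1.1 1 0 * v.1.1.1 0 2 + l.1.1.1 1 1 * v.1.1.1 1 2
      linear_combination e1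

theorem qdOver_structure [Fintype F] {p : ℕ} [Fact p.Prime] [CharP F p] :
    (∀ M : ↥(Cfsg.qdOver F), M ∈ Cfsg.pCore p ↥(Cfsg.qdOver F) ↔
      M.1.1 0 0 = 1 ∧ M.1.1 0 1 = 0 ∧ M.1.1 1 0 = 0 ∧ M.1.1 1 1 = 1) ∧
    ∃ K : Subgroup ↥(Cfsg.qdOver F),
      (∀ M : ↥(Cfsg.qdOver F), M ∈ K ↔ M.1.1 0 2 = 0 ∧ M.1.1 1 2 = 0) ∧
      K ⊓ Cfsg.pCore p ↥(Cfsg.qdOver F) = ⊥ ∧ K ⊔ Cfsg.pCore p ↥(Cfsg.qdOver F) = ⊤ ∧
      Nonempty (↥K ≃* Matrix.SpecialLinearGroup (Fin 2) F) ∧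
      Cfsg.IsNaturalSL2Module F (Cfsg.pCore p ↥(Cfsg.qdOver F)) K := by
  have hcore := qdOver_pCore (F := F) (p := p)
  rw [hcore]
  refine ⟨fun M => mem_qdPi_ker M, (qdSec F).range, fun M => mem_qdSec_range M, ?_, ?_, ?_,
    qdOver_natural⟩
  · rw [eq_bot_iff]
    rintro M ⟨⟨A, rfl⟩, hM⟩
    have hM' : qdPi F (qdSec F A) = 1 := hM
    rw [qdPi_sec] at hM'
    rw [hM', map_one]
    exact Subgroup.one_mem _
  · rw [eq_top_iff]
    intro M _
    have e : M = qdSec F (qdPi F M) * ((qdSec F (qdPi F M))⁻¹ * M) := by group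
    rw [e]
    apply Subgroup.mul_mem_sup
    · exact ⟨_, rfl⟩
    · rw [MonoidHom.mem_ker, map_mul, map_inv, qdPi_sec, inv_mul_cancel]
  · exact ⟨(MonoidHom.ofInjective qdSec_injective).symm⟩

end QdOver

end Cfsg.Agent.Helper16
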