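import Cfsg.Agent.Helper16.QSCore
import Cfsg.Agent.Helper16.PReduced
import Cfsg.Agent.Helper16.PIrreducible3

set_option autoImplicit false

namespace Cfsg.Agent.Helper16

open Cfsg
open Cfsg.Agent.Helper17 (mem_map_conj map_conj_map_conj map_conj_one
  map_conj_eq_of_mem_normalizer conj_mem_map_conj isPGroup_mem_pow)

section TransFamBasic

variable {X : Type*} [Group X] {p : ℕ}

/-- if `c = [e, k]` commutes with `e` then `e ^ n * k * (e ^ n)⁻¹ = c ^ n * k`. -/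
theorem conj_pow_comm_eq {e k : X}
    (hc : e * (e * k * e⁻¹ * k⁻¹) = (e * k * e⁻¹ * k⁻¹) * e) (n : ℕ) :
    e ^ n * k * (e ^ n)⁻¹ = (e * k * e⁻¹ * k⁻¹) ^ n * k := by
  obtain ⟨c, hcdef⟩ : ∃ c, c = e * k * e⁻¹ * k⁻¹ := ⟨_, rfl⟩
  rw [← hcdef] at hc ⊢
  induction n with
  | zero => simp
  | succ n ih =>
    have hcn : e * c ^ n = c ^ n * e :=
      (Commute.pow_right (show Commute e c from hc) n).eq
    have e1 : e ^ (n + 1) * k * (e ^ (n + 1))⁻¹ = e * (e ^ n * k * (e ^ n)⁻¹) * e⁻¹ := by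
      rw [pow_succ']; group
    have e2 : e * (c ^ n * k) * e⁻¹ = (e * c ^ n) * (k * e⁻¹) := by group
    have e3 : c ^ n * e * (k * e⁻¹) = c ^ n * (e * k * e⁻¹ * k⁻¹) * k := by group
    rw [e1, ih, e2, hcn, e3, ← hcdef, pow_succ]

theorem comm_pow_eq_one {e k : X}
    (hc : e * (e * k * e⁻¹ * k⁻¹) = (e * k * e⁻¹ * k⁻¹) * e) {n : ℕ} (he : e ^ n = 1) :
    (e * k * e⁻¹ * k⁻¹) ^ n = 1 := by
  have h := conj_pow_comm_eq hc n
  rw [he] at h
  have h2 : (e * k * e⁻¹ * k⁻¹) ^ n * k = k := by rw [← h]; simp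
  simpa using h2

theorem mem_centralizer_singleton' {g k : X} :
    g ∈ Subgroup.centralizer ({k} : Set X) ↔ g * k = k * g := by
  rw [Subgroup.mem_centralizer_iff]
  constructor
  · intro h; exact (h k rfl).symm
  · intro h x hx; rw [Set.mem_singleton_iff.mp hx]; exact h.symm

/-- `O_p(E) ≤ O_p(X)` for `E ⊴ A ⊴ X`. -/
theorem pCoreOf_le_pCore_of_normal_normal {E A : Subgroup X} (hEA : E ≤ A)
    (hAE : A ≤ Subgroup.normalizer (E : Set X)) (hA : A.Normal) :
    pCoreOf p E ≤ pCore p X := by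
  have h1 : pCoreOf p E ≤ pCoreOf p A :=
    le_pCoreOf ((pCoreOf_le p E).trans hEA)
      (hAE.trans (normalizer_le_normalizer_pCoreOf p E)) (isPGroup_pCoreOf p E)
  have h2 : (pCoreOf p A).Normal := by
    rw [← Subgroup.normalizer_eq_top_iff, eq_top_iff]
    have h3 : Subgroup.normalizer (A : Set X) = ⊤ := Subgroup.normalizer_eq_top_iff.mpr hA
    rw [← h3]
    exact normalizer_le_normalizer_pCoreOf p A
  exact h1.trans (le_pCore h2 (isPGroup_pCoreOf p A))

theorem sSup_normal_of_conj_invariant {𝒦 : Set (Subgroup X)}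
    (hinv : ∀ h : X, ∀ E ∈ 𝒦, E.map (MulAut.conj h).toMonoidHom ∈ 𝒦) : (sSup 𝒦).Normal := by
  constructor
  intro n hn g
  have h1 : sSup 𝒦 ≤ (sSup 𝒦).comap (MulAut.conj g).toMonoidHom := by
    apply sSup_le
    intro E hE
    rw [← Subgroup.map_le_iff_le_comap]
    exact le_sSup (hinv g E hE)
  simpa using h1 hn

theorem commute_of_pElements {E : Subgroup X} {k : X}
    (hgen : E ≤ Subgroup.closure {x : X | x ∈ E ∧ ∃ j : ℕ, x ^ (p ^ j) = 1})
    (h : ∀ t ∈ E, ∀ j : ℕ, t ^ (p ^ j) = 1 → t * k * t⁻¹ * k⁻¹ = 1) :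
    ∀ e ∈ E, e * k = k * e := by
  intro e he
  have h1 : E ≤ Subgroup.centralizer ({k} : Set X) := by
    refine hgen.trans ((Subgroup.closure_le _).mpr ?_)
    rintro t ⟨ht, j, hj⟩
    rw [SetLike.mem_coe, mem_centralizer_singleton']
    have e2 : t * k = (t * k * t⁻¹ * k⁻¹) * (k * t) := by group
    rw [e2, h t ht j hj, one_mul]
  exact mem_centralizer_singleton'.mp (h1 he)

theorem map_conj_map_pResidual (E : Subgroup X) (x : X) :
    ((pResidual p ↥E).map E.subtype).map (MulAut.conj x).toMonoidHom =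
      (pResidual p ↥(E.map (MulAut.conj x).toMonoidHom)).map
        (E.map (MulAut.conj x).toMonoidHom).subtype := by
  rw [map_pResidual_eq, map_pResidual_eq, MonoidHom.map_closure]
  congr 1
  ext y
  constructor
  · rintro ⟨z, ⟨hz, hc⟩, rfl⟩
    refine ⟨⟨z, hz, rfl⟩, ?_⟩
    show (orderOf (x * z * x⁻¹)).Coprime p
    rw [orderOf_conj']; exact hc
  · rintro ⟨hy, hc⟩
    rw [mem_map_conj] at hy
    refine ⟨x⁻¹ * y * x, ⟨hy, ?_⟩, ?_⟩
    · have h0 : orderOf (x⁻¹ * y * x) = orderOf y := by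
        have := orderOf_conj' x⁻¹ y
        rwa [inv_inv] at this
      show (orderOf (x⁻¹ * y * x)).Coprime p
      rw [h0]; exact hc
    · show x * (x⁻¹ * y * x) * x⁻¹ = y
      group

theorem map_pResidual_conj_le {E N : Subgroup X} (hN : N.Normal) (x : X)
    (h : (pResidual p ↥E).map E.subtype ≤ N) :
    (pResidual p ↥(E.map (MulAut.conj x).toMonoidHom)).map
      (E.map (MulAut.conj x).toMonoidHom).subtype ≤ N := by
  rw [← map_conj_map_pResidual]
  intro y hy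
  rw [mem_map_conj] at hy
  have h1 := hN.conj_mem _ (h hy) x
  have e : x * (x⁻¹ * y * x) * x⁻¹ = y := by group
  rwa [e] at h1

end TransFamBasic

section TransFamReduced

variable {X : Type*} [Group X] [Finite X] {p : ℕ} [Fact p.Prime]

/-- strong irreducibility at subgroup level, with `O_p(E) = 1` -/
theorem sirr_dichotomy {E : Subgroup X} (hE : IsStronglyPIrreducible p ↥E)
    (hOE : pCoreOf p E = ⊥) {D : Subgroup X} (hDE : D ≤ E)
    (hED : E ≤ Subgroup.normalizer (D : Set X)) :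
    (∀ d ∈ D, ∀ e ∈ E, e * d = d * e) ∨ (pResidual p ↥E).map E.subtype ≤ D := by
  haveI hn : (D.subgroupOf E).Normal :=
    (Subgroup.normal_subgroupOf_iff_le_normalizer hDE).mpr hED
  by_cases hc : ⁅D.subgroupOf E, (⊤ : Subgroup ↥E)⁆ ≤ pCore p ↥E
  · left
    have hbot : pCore p ↥E = ⊥ := by
      have h0 : (pCore p ↥E).map E.subtype = ⊥ := hOE
      exact (Subgroup.map_eq_bot_iff_of_injective _ E.subtype_injective).mp h0
    rw [hbot] at hc
    intro d hd e he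
    have h1 : (⟨d, hDE hd⟩ : ↥E) * ⟨e, he⟩ * (⟨d, hDE hd⟩ : ↥E)⁻¹ * (⟨e, he⟩ : ↥E)⁻¹ ∈
        ⁅D.subgroupOf E, (⊤ : Subgroup ↥E)⁆ :=
      comm_mem_commutator (Subgroup.mem_subgroupOf.mpr hd) (Subgroup.mem_top _)
    have h2 := Subgroup.mem_bot.mp (hc h1)
    have h3 : d * e * d⁻¹ * e⁻¹ = 1 := by
      have h4 := congrArg Subtype.val h2
      simpa using h4
    have e1 : e * d = (d * e * d⁻¹ * e⁻¹)⁻¹ * (d * e) := by group
    rw [e1, h3]; simp
  · right
    have h1 := hE.2 (D.subgroupOf E) hn hc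
    have h2 := Subgroup.map_mono (f := E.subtype) h1
    rwa [Subgroup.map_subgroupOf_eq_of_le hDE] at h2

theorem central_pElement_eq_one {E : Subgroup X} (hOE : pCoreOf p E = ⊥) {z : X} (hz : z ∈ E)
    {j : ℕ} (hzp : z ^ (p ^ j) = 1) (hzc : ∀ e ∈ E, e * z = z * e) : z = 1 := by
  have h1 : Subgroup.zpowers z ≤ pCoreOf p E := by
    apply le_pCoreOf
    · rw [Subgroup.zpowers_le]; exact hz
    · apply le_normalizer_of_conj_mem
      intro e he u hu
      obtain ⟨i, rfl⟩ := Subgroup.mem_zpowers_iff.mp hu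
      have hcomm : Commute e z := hzc e he
      have h2 : e * z ^ i = z ^ i * e := (hcomm.zpow_right i).eq
      have h3 : e * z ^ i * e⁻¹ = z ^ i := by rw [h2]; group
      rw [h3]; exact Subgroup.zpow_mem_zpowers z i
    · exact isPGroup_zpowers_of_pow_pow_eq_one hzp
  rw [hOE] at h1
  exact Subgroup.mem_bot.mp (h1 (Subgroup.mem_zpowers z))

theorem sirr_le_closure_pElements {E : Subgroup X} (hE : IsStronglyPIrreducible p ↥E)
    (hOE : pCoreOf p E = ⊥) :
    E ≤ Subgroup.closure {x : X | x ∈ E ∧ ∃ j : ℕ, x ^ (p ^ j) = 1} := by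
  obtain ⟨Ep, hEp⟩ :
      ∃ Ep, Ep = Subgroup.closure {x : X | x ∈ E ∧ ∃ j : ℕ, x ^ (p ^ j) = 1} := ⟨_, rfl⟩
  rw [← hEp]
  have hEpE : Ep ≤ E := by
    rw [hEp, Subgroup.closure_le]; intro x hx; exact hx.1
  have hmem : ∀ x ∈ E, ∀ j : ℕ, x ^ (p ^ j) = 1 → x ∈ Ep := by
    intro x hx j hj; rw [hEp]; exact Subgroup.subset_closure ⟨hx, j, hj⟩
  have hnorm : E ≤ Subgroup.normalizer (Ep : Set X) := by
    apply le_normalizer_of_conj_mem
    intro e he u hu
    have h1 : Ep ≤ Ep.comap (MulAut.conj e).toMonoidHom := by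
      rw [hEp, Subgroup.closure_le]
      rintro x ⟨hxE, j, hj⟩
      rw [SetLike.mem_coe, Subgroup.mem_comap]
      apply Subgroup.subset_closure
      refine ⟨E.mul_mem (E.mul_mem he hxE) (E.inv_mem he), j, ?_⟩
      show (e * x * e⁻¹) ^ (p ^ j) = 1
      rw [conj_pow_eq, hj]; group
    simpa using h1 hu
  rcases sirr_dichotomy hE hOE hEpE hnorm with hcen | hres
  · exfalso
    apply hE.1
    intro P
    have hP : (P : Subgroup ↥E) = ⊥ := by
      rw [eq_bot_iff]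
      intro x hx
      obtain ⟨j, hj⟩ := isPGroup_mem_pow P.2 hx
      have hj' : (x : X) ^ (p ^ j) = 1 := by
        have h4 := congrArg Subtype.val hj
        simpa using h4
      have hxEp : (x : X) ∈ Ep := hmem _ x.2 j hj'
      have h1 : (x : X) = 1 :=
        central_pElement_eq_one hOE x.2 hj' (fun e he => hcen _ hxEp e he)
      exact Subgroup.mem_bot.mpr (Subtype.ext h1)
    rw [hP]; infer_instance
  · intro e he
    obtain ⟨k, hk⟩ := exists_pow_mem_map_pResidual (p := p) E he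
    have h1 : e ^ (p ^ k) ∈ Ep := hres hk
    obtain ⟨j, n, hn, hjn⟩ :=
      Nat.exists_eq_pow_mul_and_not_dvd (orderOf_pos e).ne' p (Fact.out : p.Prime).ne_one
    have h2 : e ^ n ∈ Ep := by
      apply hmem _ (E.pow_mem he n) j
      rw [← pow_mul, mul_comm, ← hjn, pow_orderOf_eq_one]
    have hcop : (p ^ k).Coprime n :=
      Nat.Coprime.pow_left k ((Nat.Prime.coprime_iff_not_dvd Fact.out).mpr hn)
    exact mem_of_pow_mem_of_pow_mem_coprime hcop h1 h2

theorem pResidual_le_of_family {𝒦 : Set (Subgroup X)}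
    (htr : ∀ E ∈ 𝒦, ∀ K ∈ 𝒦, ∃ x : X, K = E.map (MulAut.conj x).toMonoidHom)
    (hres : pResidual p X ≤ sSup 𝒦)
    (hnorm : ∀ E ∈ 𝒦, sSup 𝒦 ≤ Subgroup.normalizer (E : Set X))
    {N : Subgroup X} (hN : N.Normal) {E₁ : Subgroup X} (hE₁ : E₁ ∈ 𝒦)
    (h : (pResidual p ↥E₁).map E₁.subtype ≤ N) : pResidual p X ≤ N := by
  haveI := hN
  have hall : ∀ E ∈ 𝒦, (pResidual p ↥E).map E.subtype ≤ N := by
    intro E hE
    obtain ⟨x, rfl⟩ := htr E₁ hE₁ E hE
    exact map_pResidual_conj_le hN x h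
  obtain ⟨f, hf⟩ : ∃ f : X →* X ⧸ N, f = QuotientGroup.mk' N := ⟨_, rfl⟩
  have hker : ∀ x : X, f x = 1 ↔ x ∈ N := by
    intro x; rw [hf]; exact QuotientGroup.eq_one_iff x
  have hEp : ∀ E ∈ 𝒦, IsPGroup p (E.map f) := by
    intro E hE
    rintro ⟨y, hy⟩
    obtain ⟨e, he, rfl⟩ := Subgroup.mem_map.mp hy
    obtain ⟨k, hk⟩ := exists_pow_mem_map_pResidual (p := p) E he
    refine ⟨k, Subtype.ext ?_⟩
    show f e ^ (p ^ k) = 1
    rw [← map_pow]; exact (hker _).mpr (hall E hE hk)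
  have hle : ∀ E ∈ 𝒦, E.map f ≤ pCoreOf p ((sSup 𝒦).map f) := by
    intro E hE
    apply le_pCoreOf (Subgroup.map_mono (le_sSup hE))
    · exact (Subgroup.map_mono (hnorm E hE)).trans (Subgroup.le_normalizer_map f)
    · exact hEp E hE
  have h1 : sSup 𝒦 ≤ (pCoreOf p ((sSup 𝒦).map f)).comap f := by
    apply sSup_le
    intro E hE
    rw [← Subgroup.map_le_iff_le_comap]; exact hle E hE
  have hpow : ∀ a ∈ sSup 𝒦, ∃ k : ℕ, a ^ (p ^ k) ∈ N := by
    intro a ha
    obtain ⟨k, hk⟩ := isPGroup_mem_pow (isPGroup_pCoreOf p _) (h1 ha)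
    exact ⟨k, (hker _).mp (by rw [map_pow]; exact hk)⟩
  show Subgroup.closure {g : X | Nat.Coprime (orderOf g) p} ≤ N
  rw [Subgroup.closure_le]
  intro x hx
  have hxN₀ : x ∈ sSup 𝒦 := hres (Subgroup.subset_closure hx)
  obtain ⟨k, hk⟩ := hpow x hxN₀
  exact mem_of_pow_mem_of_coprime_order (Nat.Coprime.pow_left k (Nat.Coprime.symm hx)) hk

theorem family_dichotomy {𝒦 : Set (Subgroup X)} (hO : pCore p X = ⊥) (hN₀ : (sSup 𝒦).Normal)
    (htr : ∀ E ∈ 𝒦, ∀ K ∈ 𝒦, ∃ x : X, K = E.map (MulAut.conj x).toMonoidHom)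
    (hnorm : ∀ E ∈ 𝒦, sSup 𝒦 ≤ Subgroup.normalizer (E : Set X))
    (hsi : ∀ E ∈ 𝒦, IsStronglyPIrreducible p ↥E)
    {E K : Subgroup X} (hE : E ∈ 𝒦) (hK : K ∈ 𝒦) :
    (pResidual p ↥E).map E.subtype = (pResidual p ↥K).map K.subtype ∨
      ∀ e ∈ E, ∀ k ∈ K, e * k = k * e := by
  have hOE : ∀ F ∈ 𝒦, pCoreOf p F = ⊥ := fun F hF => by
    rw [eq_bot_iff, ← hO]
    exact pCoreOf_le_pCore_of_normal_normal (le_sSup hF) (hnorm F hF) hN₀
  have hEK : E ≤ Subgroup.normalizer (K : Set X) := (le_sSup hE).trans (hnorm K hK)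
  have hKE : K ≤ Subgroup.normalizer (E : Set X) := (le_sSup hK).trans (hnorm E hE)
  have key : ∀ F ∈ 𝒦, ∀ L ∈ 𝒦, (pResidual p ↥F).map F.subtype ≤ L →
      (pResidual p ↥F).map F.subtype = (pResidual p ↥L).map L.subtype := by
    intro F hF L hL h
    have hle : (pResidual p ↥F).map F.subtype ≤ (pResidual p ↥L).map L.subtype := by
      conv_lhs => rw [map_pResidual_eq]
      rw [Subgroup.closure_le]
      rintro y ⟨hy, hc⟩
      exact mem_map_pResidual_of_coprime (h (mem_map_pResidual_of_coprime hy hc)) hc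
    obtain ⟨x, rfl⟩ := htr F hF L hL
    apply Subgroup.eq_of_le_of_card_ge hle
    rw [← map_conj_map_pResidual]
    exact (Nat.card_congr (Subgroup.equivMapOfInjective _ _
      (MulAut.conj x).injective).toEquiv).symm.le
  rcases sirr_dichotomy (hsi E hE) (hOE E hE) (inf_le_left : E ⊓ K ≤ E)
      (le_normalizer_inf' Subgroup.le_normalizer hEK) with h1 | h1
  · rcases sirr_dichotomy (hsi K hK) (hOE K hK) (inf_le_right : E ⊓ K ≤ K)
        (le_normalizer_inf' hKE Subgroup.le_normalizer) with h2 | h2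
    · right
      intro e he k hk
      refine commute_of_pElements (p := p)
        (sirr_le_closure_pElements (hsi E hE) (hOE E hE)) ?_ e he
      intro t ht j hj
      obtain ⟨c, hc⟩ : ∃ c, c = t * k * t⁻¹ * k⁻¹ := ⟨_, rfl⟩
      rw [← hc]
      have hcK : c ∈ K := by
        rw [hc]
        exact K.mul_mem ((Subgroup.mem_normalizer_iff.mp (hEK ht) k).mp hk) (K.inv_mem hk)
      have hcE : c ∈ E := by
        have h3 : k * t⁻¹ * k⁻¹ ∈ E :=
          (Subgroup.mem_normalizer_iff.mp (hKE hk) t⁻¹).mp (E.inv_mem ht)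
        have e1 : c = t * (k * t⁻¹ * k⁻¹) := by rw [hc]; group
        rw [e1]; exact E.mul_mem ht h3
      have hcz := h1 c (Subgroup.mem_inf.mpr ⟨hcE, hcK⟩)
      have hcp : c ^ (p ^ j) = 1 := by
        rw [hc]; exact comm_pow_eq_one (by rw [← hc]; exact hcz t ht) hj
      exact central_pElement_eq_one (hOE E hE) hcE hcp hcz
    · left; exact (key K hK E hE (h2.trans inf_le_left)).symm
  · left; exact key E hE K hK (h1.trans inf_le_right)

theorem family_normal_pClosed {𝒦 : Set (Subgroup X)} (hO : pCore p X = ⊥)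
    (hN₀ : (sSup 𝒦).Normal)
    (htr : ∀ E ∈ 𝒦, ∀ K ∈ 𝒦, ∃ x : X, K = E.map (MulAut.conj x).toMonoidHom)
    (hres : pResidual p X ≤ sSup 𝒦)
    (hnorm : ∀ E ∈ 𝒦, sSup 𝒦 ≤ Subgroup.normalizer (E : Set X))
    (hsi : ∀ E ∈ 𝒦, IsStronglyPIrreducible p ↥E)
    {N : Subgroup X} (hN : N.Normal) (hnot : ¬ pResidual p X ≤ N) : IsPClosed p ↥N := by
  have hOE : ∀ F ∈ 𝒦, pCoreOf p F = ⊥ := fun F hF => by
    rw [eq_bot_iff, ← hO]
    exact pCoreOf_le_pCore_of_normal_normal (le_sSup hF) (hnorm F hF) hN₀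
  have hgen := fun F hF => sirr_le_closure_pElements (hsi F hF) (hOE F hF)
  have hidx : ∀ x : X, ∃ k : ℕ, x ^ (p ^ k) ∈ sSup 𝒦 := fun x => by
    obtain ⟨k, hk⟩ := exists_pow_mem_pResidual (p := p) x
    exact ⟨k, hres hk⟩
  have ha : ∀ E ∈ 𝒦, ∀ d ∈ N ⊓ E, ∀ e ∈ E, e * d = d * e := by
    intro E hE
    have hnE : E ≤ Subgroup.normalizer ((N ⊓ E : Subgroup X) : Set X) :=
      le_normalizer_inf' (le_normalizer_of_normal' E hN) Subgroup.le_normalizer
    rcases sirr_dichotomy (hsi E hE) (hOE E hE) (inf_le_right : N ⊓ E ≤ E) hnE with h | h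
    · exact h
    · exact absurd (pResidual_le_of_family htr hres hnorm hN hE (h.trans inf_le_left)) hnot
  have hb : ∀ E ∈ 𝒦, ∀ w ∈ N, w ∈ Subgroup.normalizer (E : Set X) →
      ∀ e ∈ E, e * w = w * e := by
    intro E hE w hwN hwE
    apply commute_of_pElements (p := p) (hgen E hE)
    intro t ht j hj
    obtain ⟨c, hc⟩ : ∃ c, c = t * w * t⁻¹ * w⁻¹ := ⟨_, rfl⟩
    rw [← hc]
    have hcN : c ∈ N := by
      rw [hc]; exact N.mul_mem (hN.conj_mem w hwN t) (N.inv_mem hwN)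
    have hcE : c ∈ E := by
      have h2 : w * t⁻¹ * w⁻¹ ∈ E :=
        (Subgroup.mem_normalizer_iff.mp hwE t⁻¹).mp (E.inv_mem ht)
      have e1 : c = t * (w * t⁻¹ * w⁻¹) := by rw [hc]; group
      rw [e1]; exact E.mul_mem ht h2
    have hcz := ha E hE c (Subgroup.mem_inf.mpr ⟨hcN, hcE⟩)
    have hcp : c ^ (p ^ j) = 1 := by
      rw [hc]; exact comm_pow_eq_one (by rw [← hc]; exact hcz t ht) hj
    exact central_pElement_eq_one (hOE E hE) hcE hcp hcz
  have hc' : ∀ w ∈ N ⊓ sSup 𝒦, ∀ a ∈ sSup 𝒦, a * w = w * a := by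
    intro w hw a ha'
    have h1 : sSup 𝒦 ≤ Subgroup.centralizer ({w} : Set X) := by
      apply sSup_le
      intro E hE e he
      exact mem_centralizer_singleton'.mpr (hb E hE w hw.1 (hnorm E hE hw.2) e he)
    exact mem_centralizer_singleton'.mp (h1 ha')
  have hd : ∀ y ∈ N, ∀ E ∈ 𝒦, ∀ e ∈ E, e * y = y * e := by
    intro y hy E hE
    apply commute_of_pElements (p := p) (hgen E hE)
    intro t ht j hj
    obtain ⟨c, hc⟩ : ∃ c, c = t * y * t⁻¹ * y⁻¹ := ⟨_, rfl⟩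
    rw [← hc]
    have hcN : c ∈ N := by
      rw [hc]; exact N.mul_mem (hN.conj_mem y hy t) (N.inv_mem hy)
    have htN₀ : t ∈ sSup 𝒦 := le_sSup hE ht
    have hcN₀ : c ∈ sSup 𝒦 := by
      have h2 : y * t⁻¹ * y⁻¹ ∈ sSup 𝒦 := hN₀.conj_mem _ (Subgroup.inv_mem _ htN₀) y
      have e1 : c = t * (y * t⁻¹ * y⁻¹) := by rw [hc]; group
      rw [e1]; exact Subgroup.mul_mem _ htN₀ h2
    have hcz := hc' c (Subgroup.mem_inf.mpr ⟨hcN, hcN₀⟩)
    have hcp : c ^ (p ^ j) = 1 := by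
      rw [hc]; exact comm_pow_eq_one (by rw [← hc]; exact hcz t htN₀) hj
    have hbot : Subgroup.zpowers c = ⊥ := by
      haveI := hN₀
      apply pgroup_centralizing_eq_bot hO (sSup 𝒦) hidx
        (isPGroup_zpowers_of_pow_pow_eq_one hcp)
      rw [Subgroup.zpowers_le, Subgroup.mem_centralizer_iff]
      intro a ha'
      exact hcz a ha'
    have h5 := Subgroup.mem_zpowers c
    rw [hbot] at h5
    exact Subgroup.mem_bot.mp h5
  have he' : N ≤ Subgroup.centralizer ((sSup 𝒦 : Subgroup X) : Set X) := by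
    intro y hy
    rw [Subgroup.mem_centralizer_iff]
    intro a ha'
    have h1 : sSup 𝒦 ≤ Subgroup.centralizer ({y} : Set X) := by
      apply sSup_le
      intro E hE e he
      exact mem_centralizer_singleton'.mpr (hd y hy E hE e he)
    exact mem_centralizer_singleton'.mp (h1 ha')
  intro P
  have hP : (P : Subgroup ↥N) = ⊥ := by
    haveI := hN₀
    have h1 : (P : Subgroup ↥N).map N.subtype = ⊥ :=
      pgroup_centralizing_eq_bot hO (sSup 𝒦) hidx (P.2.map _)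
        ((Subgroup.map_subtype_le _).trans he')
    exact (Subgroup.map_eq_bot_iff_of_injective _ N.subtype_injective).mp h1
  rw [hP]; infer_instance

theorem family_reduced (𝒦 : Set (Subgroup X)) (hne : 𝒦.Nonempty) (hO : pCore p X = ⊥)
    (hN₀ : (sSup 𝒦).Normal)
    (htr : ∀ E ∈ 𝒦, ∀ K ∈ 𝒦, ∃ x : X, K = E.map (MulAut.conj x).toMonoidHom)
    (hres : pResidual p X ≤ sSup 𝒦)
    (hnorm : ∀ E ∈ 𝒦, sSup 𝒦 ≤ Subgroup.normalizer (E : Set X))
    (hsi : ∀ E ∈ 𝒦, IsStronglyPIrreducible p ↥E) :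
    IsPIrreducible p X ∧ ∀ E ∈ 𝒦, ∀ K ∈ 𝒦,
      (pResidual p ↥E).map E.subtype = (pResidual p ↥K).map K.subtype ∨
        ∀ e ∈ E, ∀ k ∈ K, e * k = k * e := by
  refine ⟨⟨?_, ?_⟩, fun E hE K hK => family_dichotomy hO hN₀ htr hnorm hsi hE hK⟩
  · intro hcl
    obtain ⟨E, hE⟩ := hne
    apply (hsi E hE).1
    intro P
    have h1 : (P : Subgroup ↥E).map E.subtype ≤ pCore p X :=
      (isPClosed_iff_le_pCore.mp hcl) _ (P.2.map _)
    rw [hO] at h1
    have hP : (P : Subgroup ↥E) = ⊥ :=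
      (Subgroup.map_eq_bot_iff_of_injective _ E.subtype_injective).mp (le_bot_iff.mp h1)
    rw [hP]; infer_instance
  · intro N hN hncl
    by_contra hnot
    exact hncl (family_normal_pClosed hO hN₀ htr hres hnorm hsi hN hnot)

end TransFamReduced

end Cfsg.Agent.Helper16
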