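import Cfsg.Agent.Helper16.TransFam

set_option autoImplicit false

namespace Cfsg.Agent.Helper16

open Cfsg
open Cfsg.Agent.Helper17 (mem_map_conj map_conj_map_conj map_conj_one
  map_conj_eq_of_mem_normalizer conj_mem_map_conj isPGroup_mem_pow)

section TransFamTransfer

variable {H : Type*} [Group H] [Finite H] {p : ℕ} [Fact p.Prime]

theorem pCore_quot_self_eq_bot (O : Subgroup H) [hOn : O.Normal] (hO : O = pCore p H) :
    pCore p (H ⧸ O) = ⊥ := by
  rw [pCore_quot_eq_bot_iff]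
  intro D hD hx
  have hDp : IsPGroup p D := by
    rintro ⟨x, hxD⟩
    obtain ⟨k, hk⟩ := hx x hxD
    have hOp : IsPGroup p O := hO ▸ pCore_isPGroup p H
    obtain ⟨i, hi⟩ := isPGroup_mem_pow hOp hk
    refine ⟨k + i, Subtype.ext ?_⟩
    show x ^ (p ^ (k + i)) = 1
    rw [pow_add, pow_mul]; exact hi
  rw [hO]; exact le_pCore hD hDp

theorem opRes_sup_le_of_map_le {O : Subgroup H} [hOn : O.Normal] (hOp : IsPGroup p O)
    {f : H →* H ⧸ O} (hf : f = QuotientGroup.mk' O) {E K : Subgroup H}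
    (h : (pResidual p ↥(E.map f)).map (E.map f).subtype ≤
      (pResidual p ↥(K.map f)).map (K.map f).subtype) :
    (pResidual p ↥(E ⊔ O)).map (E ⊔ O).subtype ≤
      (pResidual p ↥(K ⊔ O)).map (K ⊔ O).subtype := by
  obtain ⟨RK, hRK⟩ : ∃ RK, RK = (pResidual p ↥(K ⊔ O)).map (K ⊔ O).subtype := ⟨_, rfl⟩
  rw [← hRK]
  have hker : f.ker = O := by rw [hf]; exact QuotientGroup.ker_mk' O
  have h1 : (pResidual p ↥(K.map f)).map (K.map f).subtype ≤ RK.map f := by
    rw [map_pResidual_eq, Subgroup.closure_le]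
    rintro z ⟨hz, hc⟩
    obtain ⟨k, hk, rfl⟩ := Subgroup.mem_map.mp hz
    obtain ⟨i, hi⟩ := exists_pow_mem_map_pResidual (p := p) (K ⊔ O)
      (show k ∈ K ⊔ O from Subgroup.mem_sup_left hk)
    have h2 : (f k) ^ (p ^ i) ∈ RK.map f := by
      rw [← map_pow, hRK]; exact Subgroup.mem_map_of_mem f hi
    exact mem_of_pow_mem_of_coprime_order (Nat.Coprime.pow_left i (Nat.Coprime.symm hc)) h2
  have hON : O ≤ Subgroup.normalizer (RK : Set H) := by
    rw [hRK]
    exact (le_sup_right.trans Subgroup.le_normalizer).trans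
      (normalizer_le_normalizer_opRes p (K ⊔ O))
  conv_lhs => rw [map_pResidual_eq]
  rw [Subgroup.closure_le]
  rintro x ⟨hx, hc⟩
  have hfx : f x ∈ E.map f := by
    have h0 : (E ⊔ O).map f = E.map f := by
      rw [Subgroup.map_sup, (Subgroup.map_eq_bot_iff _).mpr hker.ge, sup_bot_eq]
    rw [← h0]; exact Subgroup.mem_map_of_mem f hx
  have hcf : (orderOf (f x)).Coprime p :=
    Nat.Coprime.coprime_dvd_left (orderOf_map_dvd f x) hc
  have h3 : f x ∈ RK.map f := h1 (h (mem_map_pResidual_of_coprime hfx hcf))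
  have h4 : x ∈ O ⊔ RK := by
    have h5 : x ∈ (RK.map f).comap f := h3
    rw [Subgroup.comap_map_eq, hker, sup_comm] at h5
    exact h5
  exact mem_of_mem_sup_pgroup_coprime hOp hON h4 hc

/-- second half of the transitive-family statement -/
theorem family_pIrr (𝒦 : Set (Subgroup H)) (hne : 𝒦.Nonempty)
    (hinv : ∀ h : H, ∀ E ∈ 𝒦, E.map (MulAut.conj h).toMonoidHom ∈ 𝒦)
    (htr : ∀ E ∈ 𝒦, ∀ K ∈ 𝒦, ∃ h : H, K = E.map (MulAut.conj h).toMonoidHom)
    (hres : pResidual p H ≤ sSup 𝒦)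
    (hnorm : ∀ E ∈ 𝒦, sSup 𝒦 ⊔ pCore p H ≤
      Subgroup.normalizer ((E ⊔ pCore p H : Subgroup H) : Set H))
    (hsi : ∀ E ∈ 𝒦, IsStronglyPIrreducible p ↥E) :
    IsPIrreducible p H ∧ ∀ E ∈ 𝒦, ∀ K ∈ 𝒦,
      (pResidual p ↥(E ⊔ pCore p H)).map (E ⊔ pCore p H).subtype =
        (pResidual p ↥(K ⊔ pCore p H)).map (K ⊔ pCore p H).subtype ∨
      ⁅E, K⁆ ≤ pCore p H := by
  obtain ⟨O, hOdef⟩ : ∃ O, O = pCore p H := ⟨_, rfl⟩
  rw [← hOdef] at hnorm ⊢
  haveI hOn : O.Normal := hOdef ▸ pCore_normal p H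
  have hOp : IsPGroup p O := hOdef ▸ pCore_isPGroup p H
  obtain ⟨f, hf⟩ : ∃ f : H →* H ⧸ O, f = QuotientGroup.mk' O := ⟨_, rfl⟩
  have hfs : Function.Surjective f := by rw [hf]; exact QuotientGroup.mk'_surjective O
  have hker : f.ker = O := by rw [hf]; exact QuotientGroup.ker_mk' O
  have hkerp : IsPGroup p f.ker := by rw [hker]; exact hOp
  have hXO : pCore p (H ⧸ O) = ⊥ := pCore_quot_self_eq_bot O hOdef
  have hN₀n : (sSup 𝒦).Normal := sSup_normal_of_conj_invariant hinv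
  have hmapSup : sSup (Subgroup.map f '' 𝒦) = (sSup 𝒦).map f := by
    rw [sSup_image, (Subgroup.gc_map_comap f).l_sSup]
  have hres' : pResidual p (H ⧸ O) ≤ sSup (Subgroup.map f '' 𝒦) := by
    rw [hmapSup, ← map_pResidual_of_surjective (p := p) f hfs]
    exact Subgroup.map_mono hres
  have hnorm' : ∀ E' ∈ Subgroup.map f '' 𝒦,
      sSup (Subgroup.map f '' 𝒦) ≤ Subgroup.normalizer (E' : Set (H ⧸ O)) := by
    rintro _ ⟨E, hE, rfl⟩
    rw [hmapSup]
    have h1 : (E ⊔ O).map f = E.map f := by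
      rw [Subgroup.map_sup, (Subgroup.map_eq_bot_iff _).mpr hker.ge, sup_bot_eq]
    rw [← h1]
    exact (Subgroup.map_mono (le_sup_left.trans (hnorm E hE))).trans
      (Subgroup.le_normalizer_map f)
  have htr' : ∀ E' ∈ Subgroup.map f '' 𝒦, ∀ K' ∈ Subgroup.map f '' 𝒦,
      ∃ x : H ⧸ O, K' = E'.map (MulAut.conj x).toMonoidHom := by
    rintro _ ⟨E, hE, rfl⟩ _ ⟨K, hK, rfl⟩
    obtain ⟨h, rfl⟩ := htr E hE K hK
    refine ⟨f h, ?_⟩
    rw [Subgroup.map_map, Subgroup.map_map]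
    congr 1
    ext x
    simp
  have hsi' : ∀ E' ∈ Subgroup.map f '' 𝒦, IsStronglyPIrreducible p ↥E' := by
    rintro _ ⟨E, hE, rfl⟩
    refine (stronglyPIrr_iff_of_surjective (f.subgroupMap E)
      (f.subgroupMap_surjective E) ?_).mp (hsi E hE)
    rintro ⟨x, hx⟩
    have h1 : f (x : H) = 1 := congrArg Subtype.val (MonoidHom.mem_ker.mp hx)
    obtain ⟨k, hk⟩ := hkerp ⟨(x : H), MonoidHom.mem_ker.mpr h1⟩
    refine ⟨k, Subtype.ext (Subtype.ext ?_)⟩
    have h2 := congrArg Subtype.val hk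
    simpa using h2
  have hN₀n' : (sSup (Subgroup.map f '' 𝒦)).Normal := by
    rw [hmapSup]; exact hN₀n.map f hfs
  obtain ⟨hirr, hdich⟩ := family_reduced (Subgroup.map f '' 𝒦) (hne.image _) hXO hN₀n' htr'
    hres' hnorm' hsi'
  refine ⟨(pIrr_iff_of_surjective f hfs hkerp).mpr hirr, ?_⟩
  intro E hE K hK
  rcases hdich _ ⟨E, hE, rfl⟩ _ ⟨K, hK, rfl⟩ with h | h
  · left
    exact le_antisymm (opRes_sup_le_of_map_le hOp hf h.le) (opRes_sup_le_of_map_le hOp hf h.ge)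
  · right
    rw [commutator_le_iff']
    intro e he k hk
    have h1 := h (f e) (Subgroup.mem_map_of_mem f he) (f k) (Subgroup.mem_map_of_mem f hk)
    have h2 : f (e * k * e⁻¹ * k⁻¹) = 1 := by
      rw [map_mul, map_mul, map_mul, map_inv, map_inv, h1]; group
    rw [← hker]; exact MonoidHom.mem_ker.mpr h2

end TransFamTransfer

end Cfsg.Agent.Helper16
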