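import Cfsg.Agent.Helper16.TransFam2
import Cfsg.Agent.Helper16.YMinimal2

set_option autoImplicit false

namespace Cfsg.Agent.Helper16

open Cfsg
open Cfsg.Agent.Helper17 (mem_map_conj map_conj_map_conj map_conj_one
  map_conj_eq_of_mem_normalizer conj_mem_map_conj isPGroup_mem_pow)

section TransFamMinimal

variable {H : Type*} [Group H]

theorem min_conj_le {E ME O PE Xs : Subgroup H} [hOn : O.Normal] (hME : ME ≤ E)
    (hne : ME ≠ E)
    (hmax : ∀ D : Subgroup H, D ≤ E → PE ≤ D → D ≠ E → D ≤ ME)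
    (hOE : O ⊓ E ≤ ME) (hPE : PE ≤ E) (hPX : PE ≤ Xs) (hOX : O ≤ Xs) (hXE : Xs ⊓ E ≤ ME)
    {x : H} (hx : x ∈ Xs)
    (hxn : x ∈ Subgroup.normalizer ((E ⊔ O : Subgroup H) : Set H)) :
    (ME ⊔ O).map (MulAut.conj x).toMonoidHom ≤ ME ⊔ O := by
  have hEO : E ≤ Subgroup.normalizer (O : Set H) := le_normalizer_of_normal' E hOn
  have hMEO : ME ≤ Subgroup.normalizer (O : Set H) := le_normalizer_of_normal' ME hOn
  have hxc : ∀ z ∈ E ⊔ O, x * z * x⁻¹ ∈ E ⊔ O := fun z hz =>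
    (Subgroup.mem_normalizer_iff.mp hxn z).mp hz
  have hxc' : ∀ z ∈ E ⊔ O, x⁻¹ * z * x ∈ E ⊔ O := fun z hz => by
    have h0 := (Subgroup.mem_normalizer_iff.mp (Subgroup.inv_mem _ hxn) z).mp hz
    rwa [inv_inv] at h0
  have hXEO : ∀ z ∈ Xs, z ∈ E ⊔ O → z ∈ ME ⊔ O := by
    intro z hzX hz
    obtain ⟨e, he, o, ho, rfl⟩ := mem_sup_of_le_normalizer hEO hz
    have heX : e ∈ Xs := by
      have e1 : e = e * o * o⁻¹ := by group
      rw [e1]; exact Xs.mul_mem hzX (Xs.inv_mem (hOX ho))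
    exact Subgroup.mul_mem_sup (hXE (Subgroup.mem_inf.mpr ⟨heX, he⟩)) ho
  obtain ⟨D, hD⟩ : ∃ D, D = (ME ⊔ O).map (MulAut.conj x).toMonoidHom ⊓ E := ⟨_, rfl⟩
  have hPD : PE ≤ D := by
    intro y hy
    rw [hD]
    refine Subgroup.mem_inf.mpr ⟨?_, hPE hy⟩
    rw [mem_map_conj]
    apply hXEO
    · exact Xs.mul_mem (Xs.mul_mem (Xs.inv_mem hx) (hPX hy)) hx
    · exact hxc' y (Subgroup.mem_sup_left (hPE hy))
  have hDE : D ≤ E := by rw [hD]; exact inf_le_right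
  have hDne : D ≠ E := by
    intro hDeq
    apply hne
    apply le_antisymm hME
    have h1 : ∀ e ∈ E, x⁻¹ * e * x ∈ ME ⊔ O := by
      intro e he
      have h0 : e ∈ D := by rw [hDeq]; exact he
      rw [hD] at h0
      exact (mem_map_conj _ _ _).mp (Subgroup.mem_inf.mp h0).1
    intro e he
    have he' := hxc e (Subgroup.mem_sup_left he)
    obtain ⟨e₁, he₁, o₁, ho₁, heq⟩ := mem_sup_of_le_normalizer hEO he'
    have h2 : e = (x⁻¹ * e₁ * x) * (x⁻¹ * o₁ * x) := by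
      have h0 : x⁻¹ * (x * e * x⁻¹) * x = e := by group
      rw [← h0, heq]; group
    have h3 : x⁻¹ * o₁ * x ∈ O := by
      have h0 := hOn.conj_mem o₁ ho₁ x⁻¹
      rwa [inv_inv] at h0
    have h4 : e ∈ ME ⊔ O := by
      rw [h2]; exact Subgroup.mul_mem _ (h1 e₁ he₁) (Subgroup.mem_sup_right h3)
    obtain ⟨m, hm, o, ho, hmo⟩ := mem_sup_of_le_normalizer hMEO h4
    have hoE : o ∈ E := by
      have e1 : o = m⁻¹ * e := by rw [hmo]; group
      rw [e1]; exact E.mul_mem (E.inv_mem (hME hm)) he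
    rw [hmo]
    exact ME.mul_mem hm (hOE (Subgroup.mem_inf.mpr ⟨ho, hoE⟩))
  have hDM : D ≤ ME := hmax D hDE hPD hDne
  intro z hz
  have hz' := (mem_map_conj _ _ _).mp hz
  have hzEO : z ∈ E ⊔ O := by
    have h1 : x⁻¹ * z * x ∈ E ⊔ O := (sup_le_sup_right hME O) hz'
    have h0 := hxc _ h1
    have e1 : x * (x⁻¹ * z * x) * x⁻¹ = z := by group
    rwa [e1] at h0
  obtain ⟨e, he, o, ho, hzeo⟩ := mem_sup_of_le_normalizer hEO hzEO
  have heD : e ∈ D := by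
    rw [hD]
    refine Subgroup.mem_inf.mpr ⟨?_, he⟩
    rw [mem_map_conj]
    have e1 : x⁻¹ * e * x = (x⁻¹ * z * x) * (x⁻¹ * o⁻¹ * x) := by rw [hzeo]; group
    rw [e1]
    apply Subgroup.mul_mem _ hz'
    apply Subgroup.mem_sup_right
    have h0 := hOn.conj_mem o⁻¹ (O.inv_mem ho) x⁻¹
    rwa [inv_inv] at h0
  rw [hzeo]
  exact Subgroup.mul_mem_sup (hDM heD) ho

theorem min_inf_le_normalizer {E ME O PE Xs A : Subgroup H} [hOn : O.Normal] (hME : ME ≤ E)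
    (hne : ME ≠ E)
    (hmax : ∀ D : Subgroup H, D ≤ E → PE ≤ D → D ≠ E → D ≤ ME)
    (hOE : O ⊓ E ≤ ME) (hPE : PE ≤ E) (hPX : PE ≤ Xs) (hOX : O ≤ Xs) (hXE : Xs ⊓ E ≤ ME)
    (hA : A ≤ Subgroup.normalizer ((E ⊔ O : Subgroup H) : Set H)) :
    Xs ⊓ A ≤ Subgroup.normalizer ((ME ⊔ O : Subgroup H) : Set H) := by
  apply le_normalizer_of_conj_mem
  intro x hx u hu
  have h := min_conj_le hME hne hmax hOE hPE hPX hOX hXE hx.1 (hA hx.2)
  exact h (conj_mem_map_conj _ x hu)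

variable [Finite H] {p : ℕ} [Fact p.Prime]

theorem min_unique_good (𝒦 : Set (Subgroup H))
    (hinv : ∀ h : H, ∀ E ∈ 𝒦, E.map (MulAut.conj h).toMonoidHom ∈ 𝒦)
    (htr : ∀ E ∈ 𝒦, ∀ K ∈ 𝒦, ∃ h : H, K = E.map (MulAut.conj h).toMonoidHom)
    (hres : pResidual p H ≤ sSup 𝒦)
    (hnorm : ∀ E ∈ 𝒦, sSup 𝒦 ⊔ pCore p H ≤
      Subgroup.normalizer ((E ⊔ pCore p H : Subgroup H) : Set H))
    {E : Subgroup H} (hE : E ∈ 𝒦) (TE : Sylow p ↥E)
    (hmin : IsMinimalOver (TE : Subgroup ↥E))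
    (P : Sylow p H) (hTP : (TE : Subgroup ↥E).map E.subtype ≤ P)
    {M₁ M₂ : Subgroup H} (hM₁ : IsCoatom M₁) (hM₂ : IsCoatom M₂)
    (hP₁ : (P : Subgroup H) ≤ M₁) (hP₂ : (P : Subgroup H) ≤ M₂) : M₁ = M₂ := by
  by_contra hne12
  obtain ⟨O, hOdef⟩ : ∃ O, O = pCore p H := ⟨_, rfl⟩
  rw [← hOdef] at hnorm
  haveI hOn : O.Normal := hOdef ▸ pCore_normal p H
  have hOP : O ≤ (P : Subgroup H) := hOdef ▸ pCore_le_sylow P
  obtain ⟨A, hAdef⟩ : ∃ A, A = sSup 𝒦 ⊔ O := ⟨_, rfl⟩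
  haveI hN₀n : (sSup 𝒦).Normal := sSup_normal_of_conj_invariant hinv
  haveI hAn : A.Normal := by rw [hAdef]; infer_instance
  have hEA : E ≤ A := by rw [hAdef]; exact (le_sSup hE).trans le_sup_left
  have hAE : A ≤ Subgroup.normalizer ((E ⊔ O : Subgroup H) : Set H) := by
    rw [hAdef]; exact hnorm E hE
  have hPA : (P : Subgroup H) ⊔ A = ⊤ := by
    rw [eq_top_iff, ← pResidual_sup_sylow P, sup_comm]
    exact sup_le_sup_left (hres.trans (by rw [hAdef]; exact le_sup_left)) _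
  have hPE : (P : Subgroup H) ⊓ E = (TE : Subgroup ↥E).map E.subtype := by
    apply le_antisymm
    · have h1 : (TE : Subgroup ↥E) ≤ ((P : Subgroup H) ⊓ E).subgroupOf E := by
        intro x hx
        rw [Subgroup.mem_subgroupOf]
        exact Subgroup.mem_inf.mpr ⟨hTP (Subgroup.mem_map_of_mem _ hx), x.2⟩
      have h2 : IsPGroup p (((P : Subgroup H) ⊓ E).subgroupOf E) :=
        (P.2.to_le inf_le_left).comap_subtype
      have h3 : ((P : Subgroup H) ⊓ E).subgroupOf E = (TE : Subgroup ↥E) :=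
        TE.is_maximal' h2 h1
      rw [← h3, Subgroup.map_subgroupOf_eq_of_le inf_le_right]
    · exact le_inf hTP (Subgroup.map_subtype_le _)
  obtain ⟨ME', ⟨hME'c, hTME'⟩, -⟩ := hmin.2
  obtain ⟨ME, hMEdef⟩ : ∃ ME, ME = ME'.map E.subtype := ⟨_, rfl⟩
  have hME : ME ≤ E := by rw [hMEdef]; exact Subgroup.map_subtype_le _
  have hMEsub : ME.subgroupOf E = ME' := by rw [hMEdef]; exact map_subtype_subgroupOf ME'
  have hMEne : ME ≠ E := by
    intro h
    apply hME'c.1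
    rw [← hMEsub, h]; exact Subgroup.subgroupOf_self E
  have hPEME : (P : Subgroup H) ⊓ E ≤ ME := by
    rw [hPE, hMEdef]; exact Subgroup.map_mono hTME'
  have hmax : ∀ D : Subgroup H, D ≤ E → (P : Subgroup H) ⊓ E ≤ D → D ≠ E → D ≤ ME := by
    intro D hDE hPD hDne
    have h1 : (TE : Subgroup ↥E) ≤ D.subgroupOf E := by
      intro x hx
      rw [Subgroup.mem_subgroupOf]
      apply hPD
      rw [hPE]; exact Subgroup.mem_map_of_mem _ hx
    have h2 : D.subgroupOf E ≠ ⊤ := by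
      intro h
      apply hDne
      exact le_antisymm hDE (Subgroup.subgroupOf_eq_top.mp h)
    have h3 : D.subgroupOf E ≤ ME' := minimalOver_le_of_ne_top hME'c hTME' hmin h1 h2
    have h4 := Subgroup.map_mono (f := E.subtype) h3
    rw [Subgroup.map_subgroupOf_eq_of_le hDE] at h4
    rw [hMEdef]; exact h4
  have hOE : O ⊓ E ≤ ME := (inf_le_inf_right E hOP).trans hPEME
  have hU2 : ∀ Xs : Subgroup H, (P : Subgroup H) ≤ Xs → E ≤ Xs → Xs = ⊤ := by
    intro Xs hPX hEX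
    have hall : ∀ K ∈ 𝒦, K ≤ Xs := by
      intro K hK
      obtain ⟨h, rfl⟩ := htr E hE K hK
      have hh : h ∈ (P : Subgroup H) ⊔ A := by rw [hPA]; trivial
      obtain ⟨t, ht, a, ha, hta⟩ :=
        mem_sup_of_le_normalizer (le_normalizer_of_normal' _ hAn) hh
      intro y hy
      rw [mem_map_conj] at hy
      have h1 : a * (h⁻¹ * y * h) * a⁻¹ ∈ E ⊔ O :=
        (Subgroup.mem_normalizer_iff.mp (hAE ha) _).mp (Subgroup.mem_sup_left hy)
      have h2 : E ⊔ O ≤ Xs := sup_le hEX (hOP.trans hPX)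
      have e1 : y = t * (a * (h⁻¹ * y * h) * a⁻¹) * t⁻¹ := by rw [hta]; group
      rw [e1]
      exact Xs.mul_mem (Xs.mul_mem (hPX ht) (h2 h1)) (Xs.inv_mem (hPX ht))
    rw [eq_top_iff, ← pResidual_sup_sylow P]
    exact sup_le (hres.trans (sSup_le hall)) hPX
  have hU3 : ∀ M : Subgroup H, IsCoatom M → (P : Subgroup H) ≤ M →
      M ⊓ A ≤ Subgroup.normalizer ((ME ⊔ O : Subgroup H) : Set H) := by
    intro M hM hPM
    have hEM : ¬ E ≤ M := fun h => hM.1 (hU2 M hPM h)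
    have hXE : M ⊓ E ≤ ME := by
      apply hmax _ inf_le_right (inf_le_inf_right E hPM)
      intro h
      exact hEM (inf_eq_right.mp h)
    exact min_inf_le_normalizer hME hMEne hmax hOE inf_le_right (inf_le_left.trans hPM)
      (hOP.trans hPM) hXE hAE
  obtain ⟨V, hVdef⟩ : ∃ V, V = (M₁ ⊓ A) ⊔ (M₂ ⊓ A) := ⟨_, rfl⟩
  have hVN : V ≤ Subgroup.normalizer ((ME ⊔ O : Subgroup H) : Set H) := by
    rw [hVdef]; exact sup_le (hU3 M₁ hM₁ hP₁) (hU3 M₂ hM₂ hP₂)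
  have hPV : (P : Subgroup H) ≤ Subgroup.normalizer (V : Set H) := by
    rw [hVdef]
    apply le_normalizer_sup'
    · exact le_normalizer_inf' (hP₁.trans Subgroup.le_normalizer)
        (le_normalizer_of_normal' _ hAn)
    · exact le_normalizer_inf' (hP₂.trans Subgroup.le_normalizer)
        (le_normalizer_of_normal' _ hAn)
  have hMV : ∀ M : Subgroup H, (P : Subgroup H) ≤ M → M ⊓ A ≤ V →
      M ≤ (P : Subgroup H) ⊔ V := by
    intro M hPM hMAV m hm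
    have hm' : m ∈ (P : Subgroup H) ⊔ A := by rw [hPA]; trivial
    obtain ⟨t, ht, a, ha, hta⟩ :=
      mem_sup_of_le_normalizer (le_normalizer_of_normal' _ hAn) hm'
    have haM : a ∈ M := by
      have e1 : a = t⁻¹ * m := by rw [hta]; group
      rw [e1]; exact M.mul_mem (M.inv_mem (hPM ht)) hm
    rw [hta]
    exact Subgroup.mul_mem_sup ht (hMAV (Subgroup.mem_inf.mpr ⟨haM, ha⟩))
  have htop : (P : Subgroup H) ⊔ V = ⊤ := by
    have h12 : M₁ ⊔ M₂ = ⊤ := hM₁.sup_eq_top_of_ne hM₂ hne12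
    rw [eq_top_iff, ← h12]
    exact sup_le (hMV M₁ hP₁ (by rw [hVdef]; exact le_sup_left))
      (hMV M₂ hP₂ (by rw [hVdef]; exact le_sup_right))
  have hAV : A ≤ V := by
    intro a ha
    have ha' : a ∈ (P : Subgroup H) ⊔ V := by rw [htop]; trivial
    obtain ⟨t, ht, v, hv, htv⟩ := mem_sup_of_le_normalizer hPV ha'
    have hVA : V ≤ A := by rw [hVdef]; exact sup_le inf_le_right inf_le_right
    have htA : t ∈ A := by
      have e1 : t = a * v⁻¹ := by rw [htv]; group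
      rw [e1]; exact A.mul_mem ha (A.inv_mem (hVA hv))
    have htV : t ∈ V := by
      rw [hVdef]; exact Subgroup.mem_sup_left (Subgroup.mem_inf.mpr ⟨hP₁ ht, htA⟩)
    rw [htv]
    exact V.mul_mem htV hv
  have hEN : E ≤ Subgroup.normalizer ((ME ⊔ O : Subgroup H) : Set H) :=
    hEA.trans (hAV.trans hVN)
  have hMEeq : (ME ⊔ O) ⊓ E = ME := by
    apply le_antisymm
    · intro z hz
      obtain ⟨hz1, hz2⟩ := Subgroup.mem_inf.mp hz
      obtain ⟨m, hm, o, ho, hmo⟩ :=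
        mem_sup_of_le_normalizer (le_normalizer_of_normal' ME hOn) hz1
      have hoE : o ∈ E := by
        have e1 : o = m⁻¹ * z := by rw [hmo]; group
        rw [e1]; exact E.mul_mem (E.inv_mem (hME hm)) hz2
      rw [hmo]
      exact ME.mul_mem hm (hOE (Subgroup.mem_inf.mpr ⟨ho, hoE⟩))
    · exact le_inf le_sup_left hME
  have hENM : E ≤ Subgroup.normalizer ((((ME ⊔ O) ⊓ E : Subgroup H)) : Set H) :=
    le_normalizer_inf' hEN Subgroup.le_normalizer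
  rw [hMEeq] at hENM
  have hnormal : ME'.Normal := by
    rw [← hMEsub]
    exact (Subgroup.normal_subgroupOf_iff_le_normalizer hME).mpr hENM
  exact minimalOver_not_normal hmin hTME' hME'c.1 hnormal

/-- first half of the transitive-family statement -/
theorem family_minimalOver (𝒦 : Set (Subgroup H)) (hne : 𝒦.Nonempty)
    (hinv : ∀ h : H, ∀ E ∈ 𝒦, E.map (MulAut.conj h).toMonoidHom ∈ 𝒦)
    (htr : ∀ E ∈ 𝒦, ∀ K ∈ 𝒦, ∃ h : H, K = E.map (MulAut.conj h).toMonoidHom)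
    (hres : pResidual p H ≤ sSup 𝒦)
    (hnorm : ∀ E ∈ 𝒦, sSup 𝒦 ⊔ pCore p H ≤
      Subgroup.normalizer ((E ⊔ pCore p H : Subgroup H) : Set H))
    (hmin : ∀ E ∈ 𝒦, ∀ T : Sylow p ↥E, IsMinimalOver (T : Subgroup ↥E)) (T : Sylow p H) :
    IsMinimalOver (T : Subgroup H) := by
  obtain ⟨E, hE⟩ := hne
  obtain ⟨TE⟩ : Nonempty (Sylow p ↥E) := inferInstance
  have hTEmin := hmin E hE TE
  obtain ⟨Nc, hNc⟩ : ∃ Nc, Nc = Subgroup.normalClosure ((T : Subgroup H) : Set H) := ⟨_, rfl⟩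
  haveI hNcn : Nc.Normal := by rw [hNc]; exact Subgroup.normalClosure_normal
  have hTNc : (T : Subgroup H) ≤ Nc := by rw [hNc]; exact Subgroup.le_normalClosure
  have hpN : ∀ Y : Subgroup H, IsPGroup p Y → Y ≤ Nc := by
    intro Y hY
    obtain ⟨g, hg⟩ := Cfsg.Agent.Helper17.exists_conj_le_sylow T Y hY
    intro y hy
    have h1 : g * y * g⁻¹ ∈ Nc := hTNc (hg (conj_mem_map_conj Y g hy))
    have h2 := hNcn.conj_mem _ h1 g⁻¹
    have e1 : g⁻¹ * (g * y * g⁻¹) * g⁻¹⁻¹ = y := by group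
    rwa [e1] at h2
  have hallN : ∀ K ∈ 𝒦, K ≤ Nc := by
    intro K hK
    obtain ⟨TK⟩ : Nonempty (Sylow p ↥K) := inferInstance
    have h1 : (TK : Subgroup ↥K) ≤ Nc.subgroupOf K := by
      intro x hx
      rw [Subgroup.mem_subgroupOf]
      exact hpN _ (TK.2.map K.subtype) (Subgroup.mem_map_of_mem _ hx)
    haveI : (Nc.subgroupOf K).Normal := hNcn.subgroupOf K
    have h2 : Subgroup.normalClosure ((TK : Subgroup ↥K) : Set ↥K) ≤ Nc.subgroupOf K :=
      Subgroup.normalClosure_le_normal h1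
    rw [(hmin K hK TK).1] at h2
    exact Subgroup.subgroupOf_eq_top.mp (top_le_iff.mp h2)
  have hNctop : Nc = ⊤ := by
    rw [eq_top_iff, ← pResidual_sup_sylow T]
    exact sup_le (hres.trans (sSup_le hallN)) hTNc
  refine ⟨by rw [← hNc]; exact hNctop, ?_⟩
  obtain ⟨P, hP⟩ := (TE.2.map E.subtype).exists_le_sylow
  obtain ⟨g, hg⟩ := Cfsg.Agent.Helper17.exists_conj_le_sylow T (P : Subgroup H) P.2
  have huniq : ∀ M₁ M₂ : Subgroup H, IsCoatom M₁ → IsCoatom M₂ → (T : Subgroup H) ≤ M₁ →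
      (T : Subgroup H) ≤ M₂ → M₁ = M₂ := by
    intro M₁ M₂ hM₁ hM₂ hT₁ hT₂
    have hc₁ : IsCoatom (M₁.comap ((MulAut.conj g : H ≃* H) : H →* H)) :=
      (Subgroup.isCoatom_comap (MulAut.conj g : H ≃* H)).mpr hM₁
    have hc₂ : IsCoatom (M₂.comap ((MulAut.conj g : H ≃* H) : H →* H)) :=
      (Subgroup.isCoatom_comap (MulAut.conj g : H ≃* H)).mpr hM₂
    have hP₁ : (P : Subgroup H) ≤ M₁.comap ((MulAut.conj g : H ≃* H) : H →* H) :=
      Subgroup.map_le_iff_le_comap.mp (hg.trans hT₁)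
    have hP₂ : (P : Subgroup H) ≤ M₂.comap ((MulAut.conj g : H ≃* H) : H →* H) :=
      Subgroup.map_le_iff_le_comap.mp (hg.trans hT₂)
    have h := min_unique_good 𝒦 hinv htr hres hnorm hE TE hTEmin P hP hc₁ hc₂ hP₁ hP₂
    exact Subgroup.comap_injective (MulAut.conj g).surjective h
  have hTne : (T : Subgroup H) ≠ ⊤ := by
    intro hT
    -- then `E` is a `p`-group, so its Sylow subgroup is everything
    have hEp : IsPGroup p (⊤ : Subgroup ↥E) := by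
      have h0 : IsPGroup p (⊤ : Subgroup H) := hT ▸ T.2
      rintro ⟨x, -⟩
      obtain ⟨k, hk⟩ := isPGroup_mem_pow h0 (Subgroup.mem_top (x : H))
      refine ⟨k, Subtype.ext (Subtype.ext ?_)⟩
      simpa using hk
    have hTEtop : (TE : Subgroup ↥E) = ⊤ := (TE.is_maximal' hEp le_top).symm
    obtain ⟨M, ⟨hMc, hTM⟩, -⟩ := hTEmin.2
    rw [hTEtop] at hTM
    exact hMc.1 (top_le_iff.mp hTM)
  obtain ⟨M, hM, hTM⟩ := (eq_top_or_exists_le_coatom (T : Subgroup H)).resolve_left hTne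
  exact ⟨M, ⟨hM, hTM⟩, fun M' hM' => huniq M' M hM'.1 hM hM'.2 hTM⟩

end TransFamMinimal

end Cfsg.Agent.Helper16
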