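import Cfsg.Agent.Helper16.FrakH2
import Cfsg.Agent.Helper16.YMinimal3
import Cfsg.Agent.Helper16.PReducedSubnormal

set_option autoImplicit false

namespace Cfsg.Agent.Helper16

open Cfsg
open Cfsg.Agent.Helper17 (mem_map_conj map_conj_map_conj map_conj_one
  map_conj_eq_of_mem_normalizer conj_mem_map_conj isPGroup_mem_pow)

variable {G : Type*} [Group G] {p : ℕ}

/-- a `p'`-element of `P K`, `P` a `p`-group normalizing `K`, lies in `K` -/
theorem mem_of_mem_sup_pgroup_coprime {K P : Subgroup G} (hP : IsPGroup p P)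
    (hPK : P ≤ Subgroup.normalizer (K : Set G)) {y : G} (hy : y ∈ P ⊔ K)
    (hc : (orderOf y).Coprime p) : y ∈ K := by
  obtain ⟨f, hf, k, hk, rfl⟩ := mem_sup_of_le_normalizer hPK hy
  obtain ⟨j, hj⟩ := isPGroup_mem_pow hP hf
  obtain ⟨c', hc', h⟩ := mul_pow_mem_of_normalizer (hPK hf) hk (p ^ j)
  rw [hj, one_mul] at h
  apply mem_of_pow_mem_of_coprime_order (n := p ^ j) (Nat.Coprime.pow_left j hc.symm)
  rw [h]; exact hc'

/-- transport of `O^p` along a subgroup inclusion -/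
theorem map_map_pResidual (p : ℕ) (X : Subgroup G) (K' : Subgroup ↥X) :
    ((pResidual p ↥K').map K'.subtype).map X.subtype =
      (pResidual p ↥(K'.map X.subtype)).map (K'.map X.subtype).subtype := by
  rw [map_pResidual_eq, map_pResidual_eq, MonoidHom.map_closure]
  congr 1
  ext x
  constructor
  · rintro ⟨y, ⟨hy, hc⟩, rfl⟩
    exact ⟨⟨y, hy, rfl⟩, by rwa [Subgroup.coe_subtype, Subgroup.orderOf_coe]⟩
  · rintro ⟨⟨y, hy, rfl⟩, hc⟩
    exact ⟨y, ⟨hy, by rwa [Subgroup.coe_subtype, Subgroup.orderOf_coe] at hc⟩, rfl⟩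

/-- a subgroup mapping the `p'`-elements of `L` into `O^p(L)` normalizes `O^p(L)` -/
theorem le_normalizer_map_pResidual_of_conj {L Y : Subgroup G}
    (h : ∀ g ∈ Y, ∀ x ∈ L, (orderOf x).Coprime p →
      g * x * g⁻¹ ∈ (pResidual p ↥L).map L.subtype) :
    Y ≤ Subgroup.normalizer (((pResidual p ↥L).map L.subtype : Subgroup G) : Set G) := by
  apply le_normalizer_of_conj_mem
  intro g hg u hu
  have h1 : (pResidual p ↥L).map L.subtype ≤
      ((pResidual p ↥L).map L.subtype).comap (MulAut.conj g).toMonoidHom := by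
    conv_lhs => rw [map_pResidual_eq]
    rw [Subgroup.closure_le]
    intro x hx
    exact h g hg x hx.1 hx.2
  exact h1 hu

theorem normalizer_le_normalizer_opRes (p : ℕ) (L : Subgroup G) :
    Subgroup.normalizer (L : Set G) ≤
      Subgroup.normalizer (((pResidual p ↥L).map L.subtype : Subgroup G) : Set G) := by
  apply le_normalizer_map_pResidual_of_conj
  intro g hg x hx hc
  apply mem_map_pResidual_of_coprime ((Subgroup.mem_normalizer_iff.mp hg x).mp hx)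
  rw [orderOf_conj']; exact hc

/-- three subgroups lemma modulo a normal subgroup -/
theorem commutator_commutator_le_of_rotate {N A B C : Subgroup G} [N.Normal]
    (h1 : ⁅⁅B, C⁆, A⁆ ≤ N) (h2 : ⁅⁅C, A⁆, B⁆ ≤ N) : ⁅⁅A, B⁆, C⁆ ≤ N := by
  have key : ∀ X : Subgroup G, X.map (QuotientGroup.mk' N) = ⊥ ↔ X ≤ N := by
    intro X
    rw [Subgroup.map_eq_bot_iff, QuotientGroup.ker_mk']
  rw [← key] at h1 h2 ⊢
  simp only [Subgroup.map_commutator] at h1 h2 ⊢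
  exact Subgroup.commutator_commutator_eq_bot_of_rotate h1 h2

/-- the weak closure `L` of a weakly closed `p`-subgroup `Q` in `X ≥ Q`: `L = Q O^p(L)` and
`O^p(L) = [O^p(L), Q]` -/
theorem wc_residual_facts [Finite G] [Fact p.Prime] {Q X : Subgroup G} (hQp : IsPGroup p Q)
    (hwc : IsWeaklyClosedSubgroup p Q) (hQX : Q ≤ X) :
    Q ⊔ (pResidual p ↥(weakClosure Q X)).map (weakClosure Q X).subtype = weakClosure Q X ∧
    ⁅(pResidual p ↥(weakClosure Q X)).map (weakClosure Q X).subtype, Q⁆ =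
      (pResidual p ↥(weakClosure Q X)).map (weakClosure Q X).subtype := by
  have h1 := weakClosure_eq_subnormalClosure hQp hwc hQX
  obtain ⟨hA, hsn, hmin⟩ := subnormalClosure_spec (Q.subgroupOf X)
  have h2 := subnormalClosure_sup_pResidual (p := p) hA hsn hmin
  have h3 := subnormalClosure_commutator (p := p) hA hsn hmin hQp.comap_subtype
  have h2' := congrArg (Subgroup.map X.subtype) h2
  have h3' := congrArg (Subgroup.map X.subtype) h3
  rw [Subgroup.map_sup, map_map_pResidual, Subgroup.map_subgroupOf_eq_of_le hQX, ← h1] at h2'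
  rw [Subgroup.map_commutator, map_map_pResidual, Subgroup.map_subgroupOf_eq_of_le hQX,
    ← h1] at h3'
  exact ⟨h2', h3'⟩

theorem weakClosure_le (Q X : Subgroup G) : weakClosure Q X ≤ X :=
  iSup_le (fun g => g.2)

theorem conj_le_weakClosure {Q X : Subgroup G} {g : G}
    (hg : Q.map (MulAut.conj g).toMonoidHom ≤ X) :
    Q.map (MulAut.conj g).toMonoidHom ≤ weakClosure Q X :=
  le_iSup (fun g : {g : G // Q.map (MulAut.conj g).toMonoidHom ≤ X} =>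
    Q.map (MulAut.conj (g : G)).toMonoidHom) ⟨g, hg⟩

theorem le_weakClosure {Q X : Subgroup G} (hQX : Q ≤ X) : Q ≤ weakClosure Q X := by
  have h : Q.map (MulAut.conj (1 : G)).toMonoidHom ≤ X := by rw [map_conj_one]; exact hQX
  have h2 := conj_le_weakClosure h
  rwa [map_conj_one] at h2

theorem le_normalizer_weakClosure [Finite G] [Fact p.Prime] {Q X : Subgroup G}
    (hQp : IsPGroup p Q) (hwc : IsWeaklyClosedSubgroup p Q) (hQX : Q ≤ X) :
    X ≤ Subgroup.normalizer ((weakClosure Q X : Subgroup G) : Set G) := by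
  rw [weakClosure_eq_iSup hQp hwc hQX]
  exact le_normalizer_iSup_conj X Q

theorem weakClosure_top_facts [Finite G] [Fact p.Prime] {Q : Subgroup G} (hQp : IsPGroup p Q)
    (hwc : IsWeaklyClosedSubgroup p Q) {Hc : Subgroup G} (hHc : Hc = weakClosure Q ⊤) :
    Q ≤ Hc ∧ Subgroup.normalizer (Hc : Set G) = ⊤ ∧
      Hc = ⨆ k : ↥Hc, Q.map (MulAut.conj (k : G)).toMonoidHom := by
  have hQHc : Q ≤ Hc := by rw [hHc]; exact le_weakClosure le_top
  have hHcN : Subgroup.normalizer (Hc : Set G) = ⊤ := by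
    rw [eq_top_iff, hHc]; exact le_normalizer_weakClosure hQp hwc le_top
  have hW : weakClosure Q Hc = Hc := by
    apply le_antisymm (weakClosure_le Q Hc)
    conv_lhs => rw [hHc]
    refine iSup_le (fun g => ?_)
    apply conj_le_weakClosure
    rw [hHc]; exact conj_le_weakClosure g.2
  refine ⟨hQHc, hHcN, ?_⟩
  conv_lhs => rw [← hW]
  exact weakClosure_eq_iSup hQp hwc hQHc

/-- one side of the product lemma for the weak closure of a weakly closed subgroup -/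
theorem wcprod_side [Finite G] [Fact p.Prime] {Q : Subgroup G} (hQp : IsPGroup p Q)
    (hwc : IsWeaklyClosedSubgroup p Q) {Hc : Subgroup G} (hHc : Hc = weakClosure Q ⊤)
    {H₁ H₂ : Subgroup G}
    (hn₁ : H₁ ≤ Hc ∧ Hc ≤ Subgroup.normalizer (H₁ : Set G))
    (hn₂ : H₂ ≤ Hc ∧ Hc ≤ Subgroup.normalizer (H₂ : Set G))
    (hprod : H₁ ⊔ H₂ = Hc) (hcomm : ⁅H₁, H₂⁆ ≤ Subgroup.normalizer (Q : Set G))
    {K₁ : Subgroup G}
    (hK₁ : K₁ = (pResidual p ↥(weakClosure Q (H₁ ⊔ Q))).map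
      (weakClosure Q (H₁ ⊔ Q)).subtype) :
    ⁅K₁, Q⁆ = K₁ ∧ ⁅K₁, H₁⁆ = K₁ ∧ K₁ ≤ ⁅H₁, H₁⁆ ∧
      Hc ≤ Subgroup.normalizer (K₁ : Set G) ∧ K₁ ≤ H₁ ∧ ⁅K₁, H₂⁆ ≤ pCoreOf p Hc ∧
      Q ⊔ K₁ = weakClosure Q (H₁ ⊔ Q) := by
  obtain ⟨hQHc, hHcN, hHcSup⟩ := weakClosure_top_facts hQp hwc hHc
  obtain ⟨O, hO⟩ : ∃ O, O = pCoreOf p Hc := ⟨_, rfl⟩
  have hOp : IsPGroup p O := by rw [hO]; exact isPGroup_pCoreOf p Hc
  haveI hOn : O.Normal := by
    rw [← Subgroup.normalizer_eq_top_iff, eq_top_iff, ← hHcN, hO]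
    exact normalizer_le_normalizer_pCoreOf p Hc
  obtain ⟨D, hD⟩ : ∃ D, D = ⁅H₁, H₂⁆ := ⟨_, rfl⟩
  have hDH₁ : D ≤ H₁ := by rw [hD]; exact commutator_le_of_le_normalizer (hn₂.1.trans hn₁.2)
  have hDHc : D ≤ Hc := hDH₁.trans hn₁.1
  have hHcD : Hc ≤ Subgroup.normalizer (D : Set G) := by
    intro x hx; rw [hD]; exact mem_normalizer_commutator (hn₁.2 hx) (hn₂.2 hx)
  have hDQ : D ≤ Subgroup.normalizer (Q : Set G) := by rw [hD]; exact hcomm
  -- `[D, Hc] ≤ O`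
  have hb : ⁅D, Hc⁆ ≤ O := by
    have h1 : ⁅D, ⨆ k : ↥Hc, Q.map (MulAut.conj (k : G)).toMonoidHom⁆ ≤ O := by
      apply commutator_iSup_le
      · intro k
        exact (map_conj_le_of_mem hQHc k.2).trans
          (by rw [hO]; exact le_normalizer_pCoreOf p Hc)
      · intro k
        have hDk : D ≤ Subgroup.normalizer
            ((Q.map (MulAut.conj (k : G)).toMonoidHom : Subgroup G) : Set G) := by
          intro d hd
          rw [mem_normalizer_map_conj]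
          apply hDQ
          have := (Subgroup.mem_normalizer_iff.mp (hHcD (Hc.inv_mem k.2)) d).mp hd
          rwa [inv_inv] at this
        have hkD : Q.map (MulAut.conj (k : G)).toMonoidHom ≤
            Subgroup.normalizer (D : Set G) :=
          (map_conj_le_of_mem hQHc k.2).trans hHcD
        have h2 : ⁅D, Q.map (MulAut.conj (k : G)).toMonoidHom⁆ ≤
            D ⊓ Q.map (MulAut.conj (k : G)).toMonoidHom := by
          apply le_inf (commutator_le_of_le_normalizer hkD)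
          rw [Subgroup.commutator_comm]
          exact commutator_le_of_le_normalizer hDk
        have h3 : D ⊓ Q.map (MulAut.conj (k : G)).toMonoidHom ≤ pCoreOf p D :=
          le_pCoreOf inf_le_left (le_normalizer_inf' Subgroup.le_normalizer hDk)
            ((hQp.map _).to_le inf_le_right)
        have h4 : pCoreOf p D ≤ pCoreOf p Hc :=
          le_pCoreOf ((pCoreOf_le p D).trans hDHc)
            (hHcD.trans (normalizer_le_normalizer_pCoreOf p D)) (isPGroup_pCoreOf p D)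
        rw [hO]
        exact h2.trans (h3.trans h4)
    rwa [← hHcSup] at h1
  -- the groups `L₁` and `K₁`
  have hQX : Q ≤ H₁ ⊔ Q := le_sup_right
  obtain ⟨hQK, hKQ⟩ := wc_residual_facts hQp hwc hQX
  have hXL := le_normalizer_weakClosure hQp hwc hQX
  have hLK := normalizer_le_normalizer_opRes p (weakClosure Q (H₁ ⊔ Q))
  have hLX := weakClosure_le Q (H₁ ⊔ Q)
  have hcop : ∀ x ∈ weakClosure Q (H₁ ⊔ Q), (orderOf x).Coprime p → x ∈ K₁ := by
    intro x hx hc; rw [hK₁]; exact mem_map_pResidual_of_coprime hx hc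
  have hgen : ∀ Z : Subgroup G,
      (∀ x ∈ weakClosure Q (H₁ ⊔ Q), (orderOf x).Coprime p → x ∈ Z) → K₁ ≤ Z := by
    intro Z hZ
    rw [hK₁, map_pResidual_eq, Subgroup.closure_le]
    intro x hx; exact hZ x hx.1 hx.2
  have hnorm : ∀ Y : Subgroup G,
      (∀ g ∈ Y, ∀ x ∈ weakClosure Q (H₁ ⊔ Q), (orderOf x).Coprime p → g * x * g⁻¹ ∈ K₁) →
      Y ≤ Subgroup.normalizer (K₁ : Set G) := by
    intro Y hY
    rw [hK₁]
    apply le_normalizer_map_pResidual_of_conj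
    rw [← hK₁]; exact hY
  rw [← hK₁] at hQK hKQ hLK
  have hXK : H₁ ⊔ Q ≤ Subgroup.normalizer (K₁ : Set G) := hXL.trans hLK
  have hH₁K : H₁ ≤ Subgroup.normalizer (K₁ : Set G) := le_sup_left.trans hXK
  have hQNK : Q ≤ Subgroup.normalizer (K₁ : Set G) := le_sup_right.trans hXK
  have hQH₁ : Q ≤ Subgroup.normalizer (H₁ : Set G) := hQHc.trans hn₁.2
  -- `K₁ ≤ H₁`
  have hK₁H₁ : K₁ ≤ H₁ := by
    apply hgen
    intro x hx hc
    have hx' : x ∈ Q ⊔ H₁ := by rw [sup_comm]; exact hLX hx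
    exact mem_of_mem_sup_pgroup_coprime hQp hQH₁ hx' hc
  have hK₁Hc : K₁ ≤ Hc := hK₁H₁.trans hn₁.1
  -- `K₁ = [K₁, H₁]`
  obtain ⟨B, hB⟩ : ∃ B, B = ⁅K₁, H₁⁆ := ⟨_, rfl⟩
  have hBK : B ≤ K₁ := by rw [hB]; exact commutator_le_of_le_normalizer hH₁K
  have hKB : K₁ ≤ Subgroup.normalizer (B : Set G) := by
    rw [hB]; exact le_normalizer_commutator_left K₁ H₁
  have hQB : Q ≤ Subgroup.normalizer (B : Set G) := by
    intro q hq; rw [hB]; exact mem_normalizer_commutator (hQNK hq) (hQH₁ hq)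
  have hH₁H₂ : H₁ ≤ Subgroup.normalizer (H₂ : Set G) := hn₁.1.trans hn₂.2
  have step1 : K₁ ≤ B ⊔ (K₁ ⊓ D) := by
    conv_lhs => rw [← hKQ]
    rw [commutator_le_iff']
    intro k hk q hq
    have hq' : q ∈ H₁ ⊔ H₂ := by rw [hprod]; exact hQHc hq
    obtain ⟨h₁, hh₁, h₂, hh₂, rfl⟩ := mem_sup_of_le_normalizer hH₁H₂ hq'
    have hc₁ : k * h₁ * k⁻¹ * h₁⁻¹ ∈ B := by rw [hB]; exact comm_mem_commutator hk hh₁
    have hc₂D : k * h₂ * k⁻¹ * h₂⁻¹ ∈ D := by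
      rw [hD]; exact comm_mem_commutator (hK₁H₁ hk) hh₂
    have hkq : k * (h₁ * h₂) * k⁻¹ * (h₁ * h₂)⁻¹ ∈ K₁ := by
      have := (Subgroup.mem_normalizer_iff.mp (hQNK hq) k⁻¹).mp (K₁.inv_mem hk)
      have e : k * (h₁ * h₂) * k⁻¹ * (h₁ * h₂)⁻¹ =
          k * ((h₁ * h₂) * k⁻¹ * (h₁ * h₂)⁻¹) := by group
      rw [e]; exact K₁.mul_mem hk this
    have hconj : h₁ * (k * h₂ * k⁻¹ * h₂⁻¹) * h₁⁻¹ ∈ K₁ := by
      have e : h₁ * (k * h₂ * k⁻¹ * h₂⁻¹) * h₁⁻¹ =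
          (k * h₁ * k⁻¹ * h₁⁻¹)⁻¹ * (k * (h₁ * h₂) * k⁻¹ * (h₁ * h₂)⁻¹) := by group
      rw [e]; exact K₁.mul_mem (K₁.inv_mem (hBK hc₁)) hkq
    have hconjD : h₁ * (k * h₂ * k⁻¹ * h₂⁻¹) * h₁⁻¹ ∈ D :=
      (Subgroup.mem_normalizer_iff.mp (hHcD (hn₁.1 hh₁)) _).mp hc₂D
    have e : k * (h₁ * h₂) * k⁻¹ * (h₁ * h₂)⁻¹ =
        (k * h₁ * k⁻¹ * h₁⁻¹) * (h₁ * (k * h₂ * k⁻¹ * h₂⁻¹) * h₁⁻¹) := by group
    rw [e]
    exact Subgroup.mul_mem_sup hc₁ (Subgroup.mem_inf.mpr ⟨hconj, hconjD⟩)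
  have hFB : K₁ ⊓ O ≤ Subgroup.normalizer (B : Set G) := inf_le_left.trans hKB
  have step2 : K₁ ≤ (K₁ ⊓ O) ⊔ B := by
    conv_lhs => rw [← hKQ]
    rw [commutator_le_iff']
    intro k hk q hq
    have hEB : K₁ ⊓ D ≤ Subgroup.normalizer (B : Set G) := inf_le_left.trans hKB
    have hk' : k ∈ (K₁ ⊓ D) ⊔ B := by rw [sup_comm]; exact step1 hk
    obtain ⟨e, he, b, hb', rfl⟩ := mem_sup_of_le_normalizer hEB hk'
    have heK : e ∈ K₁ := (Subgroup.mem_inf.mp he).1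
    have heD : e ∈ D := (Subgroup.mem_inf.mp he).2
    have hbq : b * q * b⁻¹ * q⁻¹ ∈ B := by
      have := (Subgroup.mem_normalizer_iff.mp (hQB hq) b⁻¹).mp (B.inv_mem hb')
      have e' : b * q * b⁻¹ * q⁻¹ = b * (q * b⁻¹ * q⁻¹) := by group
      rw [e']; exact B.mul_mem hb' this
    have hbq' : e * (b * q * b⁻¹ * q⁻¹) * e⁻¹ ∈ B :=
      (Subgroup.mem_normalizer_iff.mp (hKB heK) _).mp hbq
    have heqK : e * q * e⁻¹ * q⁻¹ ∈ K₁ := by
      have := (Subgroup.mem_normalizer_iff.mp (hQNK hq) e⁻¹).mp (K₁.inv_mem heK)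
      have e' : e * q * e⁻¹ * q⁻¹ = e * (q * e⁻¹ * q⁻¹) := by group
      rw [e']; exact K₁.mul_mem heK this
    have heqO : e * q * e⁻¹ * q⁻¹ ∈ O := hb (comm_mem_commutator heD (hQHc hq))
    have e' : e * b * q * (e * b)⁻¹ * q⁻¹ =
        (e * (b * q * b⁻¹ * q⁻¹) * e⁻¹) * (e * q * e⁻¹ * q⁻¹) := by group
    rw [e']
    exact Subgroup.mul_mem _ (Subgroup.mem_sup_right hbq')
      (Subgroup.mem_sup_left (Subgroup.mem_inf.mpr ⟨heqK, heqO⟩))
  have step3 : K₁ ≤ B := by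
    apply hgen
    intro x hx hc
    exact mem_of_mem_sup_pgroup_coprime (hOp.to_le inf_le_right) hFB (step2 (hcop x hx hc)) hc
  have hBeq : ⁅K₁, H₁⁆ = K₁ := by rw [← hB]; exact le_antisymm hBK step3
  -- `[K₁, H₂] ≤ O`
  have hd' : ⁅K₁, H₂⁆ ≤ O := by
    have h1 : ⁅⁅H₁, H₂⁆, K₁⁆ ≤ O := by
      rw [← hD]; exact (Subgroup.commutator_mono le_rfl hK₁Hc).trans hb
    have h2 : ⁅⁅H₂, K₁⁆, H₁⁆ ≤ O := by
      have : ⁅H₂, K₁⁆ ≤ D := by
        rw [hD, Subgroup.commutator_comm]; exact Subgroup.commutator_mono hK₁H₁ le_rfl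
      exact (Subgroup.commutator_mono this hn₁.1).trans hb
    have h3 := commutator_commutator_le_of_rotate h1 h2
    rwa [hBeq] at h3
  -- `H₂` normalizes `K₁`
  have hH₂K : H₂ ≤ Subgroup.normalizer (K₁ : Set G) := by
    apply hnorm
    intro g hg x hx hc
    have hxK : x ∈ K₁ := hcop x hx hc
    have h1 : g * x * g⁻¹ * x⁻¹ ∈ D ⊓ O := by
      refine Subgroup.mem_inf.mpr ⟨?_, ?_⟩
      · rw [hD, Subgroup.commutator_comm]; exact comm_mem_commutator hg (hK₁H₁ hxK)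
      · apply hd'; rw [Subgroup.commutator_comm]; exact comm_mem_commutator hg hxK
    have h2 : g * x * g⁻¹ ∈ (D ⊓ O) ⊔ K₁ := by
      have e : g * x * g⁻¹ = (g * x * g⁻¹ * x⁻¹) * x := by group
      rw [e]; exact Subgroup.mul_mem_sup h1 hxK
    exact mem_of_mem_sup_pgroup_coprime (hOp.to_le inf_le_right)
      (inf_le_left.trans (hDH₁.trans hH₁K)) h2 (by rw [orderOf_conj']; exact hc)
  have hHcK : Hc ≤ Subgroup.normalizer (K₁ : Set G) := by
    rw [← hprod]; exact sup_le hH₁K hH₂K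
  refine ⟨hKQ, hBeq, ?_, hHcK, hK₁H₁, by rw [← hO]; exact hd', hQK⟩
  calc K₁ = ⁅K₁, H₁⁆ := hBeq.symm
    _ ≤ ⁅H₁, H₁⁆ := Subgroup.commutator_mono hK₁H₁ le_rfl

/-- the product lemma for the weak closure of a weakly closed subgroup -/
theorem wcprod_main [Finite G] [Fact p.Prime] (Q : Subgroup G) (hQp : IsPGroup p Q)
    (hwc : IsWeaklyClosedSubgroup p Q) (Hc : Subgroup G) (hHc : Hc = weakClosure Q ⊤)
    (H₁ H₂ : Subgroup G)
    (hn₁ : H₁ ≤ Hc ∧ Hc ≤ Subgroup.normalizer (H₁ : Set G))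
    (hn₂ : H₂ ≤ Hc ∧ Hc ≤ Subgroup.normalizer (H₂ : Set G))
    (hprod : H₁ ⊔ H₂ = Hc) (hcomm : ⁅H₁, H₂⁆ ≤ Subgroup.normalizer (Q : Set G))
    (K₁ K₂ : Subgroup G)
    (hK₁ : K₁ = (pResidual p ↥(weakClosure Q (H₁ ⊔ Q))).map
      (weakClosure Q (H₁ ⊔ Q)).subtype)
    (hK₂ : K₂ = (pResidual p ↥(weakClosure Q (H₂ ⊔ Q))).map
      (weakClosure Q (H₂ ⊔ Q)).subtype) :
    (⁅K₁, Q⁆ = K₁ ∧ ⁅K₁, H₁⁆ = K₁ ∧ K₁ ≤ ⁅H₁, H₁⁆ ∧
      Hc ≤ Subgroup.normalizer (K₁ : Set G)) ∧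
    (⁅K₂, Q⁆ = K₂ ∧ ⁅K₂, H₂⁆ = K₂ ∧ K₂ ≤ ⁅H₂, H₂⁆ ∧
      Hc ≤ Subgroup.normalizer (K₂ : Set G)) ∧
    K₁ ⊔ K₂ = (pResidual p ↥Hc).map Hc.subtype ∧ ⁅K₁, K₂⁆ ≤ pCoreOf p Hc := by
  obtain ⟨a1, a2, a3, a4, a5, a6, a7⟩ := wcprod_side hQp hwc hHc hn₁ hn₂ hprod hcomm hK₁
  obtain ⟨b1, b2, b3, b4, b5, b6, b7⟩ := wcprod_side hQp hwc hHc hn₂ hn₁
    (by rw [sup_comm]; exact hprod) (by rw [Subgroup.commutator_comm]; exact hcomm) hK₂
  refine ⟨⟨a1, a2, a3, a4⟩, ⟨b1, b2, b3, b4⟩, ?_,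
    (Subgroup.commutator_mono le_rfl b5).trans a6⟩
  obtain ⟨hQHc, hHcN, hHcSup⟩ := weakClosure_top_facts hQp hwc hHc
  apply le_antisymm
  · apply sup_le
    · rw [hK₁, map_pResidual_eq, map_pResidual_eq]
      exact Subgroup.closure_mono
        (fun x hx => ⟨(sup_le hn₁.1 hQHc) (weakClosure_le Q _ hx.1), hx.2⟩)
    · rw [hK₂, map_pResidual_eq, map_pResidual_eq]
      exact Subgroup.closure_mono
        (fun x hx => ⟨(sup_le hn₂.1 hQHc) (weakClosure_le Q _ hx.1), hx.2⟩)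
  · rw [map_pResidual_eq, Subgroup.closure_le]
    intro x hx
    obtain ⟨hxHc, hc⟩ := hx
    have hNN : Hc ≤ Subgroup.normalizer ((K₁ ⊔ K₂ : Subgroup G) : Set G) :=
      le_normalizer_sup' a4 b4
    have hM₁ : H₁ ≤ Subgroup.normalizer ((Q ⊔ (K₁ ⊔ K₂) : Subgroup G) : Set G) := by
      apply le_normalizer_of_conj_mem
      intro h hh u hu
      have h1 : (Q ⊔ (K₁ ⊔ K₂)).map (MulAut.conj h).toMonoidHom ≤ Q ⊔ (K₁ ⊔ K₂) := by
        rw [Subgroup.map_sup]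
        apply sup_le
        · have h2 : Q.map (MulAut.conj h).toMonoidHom ≤ weakClosure Q (H₁ ⊔ Q) :=
            conj_le_weakClosure (map_conj_le_of_mem le_sup_right (Subgroup.mem_sup_left hh))
          rw [← a7] at h2
          exact h2.trans (sup_le_sup_left le_sup_left Q)
        · rw [map_conj_eq_of_mem_normalizer _ (hNN (hn₁.1 hh))]; exact le_sup_right
      exact h1 (conj_mem_map_conj _ h hu)
    have hM₂ : H₂ ≤ Subgroup.normalizer ((Q ⊔ (K₁ ⊔ K₂) : Subgroup G) : Set G) := by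
      apply le_normalizer_of_conj_mem
      intro h hh u hu
      have h1 : (Q ⊔ (K₁ ⊔ K₂)).map (MulAut.conj h).toMonoidHom ≤ Q ⊔ (K₁ ⊔ K₂) := by
        rw [Subgroup.map_sup]
        apply sup_le
        · have h2 : Q.map (MulAut.conj h).toMonoidHom ≤ weakClosure Q (H₂ ⊔ Q) :=
            conj_le_weakClosure (map_conj_le_of_mem le_sup_right (Subgroup.mem_sup_left hh))
          rw [← b7] at h2
          exact h2.trans (sup_le_sup_left le_sup_right Q)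
        · rw [map_conj_eq_of_mem_normalizer _ (hNN (hn₂.1 hh))]; exact le_sup_right
      exact h1 (conj_mem_map_conj _ h hu)
    have hHcM : Hc ≤ Subgroup.normalizer ((Q ⊔ (K₁ ⊔ K₂) : Subgroup G) : Set G) := by
      rw [← hprod]; exact sup_le hM₁ hM₂
    have hHcle : Hc ≤ Q ⊔ (K₁ ⊔ K₂) := by
      conv_lhs => rw [hHcSup]
      refine iSup_le (fun k => ?_)
      calc Q.map (MulAut.conj (k : G)).toMonoidHom
          ≤ (Q ⊔ (K₁ ⊔ K₂)).map (MulAut.conj (k : G)).toMonoidHom :=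
            Subgroup.map_mono le_sup_left
        _ = Q ⊔ (K₁ ⊔ K₂) := map_conj_eq_of_mem_normalizer _ (hHcM k.2)
    exact mem_of_mem_sup_pgroup_coprime hQp (hQHc.trans hNN) (hHcle hxHc) hc

end Cfsg.Agent.Helper16
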