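import Cfsg.Agent.Helper16.Large2
import Cfsg.Agent.Helper17.AxB

set_option autoImplicit false

namespace Cfsg.Agent.Helper16

open Cfsg
open Cfsg.Agent.Helper17 (mem_map_conj map_conj_map_conj map_conj_one
  map_conj_eq_of_mem_normalizer sylow_smul_coe exists_normalizer_mem_not_mem
  exists_conj_le_sylow conj_mem_map_conj pc CharPA charPA_iff charPA_of_normal charPA_local
  pc_le le_pc pc_isPGroup le_normalizer_pc pc_le_pc_of_normal isPGroup_mem_pow charPA_top_iff)

variable {H : Type*} [Group H] {p : ℕ}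

theorem commStab_conj_mem {U V : Subgroup H} {l z : H} (hl : l ∈ commStab U V)
    (hzU : z ∈ Subgroup.normalizer (U : Set H)) (hzV : z ∈ Subgroup.normalizer (V : Set H)) :
    z * l * z⁻¹ ∈ commStab U V := by
  obtain ⟨hl1, hl2⟩ := hl
  refine ⟨Subgroup.mul_mem _ (Subgroup.mul_mem _ hzU hl1) (Subgroup.inv_mem _ hzU),
    fun v hv => ?_⟩
  have hv' : z⁻¹ * v * z ∈ V := by
    have := (Subgroup.mem_normalizer_iff.mp (Subgroup.inv_mem _ hzV) v).mp hv
    simpa using this
  have e : v * (z * l * z⁻¹) * v⁻¹ * (z * l * z⁻¹)⁻¹ =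
      z * ((z⁻¹ * v * z) * l * (z⁻¹ * v * z)⁻¹ * l⁻¹) * z⁻¹ := by group
  rw [e]
  exact (Subgroup.mem_normalizer_iff.mp hzU _).mp (hl2 _ hv')

/-- Let `Q` be a weakly closed `p`-subgroup, `D` a subgroup normalized by `Q`, and `W` a
`p`-subgroup normalized by `Q` and `D` with `C_D(W) ≤ W` such that `D` centralizes `[W, Q]`.
Then `D` normalizes `Q`. -/
theorem wc_le_normalizer_of_chain [Finite H] [Fact p.Prime] {Q : Subgroup H}
    (hQp : IsPGroup p Q) (hwc : IsWeaklyClosedSubgroup p Q) {D W : Subgroup H}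
    (hQD : Q ≤ Subgroup.normalizer (D : Set H)) (hWp : IsPGroup p W)
    (hQW : Q ≤ Subgroup.normalizer (W : Set H)) (hDW : D ≤ Subgroup.normalizer (W : Set H))
    (hC : D ⊓ Subgroup.centralizer (W : Set H) ≤ W)
    (hV : D ≤ Subgroup.centralizer ((⁅W, Q⁆ : Subgroup H) : Set H)) :
    D ≤ Subgroup.normalizer (Q : Set H) := by
  intro x hx
  have hzD : Subgroup.zpowers x ≤ D := by rw [Subgroup.zpowers_le]; exact hx
  have hED : ⁅Q, Subgroup.zpowers x⁆ ≤ D := by
    rw [commutator_le_iff']
    intro a ha b hb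
    exact D.mul_mem ((Subgroup.mem_normalizer_iff.mp (hQD ha) b).mp (hzD hb))
      (D.inv_mem (hzD hb))
  have hEstab : ⁅Q, Subgroup.zpowers x⁆ ≤ commStab ⁅W, Q⁆ W := by
    rw [commutator_le_iff']
    intro a ha b hb
    have ha' : a ∈ commStab ⁅W, Q⁆ W :=
      le_commStab (le_normalizer_commutator_right W Q) le_rfl ha
    have hb1 : b ∈ Subgroup.normalizer ((⁅W, Q⁆ : Subgroup H) : Set H) :=
      Subgroup.centralizer_le_normalizer _ (hV (hzD hb))
    have hb2 : b ∈ Subgroup.normalizer (W : Set H) := hDW (hzD hb)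
    have h1 := commStab_conj_mem (Subgroup.inv_mem _ ha') hb1 hb2
    have e : a * b * a⁻¹ * b⁻¹ = a * (b * a⁻¹ * b⁻¹) := by group
    rw [e]
    exact Subgroup.mul_mem _ ha' h1
  have hVW : ⁅W, Q⁆ ≤ W := commutator_le_of_le_normalizer hQW
  have hEp : IsPGroup p ↥(⁅Q, Subgroup.zpowers x⁆) := by
    apply isPGroup_of_coprime_trivial
    intro e he hcop
    have heD := hED he
    have hcomm : ∀ r ∈ W, r * e = e * r := by
      intro r hr
      have h1 : r * e * r⁻¹ * e⁻¹ ∈ ⁅W, Q⁆ := (hEstab he).2 r hr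
      apply comm_of_coprime_step e r hcop
      · exact Subgroup.mem_centralizer_iff.mp (hV heD) _ h1
      · exact isPGroup_mem_pow hWp (hVW h1)
    have heW : e ∈ W :=
      hC (Subgroup.mem_inf.mpr ⟨heD, Subgroup.mem_centralizer_iff.mpr hcomm⟩)
    obtain ⟨k, hk⟩ := isPGroup_mem_pow hWp heW
    exact eq_one_of_coprime_of_pow hcop hk
  have hEQ : IsPGroup p ↥(Q ⊔ ⁅Q, Subgroup.zpowers x⁆) :=
    IsPGroup.to_sup_of_normal_right' hQp hEp (le_normalizer_commutator_left Q _)
  have hconj : Q.map (MulAut.conj x).toMonoidHom ≤ Q ⊔ ⁅Q, Subgroup.zpowers x⁆ := by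
    intro y hy
    rw [mem_map_conj] at hy
    have h1 : (x⁻¹ * y * x) * x * (x⁻¹ * y * x)⁻¹ * x⁻¹ ∈ ⁅Q, Subgroup.zpowers x⁆ :=
      comm_mem_commutator hy (Subgroup.mem_zpowers x)
    have e : y = ((x⁻¹ * y * x) * x * (x⁻¹ * y * x)⁻¹ * x⁻¹)⁻¹ * (x⁻¹ * y * x) := by group
    rw [e]
    exact Subgroup.mul_mem _ (Subgroup.mem_sup_right (Subgroup.inv_mem _ h1))
      (Subgroup.mem_sup_left hy)
  exact mem_normalizer_of_map_conj_eq (wc_conj_eq hwc hEQ le_sup_left hconj)

/-- A weakly closed `p`-subgroup normalizes, and is normalized by, every `p`-subgroup that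
it normalizes. -/
theorem wc_le_normalizer_of_pgroup [Finite H] [Fact p.Prime] {Q : Subgroup H}
    (hQp : IsPGroup p Q) (hwc : IsWeaklyClosedSubgroup p Q) {R : Subgroup H}
    (hRp : IsPGroup p R) (hQR : Q ≤ Subgroup.normalizer (R : Set H)) :
    R ≤ Subgroup.normalizer (Q : Set H) := by
  have h1 : IsPGroup p ↥(Q ⊔ R) := IsPGroup.to_sup_of_normal_right' hQp hRp hQR
  exact (le_sup_right.trans Subgroup.le_normalizer).trans (wc_normalizer_le hwc h1 le_sup_left)

/-- If `K` has characteristic `p` and `Q ≤ L ≤ K` with `Q` a weakly closed `p`-subgroup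
such that `C_H(Q) ≤ Q`, then `L` has characteristic `p`. -/
theorem charPA_of_wc_le [Finite H] [Fact p.Prime] {Q : Subgroup H} (hQp : IsPGroup p Q)
    (hwc : IsWeaklyClosedSubgroup p Q) (hCQ : Subgroup.centralizer (Q : Set H) ≤ Q)
    {K L : Subgroup H} (hK : CharPA p K) (hQL : Q ≤ L) (hLK : L ≤ K) : CharPA p L := by
  have hRp : IsPGroup p (pc p K) := pc_isPGroup K
  have hKR : K ≤ Subgroup.normalizer ((pc p K : Subgroup H) : Set H) := le_normalizer_pc K
  have hLP : L ≤ Subgroup.normalizer ((pc p L : Subgroup H) : Set H) := le_normalizer_pc L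
  have hLE : L ≤ Subgroup.normalizer
      ((L ⊓ Subgroup.centralizer ((pc p L : Subgroup H) : Set H) : Subgroup H) : Set H) :=
    le_normalizer_inf' Subgroup.le_normalizer
      (hLP.trans (normalizer_le_normalizer_centralizer _))
  have hQR : Q ≤ Subgroup.normalizer ((pc p K : Subgroup H) : Set H) :=
    (hQL.trans hLK).trans hKR
  have hRQ : pc p K ≤ Subgroup.normalizer (Q : Set H) :=
    wc_le_normalizer_of_pgroup hQp hwc hRp hQR
  have hVP : ⁅pc p K, Q⁆ ≤ pc p L := by
    have h1 : ⁅pc p K, Q⁆ ≤ pc p K := commutator_le_of_le_normalizer hQR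
    have h2 : ⁅pc p K, Q⁆ ≤ Q := by
      rw [Subgroup.commutator_comm]; exact commutator_le_of_le_normalizer hRQ
    have h3 : pc p K ⊓ L ≤ pc p L :=
      le_pc inf_le_right (hRp.to_le inf_le_left)
        (le_normalizer_inf' (hLK.trans hKR) Subgroup.le_normalizer)
    exact (le_inf h1 (h2.trans hQL)).trans h3
  have hEN : L ⊓ Subgroup.centralizer ((pc p L : Subgroup H) : Set H) ≤
      Subgroup.normalizer (Q : Set H) := by
    apply wc_le_normalizer_of_chain hQp hwc (hQL.trans hLE) hRp hQR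
      ((inf_le_left.trans hLK).trans hKR)
    · exact (inf_le_inf_right _ (inf_le_left.trans hLK)).trans hK
    · exact inf_le_right.trans (Subgroup.centralizer_le hVP)
  have hQE : ⁅Q, L ⊓ Subgroup.centralizer ((pc p L : Subgroup H) : Set H)⁆ ≤ pc p L := by
    have h1 : ⁅Q, L ⊓ Subgroup.centralizer ((pc p L : Subgroup H) : Set H)⁆ ≤ Q :=
      commutator_le_of_le_normalizer hEN
    have h2 : ⁅Q, L ⊓ Subgroup.centralizer ((pc p L : Subgroup H) : Set H)⁆ ≤
        L ⊓ Subgroup.centralizer ((pc p L : Subgroup H) : Set H) := by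
      rw [Subgroup.commutator_comm]; exact commutator_le_of_le_normalizer (hQL.trans hLE)
    have h3 : Q ⊓ (L ⊓ Subgroup.centralizer ((pc p L : Subgroup H) : Set H)) ≤
        pc p (L ⊓ Subgroup.centralizer ((pc p L : Subgroup H) : Set H)) :=
      le_pc inf_le_right (hQp.to_le inf_le_left)
        (le_normalizer_inf' hEN Subgroup.le_normalizer)
    have h4 : pc p (L ⊓ Subgroup.centralizer ((pc p L : Subgroup H) : Set H)) ≤ pc p L :=
      pc_le_pc_of_normal inf_le_left hLE
    exact (le_inf h1 h2).trans (h3.trans h4)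
  have hEp : IsPGroup p ↥(L ⊓ Subgroup.centralizer ((pc p L : Subgroup H) : Set H)) := by
    apply isPGroup_of_coprime_trivial
    intro x hx hcop
    have hxc : x ∈ Subgroup.centralizer (Q : Set H) := by
      rw [Subgroup.mem_centralizer_iff]
      intro q hq
      apply comm_of_coprime_step x q hcop
      · exact Subgroup.mem_centralizer_iff.mp (Subgroup.mem_inf.mp hx).2 _
          (hQE (comm_mem_commutator hq hx))
      · exact isPGroup_mem_pow (pc_isPGroup L) (hQE (comm_mem_commutator hq hx))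
    obtain ⟨k, hk⟩ := isPGroup_mem_pow hQp (hCQ hxc)
    exact eq_one_of_coprime_of_pow hcop hk
  unfold CharPA
  exact le_pc inf_le_left hEp hLE

/-- If `C_L(y)` has characteristic `p` for some `y ∈ O_p(L)`, then so does `L`. -/
theorem charPA_of_inf_centralizer_singleton [Finite H] [Fact p.Prime] {L : Subgroup H} {y : H}
    (hy : y ∈ pc p L) (hK : CharPA p (L ⊓ Subgroup.centralizer ({y} : Set H))) :
    CharPA p L := by
  have hLP : L ≤ Subgroup.normalizer ((pc p L : Subgroup H) : Set H) := le_normalizer_pc L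
  have hLC : L ≤ Subgroup.normalizer
      ((L ⊓ Subgroup.centralizer ((pc p L : Subgroup H) : Set H) : Subgroup H) : Set H) :=
    le_normalizer_inf' Subgroup.le_normalizer
      (hLP.trans (normalizer_le_normalizer_centralizer _))
  have hCD : L ⊓ Subgroup.centralizer ((pc p L : Subgroup H) : Set H) ≤
      L ⊓ Subgroup.centralizer ({y} : Set H) :=
    inf_le_inf_left _ (Subgroup.centralizer_le (Set.singleton_subset_iff.mpr hy))
  have hC : CharPA p (L ⊓ Subgroup.centralizer ((pc p L : Subgroup H) : Set H)) :=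
    charPA_of_normal hK hCD (inf_le_left.trans hLC)
  have hpc : pc p (L ⊓ Subgroup.centralizer ((pc p L : Subgroup H) : Set H)) ≤ pc p L :=
    pc_le_pc_of_normal inf_le_left hLC
  unfold CharPA at hC ⊢
  intro x hx
  apply hpc
  apply hC
  exact Subgroup.mem_inf.mpr ⟨hx, Subgroup.centralizer_le hpc (Subgroup.mem_inf.mp hx).2⟩

/-- The structure of `C_H(O_p(L))` for `L` containing a weakly closed `p`-subgroup `Q` with
`C_H(Q) ≤ Q`, inside a subgroup `K` of characteristic `p`. -/
theorem wc_centralizer_pc [Finite H] [Fact p.Prime] {Q : Subgroup H} (hQp : IsPGroup p Q)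
    (hwc : IsWeaklyClosedSubgroup p Q) (hCQ : Subgroup.centralizer (Q : Set H) ≤ Q)
    {K L : Subgroup H} (hK : CharPA p K) (hQL : Q ≤ L) (hQK : Q ≤ K)
    (hDK : Subgroup.centralizer ((pc p L : Subgroup H) : Set H) ≤ K) (hL : CharPA p L) :
    ⁅Q, Subgroup.centralizer ((pc p L : Subgroup H) : Set H)⁆ ≤ Q ⊓ pc p L ∧
      IsPGroup p ↥(Subgroup.centralizer ((pc p L : Subgroup H) : Set H)) := by
  have hLP : L ≤ Subgroup.normalizer ((pc p L : Subgroup H) : Set H) := le_normalizer_pc L
  have hLD : L ≤ Subgroup.normalizer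
      ((Subgroup.centralizer ((pc p L : Subgroup H) : Set H) : Subgroup H) : Set H) :=
    hLP.trans (normalizer_le_normalizer_centralizer _)
  have hQD := hQL.trans hLD
  have hM : CharPA p (Subgroup.centralizer ((pc p L : Subgroup H) : Set H) ⊔ Q) :=
    charPA_of_wc_le hQp hwc hCQ hK le_sup_right (sup_le hDK hQK)
  have hDc : CharPA p (Subgroup.centralizer ((pc p L : Subgroup H) : Set H)) :=
    charPA_of_normal hM le_sup_left (sup_le Subgroup.le_normalizer hQD)
  have hWp : IsPGroup p (pc p (Subgroup.centralizer ((pc p L : Subgroup H) : Set H))) :=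
    pc_isPGroup _
  have hDW := le_normalizer_pc (p := p) (Subgroup.centralizer ((pc p L : Subgroup H) : Set H))
  have hND : Subgroup.normalizer
      ((Subgroup.centralizer ((pc p L : Subgroup H) : Set H) : Subgroup H) : Set H) ≤
      Subgroup.normalizer
        ((pc p (Subgroup.centralizer ((pc p L : Subgroup H) : Set H)) : Subgroup H) : Set H) :=
    normalizer_le_normalizer_pCoreOf p _
  have hQW := hQD.trans hND
  have hWQ := wc_le_normalizer_of_pgroup hQp hwc hWp hQW
  have hVP : ⁅pc p (Subgroup.centralizer ((pc p L : Subgroup H) : Set H)), Q⁆ ≤ pc p L := by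
    have h1 : ⁅pc p (Subgroup.centralizer ((pc p L : Subgroup H) : Set H)), Q⁆ ≤
        pc p (Subgroup.centralizer ((pc p L : Subgroup H) : Set H)) :=
      commutator_le_of_le_normalizer hQW
    have h2 : ⁅pc p (Subgroup.centralizer ((pc p L : Subgroup H) : Set H)), Q⁆ ≤ Q := by
      rw [Subgroup.commutator_comm]; exact commutator_le_of_le_normalizer hWQ
    have h3 : pc p (Subgroup.centralizer ((pc p L : Subgroup H) : Set H)) ⊓ L ≤ pc p L :=
      le_pc inf_le_right (hWp.to_le inf_le_left)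
        (le_normalizer_inf' (hLD.trans hND) Subgroup.le_normalizer)
    exact (le_inf h1 (h2.trans hQL)).trans h3
  have hDN : Subgroup.centralizer ((pc p L : Subgroup H) : Set H) ≤
      Subgroup.normalizer (Q : Set H) :=
    wc_le_normalizer_of_chain hQp hwc hQD hWp hQW hDW hDc (Subgroup.centralizer_le hVP)
  have hQDP : ⁅Q, Subgroup.centralizer ((pc p L : Subgroup H) : Set H)⁆ ≤ Q ⊓ pc p L := by
    have h1 : ⁅Q, Subgroup.centralizer ((pc p L : Subgroup H) : Set H)⁆ ≤ Q :=
      commutator_le_of_le_normalizer hDN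
    have h2 : ⁅Q, Subgroup.centralizer ((pc p L : Subgroup H) : Set H)⁆ ≤
        Subgroup.centralizer ((pc p L : Subgroup H) : Set H) := by
      rw [Subgroup.commutator_comm]; exact commutator_le_of_le_normalizer hQD
    exact le_inf h1 ((le_inf (h1.trans hQL) h2).trans hL)
  refine ⟨hQDP, ?_⟩
  apply isPGroup_of_coprime_trivial
  intro x hx hcop
  have hxc : x ∈ Subgroup.centralizer (Q : Set H) := by
    rw [Subgroup.mem_centralizer_iff]
    intro q hq
    apply comm_of_coprime_step x q hcop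
    · exact Subgroup.mem_centralizer_iff.mp hx _ (hQDP (comm_mem_commutator hq hx)).2
    · exact isPGroup_mem_pow (pc_isPGroup L) (hQDP (comm_mem_commutator hq hx)).2
  obtain ⟨k, hk⟩ := isPGroup_mem_pow hQp (hCQ hxc)
  exact eq_one_of_coprime_of_pow hcop hk

end Cfsg.Agent.Helper16
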